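import Cfsg.Agent.Lib.QS3.PairCase
import Cfsg.Agent.Lib.QS3.Zero.Main

/-!
Groups with an involution centraliser `Q.S₃`: the classification.
-/

set_option autoImplicit false
set_option maxRecDepth 100000
set_option linter.unusedSectionVars false

namespace CfsgQS3

theorem two_row2_0 : ((row2.opts.drop 0).take 4).all (fun ys => eOK row2 ys) = true := by decide +kernel

theorem two_row2_1 : ((row2.opts.drop 4).take 4).all (fun ys => eOK row2 ys) = true := by decide +kernel

theorem two_row2_2 : ((row2.opts.drop 8).take 4).all (fun ys => eOK row2 ys) = true := by decide +kernel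

theorem two_row2_3 : ((row2.opts.drop 12).take 4).all (fun ys => eOK row2 ys) = true := by decide +kernel

theorem two_row3_0 : ((row3.opts.drop 0).take 4).all (fun ys => eOK row3 ys) = true := by decide +kernel

theorem two_row3_1 : ((row3.opts.drop 4).take 4).all (fun ys => eOK row3 ys) = true := by decide +kernel

theorem two_row3_2 : ((row3.opts.drop 8).take 4).all (fun ys => eOK row3 ys) = true := by decide +kernel

theorem two_row3_3 : ((row3.opts.drop 12).take 4).all (fun ys => eOK row3 ys) = true := by decide +kernel

theorem two_row4_0 : ((row4.opts.drop 0).take 4).all (fun ys => eOK row4 ys) = true := by decide +kernel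

theorem two_row4_1 : ((row4.opts.drop 4).take 4).all (fun ys => eOK row4 ys) = true := by decide +kernel

theorem two_row4_2 : ((row4.opts.drop 8).take 4).all (fun ys => eOK row4 ys) = true := by decide +kernel

theorem two_row4_3 : ((row4.opts.drop 12).take 4).all (fun ys => eOK row4 ys) = true := by decide +kernel

theorem two_row2 : row2.opts.all (fun ys => eOK row2 ys) = true := by
  have e : row2.opts = (row2.opts.drop 0).take 4 ++
      (row2.opts.drop 4).take 4 ++
      (row2.opts.drop 8).take 4 ++
      (row2.opts.drop 12).take 4 := rfl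
  rw [e]
  simp only [List.all_append, two_row2_0, two_row2_1, two_row2_2, two_row2_3, Bool.and_self]

theorem two_row3 : row3.opts.all (fun ys => eOK row3 ys) = true := by
  have e : row3.opts = (row3.opts.drop 0).take 4 ++
      (row3.opts.drop 4).take 4 ++
      (row3.opts.drop 8).take 4 ++
      (row3.opts.drop 12).take 4 := rfl
  rw [e]
  simp only [List.all_append, two_row3_0, two_row3_1, two_row3_2, two_row3_3, Bool.and_self]

theorem two_row4 : row4.opts.all (fun ys => eOK row4 ys) = true := by
  have e : row4.opts = (row4.opts.drop 0).take 4 ++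
      (row4.opts.drop 4).take 4 ++
      (row4.opts.drop 8).take 4 ++
      (row4.opts.drop 12).take 4 := rfl
  rw [e]
  simp only [List.all_append, two_row4_0, two_row4_1, two_row4_2, two_row4_3, Bool.and_self]

theorem two_rows_ok : ([row2, row3, row4].all fun R => R.opts.all fun ys => eOK R ys) = true := by
  simp only [List.all_cons, List.all_nil, two_row2, two_row3, two_row4, Bool.and_self]

theorem odd_types_empty : (rows.all fun R => (R.ty == 0 || R.ty == 2) || R.opts.isEmpty) = true := by decide +kernel

namespace Dat

variable {G : Type*} [Group G] [Finite G] {s : G} {k : ℕ} {φ : ℕ → G} (D : Dat s k φ)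
include D

/-- A conjugate of `s` in the class of six elements gives a row whose code is one. -/
theorem exists_row {n₀ : ℕ} (hn : n₀ < 192) (h6 : n₀ % 6 = 0) (hU : InU s φ n₀) (h24 : n₀ ≠ 24) :
    ∃ R ∈ rows, R.ty = k ∧ InU s φ R.r := by
  have hs := D.inU_six hn h6 hU h24
  have hr := all_codes (six_reps k D.type) hn
  simp only [hs, Bool.not_true, Bool.false_or, List.any_eq_true, Bool.and_eq_true, beq_iff_eq] at hr
  obtain ⟨c, hc, R, hR, hty, e⟩ := hr
  exact ⟨R, hR, hty, e ▸ D.inU_conj hn (List.mem_range.1 hc) hU⟩

/-- The classification in coordinates. -/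
theorem classification {n₀ : ℕ} (hn : n₀ < 192) (h6 : n₀ % 6 = 0) (hU : InU s φ n₀) (h24 : n₀ ≠ 24) :
    (∃ (N : Subgroup G) (_hN : N.Normal), IsMulCommutative N ∧ (∀ n ∈ N, n ^ 2 = 1) ∧ Nat.card N = 8 ∧
        Nonempty (G ⧸ N ≃* Matrix.ProjectiveSpecialLinearGroup (Fin 3) (ZMod 2))) ∨
    Nonempty (G ≃* alternatingGroup (Fin 8)) ∨ Nonempty (G ≃* alternatingGroup (Fin 9)) ∨ Cfsg.Spor.IsoM12 G := by
  obtain ⟨R, hR, hk, hUR⟩ := D.exists_row hn h6 hU h24
  have hodd : k = 0 ∨ k = 2 := by
    obtain ⟨α, ys, hA⟩ := D.exists_act hR hk hUR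
    have h := List.all_eq_true.1 odd_types_empty R hR
    simp only [Bool.or_eq_true, beq_iff_eq, List.isEmpty_iff] at h
    rcases h with (h | h) | h
    · exact Or.inl (hk.symm.trans h)
    · exact Or.inr (hk.symm.trans h)
    · exact absurd hA.mem (by rw [h]; exact List.not_mem_nil)
  rcases hodd with rfl | rfl
  · have h54 : InU s φ 54 := by
      have hr : R = row0 := by
        simp only [rows, List.mem_cons, List.not_mem_nil, or_false] at hR
        rcases hR with rfl | rfl | rfl | rfl | rfl | rfl | rfl | rfl <;>
          simp_all [row0, row1, row2, row3, row4, row5, row6, row7]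
      subst hr
      exact hUR
    rcases D.zero_case h54 with h | h
    · exact Or.inl h
    · exact Or.inr (Or.inr (Or.inr h))
  · obtain ⟨g, hg⟩ := hU
    rcases D.two_split hn h6 hg h24 with ⟨R, hR, hty, hr, hsix⟩ | ⟨φ', α, β, c, hc, D', hA, hB, hcomm, h156⟩
    · obtain ⟨α, ys, hA⟩ := D.exists_act hR hty hr
      have hR' : R ∈ [row2, row3, row4] := by
        simp only [rows, List.mem_cons, List.not_mem_nil, or_false] at hR
        rcases hR with rfl | rfl | rfl | rfl | rfl | rfl | rfl | rfl <;>
          simp_all [row0, row1, row2, row3, row4, row5, row6, row7]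
      exact Or.inl (D.eCase hR hty hA (List.all_eq_true.1 (List.all_eq_true.1 two_rows_ok R hR') ys hA.mem) hsix hr)
    · rcases D'.pair_case hc hA hB hcomm h156 with h | h
      · exact Or.inr (Or.inl h)
      · exact Or.inr (Or.inr (Or.inl h))

end Dat

end CfsgQS3
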