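import Cfsg.Agent.Lib.QS3.Table

/-!
Groups with an involution centraliser `Q.S₃`: the table of actions is complete.
-/

set_option autoImplicit false
set_option maxRecDepth 100000

namespace CfsgQS3

/-- The listed centraliser, generators and words are correct. -/
def wordsOK (R : Row) : Bool :=
  R.cen == mcent R.ty R.r && R.gens.length == 3 &&
    R.cen.all fun x => fap R R.gens x == x && (R.ws.getD (R.cen.idxOf x) []).all fun i => decide (i < 3)

/-- The image of a square in the four group. -/
def sqImg (R : Row) (q : ℕ) : List ℕ :=
  if q == 0 then [0] else if q == 24 then [R.r] else if q == R.r then [mmul R.ty R.r 24] else []

/-- The square of the image is the image of the square of the generator, as far as this is known. -/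
def pre (R : Row) (i y : ℕ) : Bool :=
  (sqImg R (mmul R.ty (R.gens.getD i 0) (R.gens.getD i 0))).all fun v => mmul R.ty y y == v

/-- The images can define an automorphism of order three carrying `s` to the code `r`. -/
def isOpt (R : Row) (ys : List ℕ) : Bool :=
  fap R ys 24 == R.r && fap R ys R.r == mmul R.ty R.r 24 &&
    [0, 1, 2].all fun i => fap R ys (fap R ys (ys.getD i 0)) == R.gens.getD i 0

theorem words_ok : rows.all wordsOK = true := by decide +kernel

/-- All images giving such an automorphism are listed. -/
def complete (R : Row) : Bool :=
  R.cen.all fun a => !pre R 0 a || R.cen.all fun b => !pre R 1 b || R.cen.all fun c => !pre R 2 c ||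
    !isOpt R [a, b, c] || R.opts.contains [a, b, c]

theorem complete_row0 : complete row0 = true := by decide +kernel

theorem complete_row1 : complete row1 = true := by decide +kernel

theorem complete_row2 : complete row2 = true := by decide +kernel

theorem complete_row3 : complete row3 = true := by decide +kernel

theorem complete_row4 : complete row4 = true := by decide +kernel

theorem complete_row5 : complete row5 = true := by decide +kernel

theorem complete_row6 : complete row6 = true := by decide +kernel

theorem complete_row7 : complete row7 = true := by decide +kernel

theorem opts_complete : rows.all complete = true := by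
  simp only [rows, List.all_cons, List.all_nil, Bool.and_eq_true, complete_row0, complete_row1, complete_row2,
    complete_row3, complete_row4, complete_row5, complete_row6, complete_row7, and_self]

end CfsgQS3
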