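import Cfsg.Agent.Lib.QS3.Checks
import Cfsg.Agent.Lib.QS3.Options

/-!
Groups with an involution centraliser `Q.S₃`: the four groups of conjugates of `s` and the elements of order three
acting on them.
-/

set_option autoImplicit false
set_option maxRecDepth 100000

namespace CfsgQS3

/-- The conjugate of `s` with code `n`. -/
def InU {G : Type*} [Group G] (s : G) (φ : ℕ → G) (n : ℕ) : Prop := ∃ g : G, g * s * g⁻¹ = φ n

namespace Dat

variable {G : Type*} [Group G] {s : G} {k : ℕ} {φ : ℕ → G} (D : Dat s k φ)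
include D

theorem inU_z : InU s φ 24 := ⟨1, by rw [D.zc]; group⟩

theorem inU_isInv {n : ℕ} (hn : n < 192) (hU : InU s φ n) (h : n ≠ 24) : isInv k n = true := by
  obtain ⟨g, hg⟩ := hU
  have h2 : mmul k n n = 0 := (D.sq_iff hn).1 (by
    rw [← hg, show g * s * g⁻¹ * (g * s * g⁻¹) = g * (s * s) * g⁻¹ by group, D.s_sq]; group)
  have h0 : n ≠ 0 := fun e => by
    rw [e, D.one] at hg
    exact D.s_ne (by calc s = g⁻¹ * (g * s * g⁻¹) * g := by group
      _ = 1 := by rw [hg]; group)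
  simp [isInv, h, h2, h0]

theorem inU_conj {n c : ℕ} (hn : n < 192) (hc : c < 192) (hU : InU s φ n) : InU s φ (mconj k c n) := by
  obtain ⟨g, hg⟩ := hU
  exact ⟨φ c * g, by rw [D.conj hc hn, ← hg]; group⟩

/-- The code of the preimage of `s`. -/
theorem partner {g : G} {n : ℕ} (hn : n < 192) (hg : g * s * g⁻¹ = φ n) (h24 : n ≠ 24) :
    ∃ m < 192, g⁻¹ * s * g = φ m ∧ InU s φ m ∧ m ≠ 24 ∧ (mcent k m).length = (mcent k n).length ∧ isInv k m = true := by
  have hc : g⁻¹ * s * g * s = s * (g⁻¹ * s * g) := by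
    have e := D.comm_s hn
    rw [← hg] at e
    calc g⁻¹ * s * g * s = g⁻¹ * (s * (g * s * g⁻¹)) * g := by group
      _ = g⁻¹ * (g * s * g⁻¹ * s) * g := by rw [e]
      _ = _ := by group
  obtain ⟨m, hm, e⟩ := (D.cent _).1 hc
  have hU : InU s φ m := ⟨g⁻¹, by rw [e]; group⟩
  have h2 : m ≠ 24 := fun em => by
    subst em
    rw [D.zc] at e
    exact h24 (D.inj n hn 24 (by norm_num) (by
      rw [D.zc, ← hg]
      calc g * s * g⁻¹ = g * (g⁻¹ * s * g) * g⁻¹ := by rw [← e]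
        _ = s := by group))
  refine ⟨m, hm, e.symm, hU, h2, ?_, D.inU_isInv hm hU h2⟩
  rw [← D.card_cent2 hm, ← D.card_cent2 hn, D.transport hn hm hg e.symm]

/-- The conjugates of `s` in `Q` other than `s` lie in classes of six elements. -/
theorem inU_six {n : ℕ} (hn : n < 192) (h6 : n % 6 = 0) (hU : InU s φ n) (h24 : n ≠ 24) : isSix k n = true := by
  have hinv := D.inU_isInv hn hU h24
  have h := all_codes (class_sizes k D.type) hn
  simp only [hinv, Bool.not_true, Bool.false_or, h6, bne_self_eq_false, Bool.false_and, Bool.false_or,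
    beq_self_eq_true, Bool.true_and, Bool.or_eq_true, beq_iff_eq, Bool.and_eq_true, decide_eq_true_eq] at h
  rcases h with h | ⟨hk, h16⟩
  · simp [isSix, hinv, h6, h]
  exfalso
  obtain ⟨g, hg⟩ := hU
  obtain ⟨m, hm, e, -, -, hlen, hinv'⟩ := D.partner hn hg h24
  have h1 := all_codes (twelve_commutator k hk) hn
  have h2 := all_codes (twelve_commutator k hk) hm
  simp only [hinv, hinv', hlen, h16, bne_self_eq_false, Bool.not_true, Bool.false_or, Bool.and_eq_true,
    List.any_eq_true, List.all_eq_true, beq_iff_eq, Bool.or_eq_true] at h1 h2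
  obtain ⟨⟨a, ha, b, hb, hab⟩, -⟩ := h1
  obtain ⟨ha', ha''⟩ := mem_mcent.1 ha
  obtain ⟨hb', hb''⟩ := mem_mcent.1 hb
  have eab : φ a * φ b * (φ a)⁻¹ = s * φ b := by rw [← D.conj ha' hb', hab, D.mul _ (by norm_num) _ hb', D.zc]
  have hts : g⁻¹ * φ n * g = s := by rw [← hg]; group
  have mem : ∀ c < 192, mmul k c n = mmul k n c → ∃ c' ∈ mcent k m, φ c' = g⁻¹ * φ c * g := by
    intro c hc hcn
    have hc1 := D.comm_s hc
    have hc2 := (D.commute_iff hc hn).2 hcn
    refine D.mem_cent2 hm ?_ ?_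
    · rw [← hts]
      calc g⁻¹ * φ c * g * (g⁻¹ * φ n * g) = g⁻¹ * (φ c * φ n) * g := by group
        _ = _ := by rw [hc2]; group
    · rw [← e]
      calc g⁻¹ * φ c * g * (g⁻¹ * s * g) = g⁻¹ * (φ c * s) * g := by group
        _ = _ := by rw [hc1]; group
  obtain ⟨a₁, ha₁, ea⟩ := mem a ha' ha''
  obtain ⟨b₁, hb₁, eb⟩ := mem b hb' hb''
  obtain ⟨-, hall⟩ := h2
  have la := (mem_mcent.1 ha₁).1
  have lb := (mem_mcent.1 hb₁).1
  have e1 : φ a₁ * φ b₁ * (φ a₁)⁻¹ = φ m * φ b₁ := by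
    rw [ea, eb, ← e]
    calc g⁻¹ * φ a * g * (g⁻¹ * φ b * g) * (g⁻¹ * φ a * g)⁻¹ = g⁻¹ * (φ a * φ b * (φ a)⁻¹) * g := by group
      _ = _ := by rw [eab]; group
  rw [← D.conj la lb] at e1
  have hne : m ≠ 24 ∧ m ≠ 0 := by
    simp only [isInv, Bool.and_eq_true, bne_iff_ne, ne_eq, beq_iff_eq] at hinv'
    exact ⟨hinv'.1.2, hinv'.1.1⟩
  rcases hall a₁ ha₁ b₁ hb₁ with e2 | e2
  · rw [e2] at e1
    exact hne.2 ((D.eq_one_iff hm).1 (mul_eq_right.1 e1.symm))
  · rw [e2, D.mul _ (by norm_num) _ lb] at e1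
    exact hne.1 (D.inj _ hm _ (by norm_num) (mul_right_cancel e1).symm)

/-- An element of order three permuting `s`, `φ r` and their product. -/
theorem exists_alpha {r : ℕ} (hr : r < 192) (h6 : isSix k r = true) (hU : InU s φ r) :
    ∃ α : G, α * α * α = 1 ∧ α * s * α⁻¹ = φ r ∧ α * φ r * α⁻¹ = φ r * s := by
  obtain ⟨g, hg⟩ := hU
  simp only [isSix, Bool.and_eq_true, beq_iff_eq] at h6
  obtain ⟨⟨hinv, hq⟩, h32⟩ := h6
  have h24 : r ≠ 24 := by
    simp only [isInv, Bool.and_eq_true, bne_iff_ne, ne_eq] at hinv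
    exact hinv.1.2
  have six : ∀ m < 192, isInv k m = true → (mcent k m).length = 32 → isSix k m = true := by
    intro m hm hi hl
    have h := all_codes (class_sizes k D.type) hm
    simp only [hi, hl, Bool.not_true, Bool.false_or, Bool.or_eq_true, Bool.and_eq_true, bne_iff_ne, ne_eq,
      beq_iff_eq, decide_eq_true_eq] at h
    rcases h with ⟨-, h | h⟩ | ⟨h, -⟩
    · exact absurd h (by norm_num)
    · exact absurd h (by norm_num)
    · simp [isSix, hi, hl, h]
  obtain ⟨m, hm, e, -, -, hlen, hinv'⟩ := D.partner hr hg h24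
  have swap : ∀ r < 192, isSix k r = true → ∃ h < 192, φ h * φ r * (φ h)⁻¹ = φ r * s := by
    intro r hr h6
    have h := all_codes (six_swap k D.type) hr
    simp only [h6, Bool.not_true, Bool.false_or, List.any_eq_true, beq_iff_eq] at h
    obtain ⟨c, hc, e⟩ := h
    have hc' : c < 192 := List.mem_range.1 hc
    exact ⟨c, hc', by rw [← D.conj hc' hr, e, D.mul _ hr _ (by norm_num), D.zc]⟩
  obtain ⟨h, hh, eh⟩ := swap r hr (by simp [isSix, hinv, hq, h32])
  obtain ⟨h', hh', eh'⟩ := swap m hm (six m hm hinv' (hlen.trans h32))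
  set A := φ h
  set B := g * φ h' * g⁻¹
  have hsA : A * s * A⁻¹ = s := by rw [D.comm_s hh, mul_inv_cancel_right]
  have hrB : B * φ r * B⁻¹ = φ r := by
    rw [← hg]
    calc g * φ h' * g⁻¹ * (g * s * g⁻¹) * (g * φ h' * g⁻¹)⁻¹ = g * (φ h' * s * (φ h')⁻¹) * g⁻¹ := by group
      _ = _ := by rw [D.comm_s hh', mul_inv_cancel_right]
  have hsB : B * s * B⁻¹ = s * φ r := by
    calc g * φ h' * g⁻¹ * s * (g * φ h' * g⁻¹)⁻¹ = g * (φ h' * (g⁻¹ * s * g) * (φ h')⁻¹) * g⁻¹ := by group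
      _ = g * (φ m * s) * g⁻¹ := by rw [e, eh']
      _ = _ := by rw [← e, ← hg]; group
  have hrs : φ r * s = s * φ r := D.comm_s hr
  set β := A * B
  have b1 : β * s * β⁻¹ = φ r := by
    calc A * B * s * (A * B)⁻¹ = A * (B * s * B⁻¹) * A⁻¹ := by group
      _ = (A * s * A⁻¹) * (A * φ r * A⁻¹) := by rw [hsB]; group
      _ = s * (φ r * s) := by rw [hsA, eh]
      _ = φ r := by rw [hrs, ← mul_assoc, D.s_sq, one_mul]
  have b2 : β * φ r * β⁻¹ = φ r * s := by
    calc A * B * φ r * (A * B)⁻¹ = A * (B * φ r * B⁻¹) * A⁻¹ := by group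
      _ = φ r * s := by rw [hrB, eh]
  have b3 : β * (φ r * s) * β⁻¹ = s := by
    calc β * (φ r * s) * β⁻¹ = (β * φ r * β⁻¹) * (β * s * β⁻¹) := by group
      _ = φ r * (s * φ r) := by rw [b1, b2, mul_assoc]
      _ = s := by
        rw [← hrs, ← mul_assoc, (D.sq_iff hr).2 (by simp only [isInv, Bool.and_eq_true, beq_iff_eq] at hinv; exact hinv.2),
          one_mul]
  -- the cube of `β` is a 2-element fixing the four group
  have c1 : (β * β * β) * s * (β * β * β)⁻¹ = s := by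
    rw [show β * β * β * s * (β * β * β)⁻¹ = β * (β * (β * s * β⁻¹) * β⁻¹) * β⁻¹ by group, b1, b2, b3]
  have c2 : (β * β * β) * φ r * (β * β * β)⁻¹ = φ r := by
    rw [show β * β * β * φ r * (β * β * β)⁻¹ = β * (β * (β * φ r * β⁻¹) * β⁻¹) * β⁻¹ by group, b2, b3, b1]
  obtain ⟨p, hp, ep⟩ := D.mem_cent2 hr (mul_inv_eq_iff_eq_mul.1 c1) (mul_inv_eq_iff_eq_mul.1 c2)
  have hp8 : (β * β * β) ^ 8 = 1 := by
    have h := all_codes (p_exponent k D.type) hr
    simp only [show isSix k r = true by simp [isSix, hinv, hq, h32], Bool.not_true, Bool.false_or, List.all_eq_true,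
      beq_iff_eq] at h
    have hl := (mem_mcent.1 hp).1
    have e8 := congrArg φ (h p hp)
    rw [D.one, D.mul _ (D.lt_mul (D.lt_mul hl hl) (D.lt_mul hl hl)) _ (D.lt_mul (D.lt_mul hl hl) (D.lt_mul hl hl)),
      D.mul _ (D.lt_mul hl hl) _ (D.lt_mul hl hl), D.mul _ hl _ hl, ep] at e8
    simpa [pow_succ, mul_assoc] using e8
  refine ⟨β ^ 16, ?_, ?_, ?_⟩
  · rw [← pow_add, ← pow_add, show 16 + 16 + 16 = 3 * 16 from rfl, pow_mul, show β ^ 3 = β * β * β by
      rw [pow_succ, pow_two], show 16 = 8 * 2 from rfl, pow_mul, hp8, one_pow]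
  all_goals
    have e15 : β ^ 16 = β * (β * β * β) ^ 5 := by
      rw [show β * β * β = β ^ 3 by rw [pow_succ, pow_two], ← pow_mul, ← pow_succ']
    rw [e15]
  · have hc : Commute (β * β * β) s := mul_inv_eq_iff_eq_mul.1 c1
    calc β * (β * β * β) ^ 5 * s * (β * (β * β * β) ^ 5)⁻¹
        = β * ((β * β * β) ^ 5 * s * ((β * β * β) ^ 5)⁻¹) * β⁻¹ := by group
      _ = φ r := by rw [(hc.pow_left 5).eq, mul_inv_cancel_right, b1]
  · have hc : Commute (β * β * β) (φ r) := mul_inv_eq_iff_eq_mul.1 c2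
    calc β * (β * β * β) ^ 5 * φ r * (β * (β * β * β) ^ 5)⁻¹
        = β * ((β * β * β) ^ 5 * φ r * ((β * β * β) ^ 5)⁻¹) * β⁻¹ := by group
      _ = φ r * s := by rw [(hc.pow_left 5).eq, mul_inv_cancel_right, b2]

end Dat

/-- An element of order three acting on the centraliser of the four group of a row. -/
structure Act {G : Type*} [Group G] (s : G) (φ : ℕ → G) (R : Row) (ys : List ℕ) (α : G) : Prop where
  cube : α * α * α = 1
  conj_s : α * s * α⁻¹ = φ R.r
  conj_r : α * φ R.r * α⁻¹ = φ R.r * s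
  mem : ys ∈ R.opts
  act : ∀ x ∈ R.cen, α * φ x * α⁻¹ = φ (fap R ys x)

namespace Dat

variable {G : Type*} [Group G] {s : G} {k : ℕ} {φ : ℕ → G} (D : Dat s k φ)
include D

/-- An element of order three permuting the four group acts by one of the listed actions. -/
theorem act_of {R : Row} (hR : R ∈ rows) (hk : R.ty = k) {α : G} (h3 : α * α * α = 1) (hs : α * s * α⁻¹ = φ R.r)
    (hr' : α * φ R.r * α⁻¹ = φ R.r * s) : ∃ ys, Act s φ R ys α := by
  have hok := List.all_eq_true.1 rows_ok R hR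
  have hw := List.all_eq_true.1 words_ok R hR
  simp only [Bool.and_eq_true, decide_eq_true_eq] at hok
  simp only [wordsOK, Bool.and_eq_true, beq_iff_eq, List.all_eq_true, decide_eq_true_eq] at hw
  obtain ⟨⟨⟨-, hr⟩, hsix⟩, hgens⟩ := hok
  obtain ⟨⟨hcen, hlen⟩, hwx⟩ := hw
  subst hk
  have hmap : ∀ x ∈ R.cen, ∃ y ∈ R.cen, α * φ x * α⁻¹ = φ y := by
    intro x hx
    rw [hcen] at hx ⊢
    obtain ⟨hx', hxr⟩ := mem_mcent.1 hx
    have e2 := (D.commute_iff hx' hr).2 hxr
    have e1 : α * φ x * α⁻¹ * φ R.r = φ R.r * (α * φ x * α⁻¹) := by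
      rw [← hs]
      calc α * φ x * α⁻¹ * (α * s * α⁻¹) = α * (φ x * s) * α⁻¹ := by group
        _ = _ := by rw [D.comm_s hx']; group
    have e3 : α * φ x * α⁻¹ * (φ R.r * s) = φ R.r * s * (α * φ x * α⁻¹) := by
      rw [← hr']
      calc α * φ x * α⁻¹ * (α * φ R.r * α⁻¹) = α * (φ x * φ R.r) * α⁻¹ := by group
        _ = _ := by rw [e2]; group
    rw [← mul_assoc, e1, mul_assoc, mul_assoc (φ R.r)] at e3
    obtain ⟨y, hy, e⟩ := D.mem_cent2 hr (mul_left_cancel e3) e1
    exact ⟨y, hy, e.symm⟩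
  have hgen : ∀ i < 3, R.gens.getD i 0 ∈ R.cen := by
    intro i hi
    rw [List.getD_eq_getElem?_getD, List.getElem?_eq_getElem (hlen.symm ▸ hi)]
    exact List.contains_iff_mem.1 (List.all_eq_true.1 hgens _ (List.getElem_mem _))
  have hlt : ∀ x ∈ R.cen, x < 192 := fun x hx => (mem_mcent.1 (hcen ▸ hx)).1
  choose y hy hey using fun i : Fin 3 => hmap _ (hgen i i.2)
  set ys := [y 0, y 1, y 2] with hys
  have hyd : ∀ i < 3, φ (ys.getD i 0) = α * φ (R.gens.getD i 0) * α⁻¹ ∧ ys.getD i 0 < 192 := by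
    intro i hi
    interval_cases i
    · exact ⟨(hey 0).symm, hlt _ (hy 0)⟩
    · exact ⟨(hey 1).symm, hlt _ (hy 1)⟩
    · exact ⟨(hey 2).symm, hlt _ (hy 2)⟩
  have hfap : ∀ x ∈ R.cen, φ (fap R ys x) = α * φ x * α⁻¹ ∧ fap R ys x < 192 := by
    intro x hx
    obtain ⟨hgx, hwl⟩ := hwx x hx
    set w := R.ws.getD (R.cen.idxOf x) []
    have hb : ∀ v ∈ (w.map fun i => ys.getD i 0), v < 192 := fun v hv => by
      obtain ⟨i, hi, rfl⟩ := List.mem_map.1 hv
      exact (hyd i (hwl i hi)).2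
    have hb' : ∀ v ∈ (w.map fun i => R.gens.getD i 0), v < 192 := fun v hv => by
      obtain ⟨i, hi, rfl⟩ := List.mem_map.1 hv
      exact hlt _ (hgen i (hwl i hi))
    obtain ⟨e1, l1⟩ := D.mword_eq _ hb
    obtain ⟨e2, -⟩ := D.mword_eq _ hb'
    refine ⟨?_, l1⟩
    rw [fap, e1]
    have e3 : φ x = ((w.map fun i => R.gens.getD i 0).map φ).prod := by rw [← e2]; exact congrArg φ hgx.symm
    rw [e3, ← MulAut.conj_apply, map_list_prod, List.map_map, List.map_map, List.map_map]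
    refine congrArg List.prod (List.map_congr_left fun i hi => ?_)
    exact (hyd i (hwl i hi)).1
  have h24 : 24 ∈ R.cen := by
    rw [hcen]
    refine mem_mcent.2 ⟨by norm_num, (D.commute_iff (by norm_num) hr).1 ?_⟩
    rw [D.zc]; exact (D.comm_s hr).symm
  have hrc : R.r ∈ R.cen := by rw [hcen]; exact mem_mcent.2 ⟨hr, rfl⟩
  have hys3 : ∀ v : Fin 3, y v ∈ R.cen := hy
  have hopt : isOpt R ys = true := by
    have hz : fap R ys 24 = R.r := D.inj _ (hfap _ h24).2 _ hr (by rw [(hfap _ h24).1, D.zc, hs])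
    have hrz : fap R ys R.r = mmul R.ty R.r 24 := D.inj _ (hfap _ hrc).2 _ (D.lt_mul hr (by norm_num))
      (by rw [(hfap _ hrc).1, hr', D.mul _ hr _ (by norm_num), D.zc])
    simp only [isOpt, Bool.and_eq_true, beq_iff_eq, List.all_eq_true]
    refine ⟨⟨hz, hrz⟩, fun i hi => ?_⟩
    have hi3 : i < 3 := by simp only [List.mem_cons, List.not_mem_nil, or_false] at hi; omega
    have hyi : ys.getD i 0 ∈ R.cen := by
      interval_cases i
      · exact hy 0
      · exact hy 1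
      · exact hy 2
    have h1 : fap R ys (ys.getD i 0) ∈ R.cen := by
      obtain ⟨z, hz, e⟩ := hmap _ hyi
      rwa [D.inj _ (hfap _ hyi).2 _ (hlt z hz) (by rw [(hfap _ hyi).1, e])]
    refine D.inj _ (hfap _ h1).2 _ (hlt _ (hgen i hi3)) ?_
    rw [(hfap _ h1).1, (hfap _ hyi).1, (hyd i hi3).1,
      show α * (α * (α * φ (R.gens.getD i 0) * α⁻¹) * α⁻¹) * α⁻¹ =
        (α * α * α) * φ (R.gens.getD i 0) * (α * α * α)⁻¹ by group, h3]
    group
  have hpre : ∀ i : Fin 3, pre R i (y i) = true := by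
    intro i
    have hg := hlt _ (hgen i i.2)
    have hy' := hlt _ (hy i)
    set g := R.gens.getD i 0 with hgdef
    have key : φ (mmul R.ty (y i) (y i)) = α * φ (mmul R.ty g g) * α⁻¹ := by
      rw [D.mul _ hy' _ hy', D.mul _ hg _ hg, ← hey i, ← hgdef]; group
    simp only [pre, sqImg, ← hgdef, List.all_eq_true, beq_iff_eq]
    intro v hv
    split_ifs at hv with q0 q24 qr
    · obtain rfl := List.mem_singleton.1 hv
      refine D.inj _ (D.lt_mul hy' hy') _ (by norm_num) ?_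
      rw [key, q0, D.one]; group
    · obtain rfl := List.mem_singleton.1 hv
      refine D.inj _ (D.lt_mul hy' hy') _ hr ?_
      rw [key, q24, D.zc, hs]
    · obtain rfl := List.mem_singleton.1 hv
      refine D.inj _ (D.lt_mul hy' hy') _ (D.lt_mul hr (by norm_num)) ?_
      rw [key, qr, hr', D.mul _ hr _ (by norm_num), D.zc]
    · exact absurd hv List.not_mem_nil
  have hc := List.all_eq_true.1 opts_complete R hR
  simp only [complete, List.all_eq_true, Bool.or_eq_true, Bool.not_eq_true'] at hc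
  refine ⟨ys, h3, hs, hr', ?_, fun x hx => ((hfap x hx).1).symm⟩
  have hm := (((hc _ (hy 0)).resolve_left (by simpa using hpre 0)) _ (hy 1))
  have hm2 := (hm.resolve_left (by simpa using hpre 1)) _ (hy 2)
  rcases hm2 with (h | h) | h
  · exact absurd h (by simpa using hpre 2)
  · rw [hys] at hopt; rw [hopt] at h; exact absurd h (by decide)
  · exact List.contains_iff_mem.1 h

/-- The element of order three acts by one of the listed actions. -/
theorem exists_act {R : Row} (hR : R ∈ rows) (hk : R.ty = k) (hU : InU s φ R.r) : ∃ α ys, Act s φ R ys α := by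
  have hok := List.all_eq_true.1 rows_ok R hR
  simp only [Bool.and_eq_true, decide_eq_true_eq] at hok
  obtain ⟨α, h3, hs, hr'⟩ := D.exists_alpha hok.1.1.2 (hk ▸ hok.1.2) hU
  exact ⟨α, D.act_of hR hk h3 hs hr'⟩

end Dat

end CfsgQS3
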