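import Cfsg.Agent.Lib.QS3.Cases
import Mathlib.GroupTheory.Index

/-!
Groups with an involution centraliser `Q.S₃`: a standard pair generates with the centraliser an alternating group of
degree eight.
-/

set_option autoImplicit false
set_option maxRecDepth 100000

namespace CfsgQS3

open Equiv

/-- The images of the five generators. -/
def p8 : ℕ → Perm (Fin 8) := fun i =>
  [(⟨![2, 3, 1, 0, 6, 7, 5, 4], ![3, 2, 0, 1, 7, 6, 4, 5], by decide, by decide⟩ : Perm (Fin 8)),
   ⟨![0, 1, 4, 5, 6, 7, 2, 3], ![0, 1, 6, 7, 2, 3, 4, 5], by decide, by decide⟩,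
   ⟨![1, 0, 5, 4, 3, 2, 7, 6], ![1, 0, 5, 4, 3, 2, 7, 6], by decide, by decide⟩,
   ⟨![0, 7, 3, 5, 4, 2, 1, 6], ![0, 6, 5, 2, 4, 3, 7, 1], by decide, by decide⟩,
   ⟨![0, 6, 3, 5, 4, 2, 7, 1], ![0, 7, 5, 2, 4, 3, 1, 6], by decide, by decide⟩].getD i 1

/-- The images of the letters. -/
def q8 (i : ℕ) : Perm (Fin 8) := if i < 5 then p8 i else (p8 (i - 5))⁻¹

/-- The image of a code. -/
def psi (x : ℕ) : Perm (Fin 8) := wordVal p8 (hWords.getD x [])

theorem q8_rels : (rels001.all fun w => decide (wordVal q8 w = 1)) = true := by decide +kernel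

theorem psi_step : (codes.all fun x => [0, 1, 2].all fun i =>
    decide (psi (mmul 2 x (hGens.getD i 0)) = psi x * p8 i)) = true := by decide +kernel

theorem psi_facts : psi 0 = 1 ∧ (codes.all fun x => decide (psi x = 1 → x = 0)) = true ∧ psi 48 = p8 0 ∧ psi 2 = p8 1 ∧
    psi 1 = p8 2 := by decide +kernel

theorem p8_facts : (∀ i < 5, Perm.sign (p8 i) = 1) ∧ (wordVal p8 [0, 1, 3, 4]) ^ 15 = 1 ∧
    (wordVal p8 [0, 1, 3, 4]) ^ 3 ≠ 1 ∧ (wordVal p8 [0, 1, 3, 4]) ^ 5 ≠ 1 ∧ (wordVal p8 [1, 3]) ^ 7 = 1 ∧
    wordVal p8 [1, 3] ≠ 1 := by decide +kernel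

theorem card_alt_eight : Nat.card (alternatingGroup (Fin 8)) = 20160 := by
  rw [nat_card_alternatingGroup, Nat.card_fin]; rfl

/-- A subgroup of index less than eight of the alternating group of degree eight is everything. -/
theorem alt_eight_index {K : Subgroup (alternatingGroup (Fin 8))} (h : K.index < 8) : K = ⊤ := by
  have hi : K.index ≠ 0 := Subgroup.index_ne_zero_of_finite
  by_contra hK
  haveI := alternatingGroup.isSimpleGroup (α := Fin 8) (by simp)
  rcases K.normalCore_normal.eq_bot_or_eq_top with hb | ht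
  · have hinj : Function.Injective (MulAction.toPermHom (alternatingGroup (Fin 8)) (_ ⧸ K)) := by
      rw [← MonoidHom.ker_eq_bot_iff, ← Subgroup.normalCore_eq_ker, hb]
    have h1 := Nat.card_le_card_of_injective _ hinj
    rw [card_alt_eight, Nat.card_perm, ← Subgroup.index_eq_card] at h1
    have h2 : Nat.factorial K.index ≤ Nat.factorial 7 := Nat.factorial_le (by omega)
    rw [show Nat.factorial 7 = 5040 from rfl] at h2
    omega
  · exact hK (top_le_iff.1 (ht ▸ K.normalCore_le))

variable {G : Type*} [Group G]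

/-- The subgroup generated by the five pairs. -/
def pairK (φ : ℕ → G) (α β : G) : Subgroup (G × Perm (Fin 8)) :=
  Subgroup.closure ((fun i => (letters φ α β i, q8 i)) '' Set.Iio 5)

namespace Dat

variable {s : G} {φ : ℕ → G} (D : Dat s 2 φ)
include D

theorem psi_mul : ∀ x < 192, ∀ y < 192, psi (mmul 2 x y) = psi x * psi y := by
  have hgl : ∀ i < 3, hGens.getD i 0 < 192 := by decide
  have key : ∀ w : List ℕ, (∀ i ∈ w, i < 3) → ∀ x < 192,
      psi (mmul 2 x (mword 2 (w.map fun i => hGens.getD i 0))) = psi x * (w.map p8).prod := by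
    intro w
    induction w using List.reverseRecOn with
    | nil => intro _ x hx; simp [mword, (minv_ok 2 (by norm_num) x hx).2.2.2.1]
    | append_singleton w i ih =>
      intro hw x hx
      have hi := hw i (by simp)
      have hw' : ∀ j ∈ w, j < 3 := fun j hj => hw j (List.mem_append_left _ hj)
      have hm := (D.mword_eq (w.map fun i => hGens.getD i 0) fun v hv => by
        obtain ⟨j, hj, rfl⟩ := List.mem_map.1 hv; exact hgl j (hw' j hj)).2
      have e : mmul 2 x (mword 2 ((w ++ [i]).map fun i => hGens.getD i 0)) =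
          mmul 2 (mmul 2 x (mword 2 (w.map fun i => hGens.getD i 0))) (hGens.getD i 0) := by
        simp only [mword, List.map_append, List.map_cons, List.map_nil, List.foldl_append, List.foldl_cons,
          List.foldl_nil]
        simp only [mword] at hm
        refine D.inj _ (D.lt_mul hx (D.lt_mul hm (hgl i hi))) _ (D.lt_mul (D.lt_mul hx hm) (hgl i hi)) ?_
        rw [D.mul _ hx _ (D.lt_mul hm (hgl i hi)), D.mul _ hm _ (hgl i hi), D.mul _ (D.lt_mul hx hm) _ (hgl i hi),
          D.mul _ hx _ hm, mul_assoc]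
      have hst := all_codes psi_step (D.lt_mul hx hm)
      simp only [List.all_eq_true, decide_eq_true_eq] at hst
      rw [e, hst i (by simp only [List.mem_cons, List.not_mem_nil, or_false]; omega), ih hw' x hx, List.map_append,
        List.prod_append, List.map_cons, List.map_nil, List.prod_cons, List.prod_nil, mul_one, mul_assoc]
  intro x hx y hy
  have h := all_codes hWords_ok hy
  simp only [Bool.and_eq_true, beq_iff_eq, List.all_eq_true, decide_eq_true_eq] at h
  have e := key _ h.2 x hx
  rw [h.1] at e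
  exact e

/-- The graph of the homomorphism on the centraliser. -/
def pairH : Subgroup (G × Perm (Fin 8)) where
  carrier := {g | ∃ x < 192, (φ x, psi x) = g}
  one_mem' := ⟨0, by norm_num, by rw [D.one, psi_facts.1]; rfl⟩
  mul_mem' := by
    rintro _ _ ⟨x, hx, rfl⟩ ⟨y, hy, rfl⟩
    exact ⟨_, D.lt_mul hx hy, by rw [D.mul _ hx _ hy, D.psi_mul x hx y hy]; rfl⟩
  inv_mem' := by
    rintro _ ⟨x, hx, rfl⟩
    refine ⟨_, D.lt_inv hx, eq_inv_of_mul_eq_one_left ?_⟩
    have e : mmul 2 (minv 2 x) x = 0 := (minv_ok 2 (by norm_num) x hx).1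
    rw [Prod.mk_mul_mk, ← D.mul _ (D.lt_inv hx) _ hx, ← D.psi_mul _ (D.lt_inv hx) x hx, e, D.one, psi_facts.1]
    rfl

theorem pairH_card : Finite (D.pairH) ∧ Nat.card D.pairH ≤ 192 := by
  have hs : Function.Surjective (fun x : Fin 192 => (⟨(φ x, psi x), x, x.2, rfl⟩ : D.pairH)) := by
    rintro ⟨_, x, hx, rfl⟩
    exact ⟨⟨x, hx⟩, rfl⟩
  exact ⟨Finite.of_surjective _ hs, (Nat.card_le_card_of_surjective _ hs).trans (le_of_eq (Nat.card_fin 192))⟩

/-- Representatives of the cosets exhaust the orbit of the pairs. -/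
theorem pairK_card {α β : G} (hrel : ∀ w ∈ rels001, wordVal (letters φ α β) w = 1) :
    Finite (pairK φ α β) ∧ Nat.card (pairK φ α β) ≤ 20160 := by
  let g : ℕ → G × Perm (Fin 8) := fun i => (letters φ α β i, q8 i)
  let p : (G × Perm (Fin 8)) ⧸ D.pairH := ((1 : G × Perm (Fin 8)) : _ ⧸ D.pairH)
  have hw : ∀ w : List ℕ, wordVal g w = (wordVal (letters φ α β) w, wordVal q8 w) := by
    intro w
    induction w with
    | nil => rfl
    | cons i w ih => simp only [wordVal, List.map_cons, List.prod_cons] at ih ⊢; rw [ih]; rfl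
  have hH : CosetData rels001 3 g p := by
    refine ⟨fun i hi => ?_, fun w hwm => ?_, fun {i} hi => ?_⟩
    · interval_cases i <;> simp [g, invLetter, letters, q8]
    · rw [hw, hrel w hwm, decide_eq_true_iff.1 (List.all_eq_true.1 q8_rels w hwm)]; rfl
    · show g i • p = p
      rw [MulAction.Quotient.smul_coe, smul_eq_mul, mul_one, QuotientGroup.eq, mul_one]
      refine D.pairH.inv_mem ?_
      obtain ⟨-, -, e0, e1, e2⟩ := psi_facts
      interval_cases i
      · exact ⟨48, by norm_num, by rw [e0]; rfl⟩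
      · exact ⟨2, by norm_num, by rw [e1]; rfl⟩
      · exact ⟨1, by norm_num, by rw [e2]; rfl⟩
  set R := Cert001.reps
  set O : Set ((G × Perm (Fin 8)) ⧸ D.pairH) := (fun w => path g w p) '' {w | w ∈ R} with hO
  have hfin : O.Finite := (List.finite_toSet R).image _
  have hstep : ∀ i < 5, ∀ q ∈ O, g i • q ∈ O := by
    rintro i hi _ ⟨w, hw, rfl⟩
    have : ∃ w' ∈ R, g i • path g w p = path g w' p := by
      interval_cases i
      exacts [Cert001.step0 hH w hw, Cert001.step1 hH w hw, Cert001.step2 hH w hw, Cert001.step3 hH w hw,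
        Cert001.step4 hH w hw]
    obtain ⟨w', hw', e⟩ := this
    exact ⟨w', hw', e.symm⟩
  have key : ∀ k ∈ pairK φ α β, ∀ q, (q ∈ O → k • q ∈ O) ∧ (q ∈ O → k⁻¹ • q ∈ O) := by
    intro k hk
    induction hk using Subgroup.closure_induction with
    | mem a ha =>
      obtain ⟨i, hi, rfl⟩ := ha
      intro q
      refine ⟨hstep i hi q, fun hq => ?_⟩
      have hinj : Function.Injective (fun x : O => (⟨g i • (x : _ ⧸ D.pairH), hstep i hi _ x.2⟩ : O)) :=
        fun x y e => Subtype.ext (smul_left_cancel (g i) (congrArg Subtype.val e))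
      haveI := hfin.to_subtype
      obtain ⟨x, hx⟩ := Finite.injective_iff_surjective.1 hinj ⟨q, hq⟩
      have hx' : g i • (x : _ ⧸ D.pairH) = q := congrArg Subtype.val hx
      show (g i)⁻¹ • q ∈ O
      rw [← hx', inv_smul_smul]
      exact x.2
    | one => intro q; simp
    | mul a b _ _ ha hb =>
      intro q
      refine ⟨fun hq => ?_, fun hq => ?_⟩
      · rw [mul_smul]; exact (ha _).1 ((hb q).1 hq)
      · rw [mul_inv_rev, mul_smul]; exact (hb _).2 ((ha q).2 hq)
    | inv a _ ha => intro q; exact ⟨(ha q).2, by rw [inv_inv]; exact (ha q).1⟩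
  have hp : p ∈ O := ⟨[], by decide, rfl⟩
  haveI := hfin.to_subtype
  set K := pairK φ α β
  have hsub : D.pairH ≤ K := by
    rintro _ ⟨x, hx, rfl⟩
    have h := all_codes hWords_ok hx
    simp only [Bool.and_eq_true, beq_iff_eq, List.all_eq_true, decide_eq_true_eq] at h
    obtain ⟨hx', hlt⟩ := h
    have e : (φ x, psi x) = wordVal g (hWords.getD x []) := by
      rw [hw]
      refine Prod.ext ?_ ?_
      · obtain ⟨e, -⟩ := D.mword_eq ((hWords.getD x []).map fun i => hGens.getD i 0) (fun v hv => by
          obtain ⟨i, hi, rfl⟩ := List.mem_map.1 hv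
          exact (by decide : ∀ i < 3, hGens.getD i 0 < 192) i (hlt i hi))
        rw [hx', List.map_map] at e
        refine e.trans (congrArg List.prod (List.map_congr_left fun i hi => ?_))
        have := hlt i hi
        interval_cases i <;> rfl
      · refine congrArg List.prod (List.map_congr_left fun i hi => ?_)
        have := hlt i hi
        simp [q8, show i < 5 by omega]
    rw [e]
    refine Subgroup.list_prod_mem _ fun a ha => ?_
    obtain ⟨i, hi, rfl⟩ := List.mem_map.1 ha
    exact Subgroup.subset_closure ⟨i, lt_trans (hlt i hi) (by norm_num), rfl⟩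
  choose f hf using fun q : K ⧸ D.pairH.subgroupOf K =>
    (show ∃ o : O, ((q.out : K) : G × Perm (Fin 8)) • p = o from ⟨⟨_, (key _ q.out.2 p).1 hp⟩, rfl⟩)
  have hinj : Function.Injective f := by
    intro a b h
    have e : ((a.out : K) : G × Perm (Fin 8)) • p = ((b.out : K) : G × Perm (Fin 8)) • p := by rw [hf a, hf b, h]
    rw [MulAction.Quotient.smul_coe, MulAction.Quotient.smul_coe, smul_eq_mul, smul_eq_mul, mul_one, mul_one,
      QuotientGroup.eq] at e
    rw [← QuotientGroup.out_eq' a, ← QuotientGroup.out_eq' b, QuotientGroup.eq, Subgroup.mem_subgroupOf]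
    exact e
  have hOc : Nat.card O ≤ 105 := by
    have hs : Function.Surjective (fun i : Fin R.length => (⟨path g R[i] p, R[i], List.getElem_mem i.2, rfl⟩ : O)) := by
      rintro ⟨_, w, hw, rfl⟩
      obtain ⟨i, hi, rfl⟩ := List.getElem_of_mem hw
      exact ⟨⟨i, hi⟩, rfl⟩
    exact (Nat.card_le_card_of_surjective _ hs).trans (le_of_eq (Nat.card_fin _))
  haveI := D.pairH_card.1
  haveI : Finite (K ⧸ D.pairH.subgroupOf K) := Finite.of_injective f hinj
  haveI : Finite (D.pairH.subgroupOf K) := Finite.of_equiv _ (Subgroup.subgroupOfEquivOfLe hsub).symm.toEquiv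
  have hc := Subgroup.card_eq_card_quotient_mul_card_subgroup (D.pairH.subgroupOf K)
  refine ⟨Nat.finite_of_card_ne_zero (hc ▸ (Nat.mul_pos Nat.card_pos Nat.card_pos).ne'), ?_⟩
  rw [hc, Nat.card_congr (Subgroup.subgroupOfEquivOfLe hsub).toEquiv]
  exact (Nat.mul_le_mul ((Nat.card_le_card_of_injective f hinj).trans hOc) D.pairH_card.2).trans (by norm_num)

/-- The centraliser and the pair generate an alternating group of degree eight. -/
theorem exists_embedding {α β : G} (hα : α * s * α⁻¹ = φ 54) (hrel : ∀ w ∈ rels001, wordVal (letters φ α β) w = 1) :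
    ∃ ι : alternatingGroup (Fin 8) →* G, Function.Injective ι ∧
      (∀ x < 192, ∀ h, ι ⟨psi x, h⟩ = φ x) ∧ (∀ h, ι ⟨p8 3, h⟩ = α) ∧ ∀ h, ι ⟨p8 4, h⟩ = β := by
  obtain ⟨hfin, hle⟩ := D.pairK_card hrel
  haveI := hfin
  set K := pairK φ α β with hK
  have hgen : ∀ i < 5, (letters φ α β i, q8 i) ∈ K := fun i hi => Subgroup.subset_closure ⟨i, hi, rfl⟩
  have heven : ∀ k : K, Perm.sign (k : G × Perm (Fin 8)).2 = 1 := by
    rintro ⟨k, hk⟩
    induction hk using Subgroup.closure_induction with
    | mem a ha =>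
      obtain ⟨i, hi, rfl⟩ := ha
      have h5 : i < 5 := hi
      simpa [q8, h5] using p8_facts.1 i h5
    | one => simp
    | mul a b _ _ ha hb => simp [ha, hb]
    | inv a _ ha => simp [ha]
  let π : K →* alternatingGroup (Fin 8) :=
    { toFun := fun k => ⟨(k : G × Perm (Fin 8)).2, Perm.mem_alternatingGroup.2 (heven k)⟩
      map_one' := rfl
      map_mul' := fun _ _ => rfl }
  have hword : ∀ w : List ℕ, (∀ i ∈ w, i < 5) → ∃ k : K, (π k : Perm (Fin 8)) = wordVal p8 w := by
    intro w
    induction w with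
    | nil => intro _; exact ⟨1, rfl⟩
    | cons i w ih =>
      intro h
      obtain ⟨k, hk⟩ := ih fun j hj => h j (List.mem_cons_of_mem _ hj)
      refine ⟨⟨_, hgen i (h i List.mem_cons_self)⟩ * k, ?_⟩
      show q8 i * (k : G × Perm (Fin 8)).2 = _
      simp only [wordVal, List.map_cons, List.prod_cons, q8, h i List.mem_cons_self, if_true]
      exact congrArg (p8 i * ·) hk
  have hH : ∀ x < 192, ∃ k : K, (π k : Perm (Fin 8)) = psi x := fun x hx =>
    hword _ fun i hi => by
      have h := all_codes hWords_ok hx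
      simp only [Bool.and_eq_true, List.all_eq_true, decide_eq_true_eq] at h
      exact lt_trans (h.2 i hi) (by norm_num)
  have hsurj : Function.Surjective π := by
    rw [← MonoidHom.range_eq_top]
    refine alt_eight_index ?_
    set R := π.range
    have h192 : 192 ∣ Nat.card R := by
      choose k hk using hH
      let V : Subgroup (alternatingGroup (Fin 8)) :=
        (D.pairH.map (MonoidHom.snd G (Perm (Fin 8)))).subgroupOf (alternatingGroup (Fin 8))
      have hV : V ≤ R := by
        rintro v ⟨_, ⟨x, hx, rfl⟩, e⟩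
        exact ⟨k x hx, Subtype.ext ((hk x hx).trans e)⟩
      have hcard : Nat.card V = 192 := by
        refine (Nat.card_congr (Equiv.ofBijective (fun x : Fin 192 => (⟨π (k x x.2), ?_⟩ : V)) ⟨?_, ?_⟩)).symm.trans
          (Nat.card_fin 192)
        · exact ⟨_, ⟨x, x.2, rfl⟩, (hk x x.2).symm⟩
        · intro x y e
          have e' : psi x = psi y := by
            rw [← hk x x.2, ← hk y y.2]
            exact congrArg (fun v : V => ((v : alternatingGroup (Fin 8)) : Perm (Fin 8))) e
          have h := all_codes psi_facts.2.1 (D.lt_mul (D.lt_inv x.2) y.2)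
          simp only [decide_eq_true_eq] at h
          have h0 := h (by rw [D.psi_mul _ (D.lt_inv x.2) _ y.2, ← e', ← D.psi_mul _ (D.lt_inv x.2) _ x.2,
            (minv_ok 2 (by norm_num) x x.2).1, psi_facts.1])
          refine Fin.ext (D.inj _ x.2 _ y.2 (inv_inj.1 ?_))
          have := congrArg φ h0
          rw [D.mul _ (D.lt_inv x.2) _ y.2, D.inv x.2, D.one] at this
          exact eq_inv_of_mul_eq_one_left this
        · rintro ⟨v, _, ⟨x, hx, rfl⟩, e⟩
          exact ⟨⟨x, hx⟩, Subtype.ext (Subtype.ext ((hk x hx).trans e))⟩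
      rw [← hcard]
      exact Subgroup.card_dvd_of_le hV
    obtain ⟨k15, h15⟩ := hword [0, 1, 3, 4] (by decide)
    obtain ⟨k7, h7⟩ := hword [1, 3] (by decide)
    obtain ⟨-, a15, a3, a5, a7, a1⟩ := p8_facts
    have o15 : orderOf (π k15) = 15 := by
      have hd : orderOf (π k15) ∣ 15 := orderOf_dvd_of_pow_eq_one (Subtype.ext (by simpa [h15] using a15))
      have hne : ∀ m, (wordVal p8 [0, 1, 3, 4]) ^ m ≠ 1 → ¬ orderOf (π k15) ∣ m := fun m hm h => hm (by
        simpa [h15] using congrArg Subtype.val (orderOf_dvd_iff_pow_eq_one.1 h))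
      have h1 := hne 3 a3
      have h2 := hne 5 a5
      have : orderOf (π k15) ≤ 15 := Nat.le_of_dvd (by norm_num) hd
      generalize orderOf (π k15) = n at hd h1 h2 this ⊢
      interval_cases n <;> simp_all (config := { decide := true })
    have o7 : orderOf (π k7) = 7 := by
      haveI : Fact (Nat.Prime 7) := ⟨by norm_num⟩
      exact orderOf_eq_prime (Subtype.ext (by simpa [h7] using a7)) fun h => a1 (by
        simpa [h7] using congrArg Subtype.val h)
    have d15 := Subgroup.orderOf_dvd_natCard R (x := π k15) ⟨k15, rfl⟩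
    have d7 := Subgroup.orderOf_dvd_natCard R (x := π k7) ⟨k7, rfl⟩
    rw [o15] at d15
    rw [o7] at d7
    have h6720 : 6720 ∣ Nat.card R :=
      Nat.Coprime.mul_dvd_of_dvd_of_dvd (show Nat.Coprime 7 960 by norm_num) d7 (by
        have h := Nat.lcm_dvd h192 d15
        rwa [show Nat.lcm 192 15 = 960 by norm_num] at h)
    have hmul := R.card_mul_index
    rw [card_alt_eight] at hmul
    obtain ⟨m, hm⟩ := h6720
    rw [hm] at hmul
    have hpos : 0 < m := Nat.pos_of_ne_zero fun h => by simp [h] at hmul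
    nlinarith
  have hinj : Function.Injective π := by
    refine ((Nat.bijective_iff_surjective_and_card π).2 ⟨hsurj, ?_⟩).1
    exact le_antisymm (hle.trans card_alt_eight.ge) (Nat.card_le_card_of_surjective _ hsurj)
  let e := MulEquiv.ofBijective π ⟨hinj, hsurj⟩
  let ι : alternatingGroup (Fin 8) →* G := (MonoidHom.fst G (Perm (Fin 8))).comp (K.subtype.comp e.symm.toMonoidHom)
  have hι : ∀ k : K, ι (π k) = (k : G × Perm (Fin 8)).1 := by
    intro k
    show ((e.symm (e k) : K) : G × Perm (Fin 8)).1 = _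
    rw [e.symm_apply_apply]
  have hgi : ∀ i < 5, ∀ h, ι ⟨p8 i, h⟩ = letters φ α β i := by
    intro i hi h
    have := hι ⟨_, hgen i hi⟩
    rw [show π ⟨_, hgen i hi⟩ = ⟨p8 i, h⟩ from Subtype.ext (by simp [π, q8, hi])] at this
    exact this
  refine ⟨ι, ?_, fun x hx h => ?_, hgi 3 (by norm_num), hgi 4 (by norm_num)⟩
  · haveI := alternatingGroup.isSimpleGroup (α := Fin 8) (by simp)
    rw [← MonoidHom.ker_eq_bot_iff]
    refine ((MonoidHom.normal_ker ι).eq_bot_or_eq_top).resolve_right fun htop => ?_
    have h1 := hgi 3 (by norm_num) (Perm.mem_alternatingGroup.2 (p8_facts.1 3 (by norm_num)))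
    rw [MonoidHom.mem_ker.1 (htop ▸ Subgroup.mem_top _)] at h1
    have h2 : φ 24 = φ 54 := by
      rw [← hα, show α = 1 from h1.symm, D.zc]; group
    exact absurd (D.inj _ (by norm_num) _ (by norm_num) h2) (by norm_num)
  · obtain ⟨hw, hlt⟩ := (Bool.and_eq_true _ _).mp (all_codes hWords_ok hx)
    have hm : (φ x, psi x) ∈ K := by
      have h' : ∀ i ∈ hWords.getD x [], i < 3 := fun i hi => decide_eq_true_iff.1 (List.all_eq_true.1 hlt i hi)
      have e' : (φ x, psi x) = ((hWords.getD x []).map fun i => (letters φ α β i, q8 i)).prod := by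
        have hp : ∀ w : List ℕ, (w.map fun i => (letters φ α β i, q8 i)).prod =
            ((w.map (letters φ α β)).prod, (w.map q8).prod) := by
          intro w; induction w with
          | nil => rfl
          | cons i w ih => simp [ih]
        rw [hp]
        refine Prod.ext ?_ ?_
        · obtain ⟨e, -⟩ := D.mword_eq ((hWords.getD x []).map fun i => hGens.getD i 0) (fun v hv => by
            obtain ⟨i, hi, rfl⟩ := List.mem_map.1 hv
            exact (by decide : ∀ i < 3, hGens.getD i 0 < 192) i (h' i hi))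
          rw [beq_iff_eq.1 hw, List.map_map] at e
          refine e.trans (congrArg List.prod (List.map_congr_left fun i hi => ?_))
          have := h' i hi
          interval_cases i <;> rfl
        · refine congrArg List.prod (List.map_congr_left fun i hi => ?_)
          simp [q8, show i < 5 from lt_trans (h' i hi) (by norm_num)]
      rw [e']
      refine Subgroup.list_prod_mem _ fun a ha => ?_
      obtain ⟨i, hi, rfl⟩ := List.mem_map.1 ha
      exact hgen i (lt_trans (h' i hi) (by norm_num))
    exact hι ⟨_, hm⟩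

end Dat

end CfsgQS3
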