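import Cfsg.Agent.Lib.QS3.Fusion
import Cfsg.Agent.Lib.QS3.PairTable

/-!
Groups with an involution centraliser `Q.S₃`: changing the coordinates by an automorphism of the model.
-/

set_option autoImplicit false
set_option maxRecDepth 100000

namespace CfsgQS3

/-- The map given by a list. -/
def aut (σ : List ℕ) (x : ℕ) : ℕ := σ.getD x 0

/-- The list gives an automorphism of the model of type two. -/
def isAut (σ : List ℕ) : Bool :=
  (codes.all fun x => decide (aut σ x < 192) && hGens.all fun g => aut σ (mmul 2 x g) == mmul 2 (aut σ x) (aut σ g)) &&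
    aut σ 0 == 0 && aut σ 24 == 24 && (codes.all fun y => codes.any fun x => aut σ x == y)

theorem autos_okA : (autFix.take 5).all isAut = true := by decide +kernel

theorem autos_okB : ((autFix.drop 5).take 5).all isAut = true := by decide +kernel

theorem autos_okC : ((autFix.drop 10).take 6).all isAut = true := by decide +kernel

theorem autos_okD : autPair.all isAut = true := by decide +kernel

theorem autos_ok : (autFix ++ autPair).all isAut = true := by
  have e : autFix = autFix.take 5 ++ (autFix.drop 5).take 5 ++ (autFix.drop 10).take 6 := rfl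
  rw [e]
  simp only [List.all_append, autos_okA, autos_okB, autos_okC, autos_okD, Bool.and_self]

theorem hWords_ok : (codes.all fun x => mword 2 ((hWords.getD x []).map fun i => hGens.getD i 0) == x &&
    (hWords.getD x []).all fun i => decide (i < 3)) = true := by decide +kernel

namespace Dat

variable {G : Type*} [Group G] {s : G} {φ : ℕ → G} (D : Dat s 2 φ)
include D

/-- New coordinates through an automorphism. -/
theorem comp_aut {σ : List ℕ} (hσ : isAut σ = true) : Dat s 2 (φ ∘ aut σ) := by
  simp only [isAut, Bool.and_eq_true, List.all_eq_true, decide_eq_true_eq, beq_iff_eq, List.any_eq_true] at hσ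
  obtain ⟨⟨⟨hstep, h0⟩, h24⟩, hsur⟩ := hσ
  have hlt : ∀ x < 192, aut σ x < 192 := fun x hx => (hstep x (List.mem_range.2 hx)).1
  have hgl : ∀ i < 3, hGens.getD i 0 < 192 ∧ hGens.getD i 0 ∈ hGens := by decide
  have key : ∀ w : List ℕ, (∀ i ∈ w, i < 3) → ∀ x < 192,
      φ (aut σ (mmul 2 x (mword 2 (w.map fun i => hGens.getD i 0)))) =
        φ (aut σ x) * (w.map fun i => φ (aut σ (hGens.getD i 0))).prod := by
    intro w
    induction w using List.reverseRecOn with
    | nil =>
      intro _ x hx
      simp [mword, (minv_ok 2 (by norm_num) x hx).2.2.2.1]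
    | append_singleton w i ih =>
      intro hw x hx
      have hi := hgl i (hw i (by simp))
      have hw' : ∀ j ∈ w, j < 3 := fun j hj => hw j (List.mem_append_left _ hj)
      have hm := (D.mword_eq (w.map fun i => hGens.getD i 0) fun v hv => by
        obtain ⟨j, hj, rfl⟩ := List.mem_map.1 hv; exact (hgl j (hw' j hj)).1).2
      have e : mmul 2 x (mword 2 ((w ++ [i]).map fun i => hGens.getD i 0)) =
          mmul 2 (mmul 2 x (mword 2 (w.map fun i => hGens.getD i 0))) (hGens.getD i 0) := by
        simp only [mword, List.map_append, List.map_cons, List.map_nil, List.foldl_append, List.foldl_cons,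
          List.foldl_nil]
        simp only [mword] at hm
        refine D.inj _ (D.lt_mul hx (D.lt_mul hm hi.1)) _ (D.lt_mul (D.lt_mul hx hm) hi.1) ?_
        rw [D.mul _ hx _ (D.lt_mul hm hi.1), D.mul _ hm _ hi.1, D.mul _ (D.lt_mul hx hm) _ hi.1, D.mul _ hx _ hm,
          mul_assoc]
      have hlx := D.lt_mul hx hm
      rw [e, (hstep _ (List.mem_range.2 hlx)).2 _ hi.2, D.mul _ (hlt _ hlx) _ (hlt _ hi.1), ih hw' x hx, List.map_append,
        List.prod_append, List.map_cons, List.map_nil, List.prod_cons, List.prod_nil, mul_one, mul_assoc]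
  have hdec : ∀ x < 192, x = mword 2 ((hWords.getD x []).map fun i => hGens.getD i 0) ∧
      ∀ i ∈ hWords.getD x [], i < 3 := by
    intro x hx
    have h := all_codes hWords_ok hx
    simp only [Bool.and_eq_true, beq_iff_eq, List.all_eq_true, decide_eq_true_eq] at h
    exact ⟨h.1.symm, h.2⟩
  have hmul : ∀ x < 192, ∀ y < 192, φ (aut σ (mmul 2 x y)) = φ (aut σ x) * φ (aut σ y) := by
    intro x hx y hy
    obtain ⟨e, hw⟩ := hdec y hy
    have h1 := key _ hw x hx
    have h2 := key _ hw 0 (by norm_num)
    rw [← e] at h1 h2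
    rw [(minv_ok 2 (by norm_num) y hy).2.2.1, h0, D.one, one_mul] at h2
    rw [h1, ← h2]
  refine ⟨D.type, hmul, fun x hx y hy e => ?_, fun c => ?_, by rw [Function.comp_apply, h24, D.zc]⟩
  · have hinj : Function.Injective (fun x : Fin 192 => (⟨aut σ x, hlt x x.2⟩ : Fin 192)) :=
      Finite.injective_iff_surjective.2 fun y => by
        obtain ⟨x, hx, e⟩ := hsur y (List.mem_range.2 y.2)
        exact ⟨⟨x, List.mem_range.1 hx⟩, Fin.ext e⟩
    exact congrArg Fin.val (@hinj ⟨x, hx⟩ ⟨y, hy⟩ (Fin.ext (D.inj _ (hlt x hx) _ (hlt y hy) e)))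
  · refine (D.cent c).trans ⟨fun ⟨y, hy, e⟩ => ?_, fun ⟨x, hx, e⟩ => ⟨_, hlt x hx, e⟩⟩
    obtain ⟨x, hx, ex⟩ := hsur y (List.mem_range.2 hy)
    exact ⟨x, List.mem_range.1 hx, by rw [Function.comp_apply, ex, e]⟩

end Dat

end CfsgQS3
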