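import Cfsg.Agent.Lib.QS3.Hyp

/-!
Groups with an involution centraliser `Q.S₃`: working with the coordinates.
-/

set_option autoImplicit false
set_option maxRecDepth 100000

namespace CfsgQS3

theorem qtau_lt (k a : ℕ) : qtau k a < 32 := Nat.mod_lt _ (by norm_num)

theorem qmul_lt (a b : ℕ) : qmul a b < 32 := Nat.mod_lt _ (by norm_num)

theorem mmul_lt {k : ℕ} (_hk : k < 4) {x y : ℕ} (_hx : x < 192) (_hy : y < 192) : mmul k x y < 192 := by
  unfold mmul
  simp only
  have h1 := qmul_lt (x / 6) (qrot (x / 2 % 3) (if x % 2 = 1 then qtau k (y / 6) else y / 6))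
  have h2 := qmul_lt (qmul (x / 6) (qrot (x / 2 % 3) (if x % 2 = 1 then qtau k (y / 6) else y / 6))) 4
  split_ifs at h1 h2 ⊢ <;> omega

theorem minv_ok : ∀ k < 4, ∀ x < 192, mmul k (minv k x) x = 0 ∧ minv k x < 192 ∧ mmul k 0 x = x ∧ mmul k x 0 = x ∧
    mmul k x (minv k x) = 0 := by decide +kernel

/-- A boolean test on all codes. -/
theorem all_codes {p : ℕ → Bool} (h : codes.all p = true) {x : ℕ} (hx : x < 192) : p x = true :=
  List.all_eq_true.1 h x (List.mem_range.2 hx)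

theorem mem_mcent {k x g : ℕ} : g ∈ mcent k x ↔ g < 192 ∧ mmul k g x = mmul k x g := by
  simp [mcent, codes]

namespace Dat

variable {G : Type*} [Group G] {s : G} {k : ℕ} {φ : ℕ → G} (D : Dat s k φ)
include D

theorem lt_mul {x y : ℕ} (hx : x < 192) (hy : y < 192) : mmul k x y < 192 := mmul_lt D.type hx hy

theorem lt_inv {x : ℕ} (hx : x < 192) : minv k x < 192 := (minv_ok k D.type x hx).2.1

theorem lt_conj {g x : ℕ} (hg : g < 192) (hx : x < 192) : mconj k g x < 192 :=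
  D.lt_mul (D.lt_mul hg hx) (D.lt_inv hg)

theorem one : φ 0 = 1 := by
  have e := D.mul 0 (by norm_num) 0 (by norm_num)
  rw [(minv_ok k D.type 0 (by norm_num)).2.2.1] at e
  exact mul_eq_left.1 e.symm

theorem inv {x : ℕ} (hx : x < 192) : φ (minv k x) = (φ x)⁻¹ := by
  obtain ⟨e, h, -⟩ := minv_ok k D.type x hx
  refine (inv_eq_of_mul_eq_one_left ?_).symm
  rw [← D.mul _ h _ hx, e, D.one]

theorem conj {g x : ℕ} (hg : g < 192) (hx : x < 192) : φ (mconj k g x) = φ g * φ x * (φ g)⁻¹ := by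
  rw [mconj, D.mul _ (D.lt_mul hg hx) _ (D.lt_inv hg), D.mul _ hg _ hx, D.inv hg]

theorem eq_iff {a b : ℕ} (ha : a < 192) (hb : b < 192) : φ a = φ b ↔ a = b := ⟨D.inj a ha b hb, congrArg φ⟩

theorem eq_one_iff {a : ℕ} (ha : a < 192) : φ a = 1 ↔ a = 0 := by rw [← D.one, D.eq_iff ha (by norm_num)]

theorem commute_iff {a b : ℕ} (ha : a < 192) (hb : b < 192) :
    φ a * φ b = φ b * φ a ↔ mmul k a b = mmul k b a := by
  rw [← D.mul _ ha _ hb, ← D.mul _ hb _ ha, D.eq_iff (D.lt_mul ha hb) (D.lt_mul hb ha)]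

theorem sq_iff {a : ℕ} (ha : a < 192) : φ a * φ a = 1 ↔ mmul k a a = 0 := by
  rw [← D.mul _ ha _ ha, D.eq_one_iff (D.lt_mul ha ha)]

theorem comm_s {x : ℕ} (hx : x < 192) : φ x * s = s * φ x := (D.cent _).2 ⟨x, hx, rfl⟩

theorem s_ne : s ≠ 1 := fun h => by
  rw [← D.zc] at h
  exact absurd ((D.eq_one_iff (by norm_num)).1 h) (by norm_num)

theorem s_sq : s * s = 1 := by
  rw [← D.zc]
  exact (D.sq_iff (by norm_num)).2 ((by decide +kernel : ∀ k < 4, mmul k 24 24 = 0) k D.type)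

theorem mword_eq (l : List ℕ) (hl : ∀ i ∈ l, i < 192) :
    φ (mword k l) = (l.map φ).prod ∧ mword k l < 192 := by
  induction l using List.reverseRecOn with
  | nil => exact ⟨by simpa [mword] using D.one, by norm_num [mword]⟩
  | append_singleton l a ih =>
    obtain ⟨e, h⟩ := ih fun i hi => hl i (List.mem_append_left _ hi)
    have ha := hl a (by simp)
    simp only [mword, List.foldl_append, List.foldl_cons, List.foldl_nil, List.map_append, List.map_cons, List.map_nil,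
      List.prod_append, List.prod_cons, List.prod_nil, mul_one] at *
    exact ⟨by rw [D.mul _ h _ ha, e], D.lt_mul h ha⟩

/-- The elements centralising `s` and `φ x`. -/
theorem mem_cent2 {x : ℕ} (hx : x < 192) {c : G} (hs : c * s = s * c) (hc : c * φ x = φ x * c) :
    ∃ n ∈ mcent k x, φ n = c := by
  obtain ⟨n, hn, rfl⟩ := (D.cent c).1 hs
  exact ⟨n, mem_mcent.2 ⟨hn, (D.commute_iff hn hx).1 hc⟩, rfl⟩

theorem card_cent2 {x : ℕ} (hx : x < 192) :
    Nat.card ↥(Subgroup.centralizer ({s} : Set G) ⊓ Subgroup.centralizer ({φ x} : Set G)) = (mcent k x).length := by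
  classical
  have hnd : (mcent k x).Nodup := List.nodup_range.filter _
  refine (Nat.card_congr (Equiv.ofBijective (fun n : {n // n ∈ (mcent k x).toFinset} =>
    (⟨φ n.1, ?_⟩ : ↥(Subgroup.centralizer ({s} : Set G) ⊓ Subgroup.centralizer ({φ x} : Set G)))) ⟨?_, ?_⟩)).symm.trans ?_
  · obtain ⟨h1, h2⟩ := mem_mcent.1 (List.mem_toFinset.1 n.2)
    exact ⟨Subgroup.mem_centralizer_singleton_iff.2 (D.comm_s h1),
      Subgroup.mem_centralizer_singleton_iff.2 ((D.commute_iff h1 hx).2 h2)⟩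
  · intro a b h
    exact Subtype.ext (D.inj _ (mem_mcent.1 (List.mem_toFinset.1 a.2)).1 _ (mem_mcent.1 (List.mem_toFinset.1 b.2)).1
      (congrArg Subtype.val h))
  · rintro ⟨c, h1, h2⟩
    obtain ⟨n, hn, rfl⟩ := D.mem_cent2 hx (Subgroup.mem_centralizer_singleton_iff.1 h1)
      (Subgroup.mem_centralizer_singleton_iff.1 h2)
    exact ⟨⟨n, List.mem_toFinset.2 hn⟩, rfl⟩
  · rw [Nat.card_eq_fintype_card, Fintype.card_coe, List.toFinset_card_of_nodup hnd]

/-- A conjugation moving `s` to the element with code `x` carries the centralisers. -/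
theorem transport {g : G} {x x' : ℕ} (hx : x < 192) (hx' : x' < 192) (hg : g * s * g⁻¹ = φ x)
    (hx'' : g⁻¹ * s * g = φ x') : Nat.card ↥(Subgroup.centralizer ({s} : Set G) ⊓ Subgroup.centralizer ({φ x} : Set G)) =
      Nat.card ↥(Subgroup.centralizer ({s} : Set G) ⊓ Subgroup.centralizer ({φ x'} : Set G)) := by
  have e1 : g⁻¹ * φ x * g = s := by rw [← hg]; group
  have e2 : g * φ x' * g⁻¹ = s := by rw [← hx'']; group
  have key : ∀ a b u : G, a * b = b * a → u * a * u⁻¹ * (u * b * u⁻¹) = u * b * u⁻¹ * (u * a * u⁻¹) :=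
    fun a b u e => by
      calc u * a * u⁻¹ * (u * b * u⁻¹) = u * (a * b) * u⁻¹ := by group
        _ = _ := by rw [e]; group
  have toS : ∀ c : G, c * s = s * c → c * φ x = φ x * c →
      g⁻¹ * c * g * s = s * (g⁻¹ * c * g) ∧ g⁻¹ * c * g * φ x' = φ x' * (g⁻¹ * c * g) := fun c h1 h2 => by
    have a1 := key c _ g⁻¹ h2
    have a2 := key c _ g⁻¹ h1
    rw [inv_inv] at a1 a2
    exact ⟨by rw [e1] at a1; exact a1, by rw [hx''] at a2; exact a2⟩
  have ofS : ∀ c : G, c * s = s * c → c * φ x' = φ x' * c →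
      g * c * g⁻¹ * s = s * (g * c * g⁻¹) ∧ g * c * g⁻¹ * φ x = φ x * (g * c * g⁻¹) := fun c h1 h2 => by
    have a1 := key c _ g h2
    have a2 := key c _ g h1
    exact ⟨by rw [e2] at a1; exact a1, by rw [hg] at a2; exact a2⟩
  have m : ∀ {c : G} {y : G}, c ∈ Subgroup.centralizer ({s} : Set G) ⊓ Subgroup.centralizer ({y} : Set G) ↔
      c * s = s * c ∧ c * y = y * c := by
    intro c y; simp [Subgroup.mem_inf, Subgroup.mem_centralizer_singleton_iff]
  exact Nat.card_congr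
    { toFun := fun c => ⟨g⁻¹ * c * g, m.2 (toS c (m.1 c.2).1 (m.1 c.2).2)⟩
      invFun := fun c => ⟨g * c * g⁻¹, m.2 (ofS c (m.1 c.2).1 (m.1 c.2).2)⟩
      left_inv := fun c => Subtype.ext (by simp [mul_assoc])
      right_inv := fun c => Subtype.ext (by simp [mul_assoc]) }

end Dat

end CfsgQS3
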