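import Cfsg.Agent.Lib.QS3.Model

/-!
Groups with an involution centraliser `Q.S₃`: the relations of the enumerations.
-/

set_option autoImplicit false

namespace CfsgQS3

/-- The relations of case 000. -/
def rels000 : List (List ℕ) := [
  [1, 1, 1],
  [1, 2, 1, 2],
  [0, 0, 2, 0, 0, 2],
  [0, 1, 0, 1, 5, 1],
  [0, 2, 0, 2, 0, 2, 0, 2],
  [1, 2, 0, 1, 2, 0, 7, 6, 5, 7, 6, 5],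
  [3, 2, 8, 5, 6, 5, 7, 5, 6, 5, 5],
  [3, 0, 8, 6, 5, 7, 5, 6],
  [3, 1, 0, 2, 0, 1, 8, 5, 7],
  [3, 3, 3],
  [4, 2, 9, 5, 7, 5, 5, 5],
  [4, 0, 2, 0, 9, 7, 6, 5, 7, 5, 6, 5],
  [4, 1, 0, 1, 1, 9, 6, 5, 7, 6, 5],
  [4, 4, 4],
  [3, 4, 8, 9],
  [3, 1, 3, 1, 3, 1, 3, 1, 3, 1, 3, 1, 3, 1],
  [4, 1, 4, 1, 4, 1, 4, 1, 4, 1, 4, 1, 4, 1],
  [3, 1, 0, 3, 1, 0, 3, 1, 0],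
  [4, 1, 2, 4, 1, 2, 4, 1, 2]]

/-- The relations of case 001. -/
def rels001 : List (List ℕ) := [
  [1, 1, 1],
  [1, 2, 1, 2],
  [0, 0, 2, 0, 0, 2],
  [0, 1, 0, 1, 5, 1],
  [0, 2, 0, 2, 0, 2, 0, 2],
  [1, 2, 0, 1, 2, 0, 7, 6, 5, 7, 6, 5],
  [3, 2, 8, 5, 6, 5, 7, 5, 6, 5, 5],
  [3, 0, 8, 6, 5, 7, 5, 6],
  [3, 1, 0, 2, 0, 1, 8, 5, 7],
  [3, 3, 3],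
  [4, 2, 9, 5, 7, 5, 5, 5],
  [4, 0, 2, 0, 9, 7, 6, 5, 7, 5, 6, 5],
  [4, 1, 0, 1, 1, 9, 6, 5, 7, 6, 5],
  [4, 4, 4],
  [3, 4, 8, 9],
  [3, 1, 3, 1, 3, 1, 3, 1, 3, 1, 3, 1, 3, 1],
  [4, 1, 4, 1, 4, 1, 4, 1, 4, 1, 4, 1, 4, 1],
  [3, 1, 0, 3, 1, 0, 3, 1, 0],
  [4, 1, 2, 4, 1, 2, 4, 1, 2, 7, 6, 5, 7, 6, 5, 5, 5]]

/-- The relations of case 010. -/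
def rels010 : List (List ℕ) := [
  [1, 1, 1],
  [1, 2, 1, 2],
  [0, 0, 2, 0, 0, 2],
  [0, 1, 0, 1, 5, 1],
  [0, 2, 0, 2, 0, 2, 0, 2],
  [1, 2, 0, 1, 2, 0, 7, 6, 5, 7, 6, 5],
  [3, 2, 8, 5, 6, 5, 7, 5, 6, 5, 5],
  [3, 0, 8, 6, 5, 7, 5, 6],
  [3, 1, 0, 2, 0, 1, 8, 5, 7],
  [3, 3, 3],
  [4, 2, 9, 5, 7, 5, 5, 5],
  [4, 0, 2, 0, 9, 7, 6, 5, 7, 5, 6, 5],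
  [4, 1, 0, 1, 1, 9, 6, 5, 7, 6, 5],
  [4, 4, 4],
  [3, 4, 8, 9],
  [3, 1, 3, 1, 3, 1, 3, 1, 3, 1, 3, 1, 3, 1],
  [4, 1, 4, 1, 4, 1, 4, 1, 4, 1, 4, 1, 4, 1],
  [3, 1, 0, 3, 1, 0, 3, 1, 0, 7, 6, 5, 7, 5, 6],
  [4, 1, 2, 4, 1, 2, 4, 1, 2]]

/-- The relations of case 011. -/
def rels011 : List (List ℕ) := [
  [1, 1, 0, 2, 0, 2, 5, 7, 5, 6, 7],
  [0, 0, 2, 0, 2, 0, 7, 5, 7, 5, 5, 5],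
  [0, 0, 2, 0, 1, 2, 1, 7, 5, 7, 5, 5],
  [0, 0, 2, 0, 1, 2, 2, 6, 5, 7, 5, 5],
  [0, 0, 2, 0, 1, 0, 1, 5, 7, 6, 5, 5],
  [2, 0, 1, 1, 0, 0, 6, 6, 5, 7, 5, 5],
  [1, 2, 0, 1, 2, 0, 7, 6, 5, 7, 6, 5],
  [3, 2, 8, 5, 6, 5, 7, 5, 6, 5, 5],
  [3, 0, 8, 6, 5, 7, 5, 6],
  [3, 1, 0, 2, 0, 1, 8, 5, 7],
  [3, 3, 3],
  [4, 2, 9, 5, 7, 5, 5, 5],
  [4, 0, 2, 0, 9, 7, 6, 5, 7, 5, 6, 5],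
  [4, 1, 0, 1, 1, 9, 6, 5, 7, 6, 5],
  [4, 4, 4],
  [3, 4, 8, 9],
  [3, 1, 3, 1, 3, 1, 3, 1, 3, 1, 3, 1, 3, 1],
  [4, 1, 4, 1, 4, 1, 4, 1, 4, 1, 4, 1, 4, 1],
  [3, 1, 0, 3, 1, 0, 3, 1, 0, 7, 6, 5, 7, 5, 6],
  [4, 1, 2, 4, 1, 2, 4, 1, 2, 7, 6, 5, 7, 6, 5, 5, 5]]

/-- The relations of case 100. -/
def rels100 : List (List ℕ) := [
  [1, 1, 1],
  [1, 2, 1, 2],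
  [0, 0, 2, 0, 0, 2],
  [0, 1, 0, 1, 5, 1],
  [0, 2, 0, 2, 0, 2, 0, 2],
  [1, 2, 0, 1, 2, 0, 7, 6, 5, 7, 6, 5],
  [3, 2, 8, 5, 6, 5, 7, 5, 6, 5, 5],
  [3, 0, 8, 6, 5, 7, 5, 6],
  [3, 1, 0, 2, 0, 1, 8, 5, 7],
  [3, 3, 3],
  [4, 2, 9, 5, 7, 5, 5, 5],
  [4, 0, 2, 0, 9, 7, 6, 5, 7, 5, 6, 5],
  [4, 1, 0, 1, 1, 9, 6, 5, 7, 6, 5, 5, 5],
  [4, 4, 4],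
  [3, 4, 8, 9],
  [3, 1, 3, 1, 3, 1, 3, 1, 3, 1, 3, 1, 3, 1],
  [4, 1, 2, 4, 1, 2, 4, 1, 2, 4, 1, 2, 4, 1, 2, 4, 1, 2, 4, 1, 2],
  [3, 1, 0, 3, 1, 0, 3, 1, 0],
  [4, 2, 1, 4, 2, 1, 4, 2, 1]]

/-- The relations of case 101. -/
def rels101 : List (List ℕ) := [
  [1, 1, 1],
  [1, 2, 1, 2],
  [0, 0, 2, 0, 0, 2],
  [0, 1, 0, 1, 5, 1],
  [0, 2, 0, 2, 0, 2, 0, 2],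
  [1, 2, 0, 1, 2, 0, 7, 6, 5, 7, 6, 5],
  [3, 2, 8, 5, 6, 5, 7, 5, 6, 5, 5],
  [3, 0, 8, 6, 5, 7, 5, 6],
  [3, 1, 0, 2, 0, 1, 8, 5, 7],
  [3, 3, 3],
  [4, 2, 9, 5, 7, 5, 5, 5],
  [4, 0, 2, 0, 9, 7, 6, 5, 7, 5, 6, 5],
  [4, 1, 0, 1, 1, 9, 6, 5, 7, 6, 5, 5, 5],
  [4, 4, 4],
  [3, 4, 8, 9],
  [3, 2, 1, 3, 2, 1, 3, 2, 1, 3, 2, 1, 3, 2, 1, 3, 2, 1, 3, 2, 1],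
  [4, 1, 1, 4, 1, 1, 4, 1, 1, 4, 1, 1, 4, 1, 1, 4, 1, 1, 4, 1, 1],
  [3, 1, 0, 3, 1, 0, 3, 1, 0],
  [4, 2, 1, 4, 2, 1, 4, 2, 1, 5, 7, 5, 6, 7, 5, 6]]

/-- The relations of case 110. -/
def rels110 : List (List ℕ) := [
  [1, 1, 1],
  [1, 2, 1, 2],
  [0, 0, 2, 0, 0, 2],
  [0, 1, 0, 1, 5, 1],
  [0, 2, 0, 2, 0, 2, 0, 2],
  [1, 2, 0, 1, 2, 0, 7, 6, 5, 7, 6, 5],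
  [3, 2, 8, 5, 6, 5, 7, 5, 6, 5, 5],
  [3, 0, 8, 6, 5, 7, 5, 6],
  [3, 1, 0, 2, 0, 1, 8, 5, 7],
  [3, 3, 3],
  [4, 2, 9, 5, 7, 5, 5, 5],
  [4, 0, 2, 0, 9, 7, 6, 5, 7, 5, 6, 5],
  [4, 1, 0, 1, 1, 9, 6, 5, 7, 6, 5, 5, 5],
  [4, 4, 4],
  [3, 4, 8, 9],
  [3, 1, 3, 1, 3, 1, 3, 1, 3, 1, 3, 1, 3, 1],
  [4, 1, 2, 4, 1, 2, 4, 1, 2, 4, 1, 2, 4, 1, 2, 4, 1, 2, 4, 1, 2],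
  [3, 1, 0, 3, 1, 0, 3, 1, 0, 7, 6, 5, 7, 5, 6],
  [4, 2, 1, 4, 2, 1, 4, 2, 1]]

/-- The relations of case 111. -/
def rels111 : List (List ℕ) := [
  [1, 1, 1],
  [1, 2, 1, 2],
  [0, 0, 2, 0, 0, 2],
  [0, 1, 0, 1, 5, 1],
  [0, 2, 0, 2, 0, 2, 0, 2],
  [1, 2, 0, 1, 2, 0, 7, 6, 5, 7, 6, 5],
  [3, 2, 8, 5, 6, 5, 7, 5, 6, 5, 5],
  [3, 0, 8, 6, 5, 7, 5, 6],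
  [3, 1, 0, 2, 0, 1, 8, 5, 7],
  [3, 3, 3],
  [4, 2, 9, 5, 7, 5, 5, 5],
  [4, 0, 2, 0, 9, 7, 6, 5, 7, 5, 6, 5],
  [4, 1, 0, 1, 1, 9, 6, 5, 7, 6, 5, 5, 5],
  [4, 4, 4],
  [3, 4, 8, 9],
  [3, 1, 3, 1, 3, 1, 3, 1, 3, 1, 3, 1, 3, 1],
  [4, 1, 2, 4, 1, 2, 4, 1, 2, 4, 1, 2, 4, 1, 2, 4, 1, 2, 4, 1, 2],
  [3, 1, 0, 3, 1, 0, 3, 1, 0, 7, 6, 5, 7, 5, 6],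
  [4, 2, 1, 4, 2, 1, 4, 2, 1, 5, 7, 5, 6, 7, 5, 6]]

end CfsgQS3
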