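import Cfsg.Agent.Lib.QS3.Rel
import Cfsg.Agent.Lib.QS3.Cert.C000
import Cfsg.Agent.Lib.QS3.Cert.C001
import Cfsg.Agent.Lib.QS3.Cert.C010
import Cfsg.Agent.Lib.QS3.Cert.C011
import Cfsg.Agent.Lib.QS3.Cert.C100
import Cfsg.Agent.Lib.QS3.Cert.C101
import Cfsg.Agent.Lib.QS3.Cert.C110
import Cfsg.Agent.Lib.QS3.Cert.C111

/-!
Groups with an involution centraliser `Q.S₃`: the cases of the standard pair.
-/

set_option autoImplicit false
set_option maxRecDepth 100000

namespace CfsgQS3

/-- The powers known in a configuration. -/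
def powsOf (c : ℕ) (x y : ℕ) : List (List ℕ × ℕ) :=
  if c = 0 then
    [((List.replicate 7 (3 :: [1])).flatten, 0),
      ((List.replicate 7 (4 :: [1])).flatten, 0),
      ((List.replicate 3 (3 :: [1, 0])).flatten, x),
      ((List.replicate 3 (4 :: [1, 2])).flatten, y)]
  else
    [((List.replicate 7 (3 :: [1])).flatten, 0),
      ((List.replicate 7 (3 :: [2, 1])).flatten, 0),
      ((List.replicate 7 (4 :: [1, 2])).flatten, 0),
      ((List.replicate 7 (4 :: [1, 1])).flatten, 0),
      ((List.replicate 3 (3 :: [1, 0])).flatten, x),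
      ((List.replicate 3 (4 :: [2, 1])).flatten, y)]

theorem pows_ok :
    powOK row2 (row2.opts.getD 0 []) [1] 7 [0] = true ∧
    powOK row3 (row3.opts.getD 0 []) [1] 7 [0] = true ∧
    powOK row2 (row2.opts.getD 0 []) [1, 0] 3 [0, 132] = true ∧
    powOK row3 (row3.opts.getD 0 []) [1, 2] 3 [0, 60] = true ∧
    powOK row2 (row2.opts.getD 0 []) [1] 7 [0] = true ∧
    powOK row2 (row2.opts.getD 0 []) [2, 1] 7 [0] = true ∧
    powOK row3 (row3.opts.getD 1 []) [1, 2] 7 [0] = true ∧
    powOK row3 (row3.opts.getD 1 []) [1, 1] 7 [0] = true ∧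
    powOK row2 (row2.opts.getD 0 []) [1, 0] 3 [0, 132] = true ∧
    powOK row3 (row3.opts.getD 1 []) [2, 1] 3 [0, 150] = true := by
  decide +kernel

theorem rels_ok :
    (rels000.all (relOK (row2.opts.getD 0 []) (row3.opts.getD 0 []) (powsOf 0 0 0))) = true ∧
    (rels001.all (relOK (row2.opts.getD 0 []) (row3.opts.getD 0 []) (powsOf 0 0 60))) = true ∧
    (rels010.all (relOK (row2.opts.getD 0 []) (row3.opts.getD 0 []) (powsOf 0 132 0))) = true ∧
    (rels011.all (relOK (row2.opts.getD 0 []) (row3.opts.getD 0 []) (powsOf 0 132 60))) = true ∧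
    (rels100.all (relOK (row2.opts.getD 0 []) (row3.opts.getD 1 []) (powsOf 1 0 0))) = true ∧
    (rels101.all (relOK (row2.opts.getD 0 []) (row3.opts.getD 1 []) (powsOf 1 0 150))) = true ∧
    (rels110.all (relOK (row2.opts.getD 0 []) (row3.opts.getD 1 []) (powsOf 1 132 0))) = true ∧
    (rels111.all (relOK (row2.opts.getD 0 []) (row3.opts.getD 1 []) (powsOf 1 132 150))) = true := by
  decide +kernel

namespace Dat

variable {G : Type*} [Group G] {s : G} {φ : ℕ → G} (D : Dat s 2 φ)
include D

/-- A standard pair occurs only in the first configuration and satisfies the relations of one case. -/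
theorem pair_rels {α β : G} {c : ℕ} (hc : c < 2) (hA : Act s φ row2 (row2.opts.getD 0 []) α)
    (hB : Act s φ row3 (row3.opts.getD c []) β) (hcomm : α * β = β * α) :
    c = 0 ∧ ∀ w ∈ rels001, wordVal (letters φ α β) w = 1 := by
  obtain ⟨p0, p1, p2, p3, q0, q1, q2, q3, q4, q5⟩ := pows_ok
  obtain ⟨r000, r001, r010, r011, r100, r101, r110, r111⟩ := rels_ok
  have hwv : ∀ (a : ℕ) (γ : G), letters φ α β a = γ → ∀ u : List ℕ, u.all isH = true → ∀ n v : ℕ, v < 192 →
      (γ * φ (hval u)) ^ n = φ v → v < 192 ∧ wordVal (letters φ α β) (List.replicate n (a :: u)).flatten = φ v :=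
    fun a γ ha u hu n v hv e => ⟨hv, by rw [D.pow_word a ha hu, e]⟩
  have h2 : row2 ∈ [row2, row3] := by simp
  have h3 : row3 ∈ [row2, row3] := by simp
  -- the action on the cosets of the centraliser of `s`
  let S := Subgroup.centralizer ({s} : Set G)
  have mk : ∀ {rels : List (List ℕ)}, (∀ w ∈ rels, wordVal (letters φ α β) w = 1) →
      CosetData rels 3 (letters φ α β) ((1 : G) : G ⧸ S) := by
    intro rels hr
    refine ⟨fun i hi => ?_, hr, fun {i} hi => ?_⟩
    · interval_cases i <;> simp [invLetter, letters]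
    · rw [MulAction.Quotient.smul_coe, smul_eq_mul, mul_one, QuotientGroup.eq, mul_one]
      refine S.inv_mem (Subgroup.mem_centralizer_singleton_iff.2 ?_)
      interval_cases i
      · exact D.comm_s (x := 48) (by norm_num)
      · exact D.comm_s (x := 2) (by norm_num)
      · exact D.comm_s (x := 1) (by norm_num)
  have coll : letters φ α β 3 • ((1 : G) : G ⧸ S) = ((1 : G) : G ⧸ S) → False := by
    intro h
    rw [MulAction.Quotient.smul_coe, smul_eq_mul, mul_one, QuotientGroup.eq, mul_one] at h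
    have hm : α ∈ S := by simpa [letters] using S.inv_mem h
    have e := Subgroup.mem_centralizer_singleton_iff.1 hm
    have := hA.conj_s
    rw [e, mul_inv_cancel_right, ← D.zc] at this
    exact absurd (D.inj 24 (by norm_num) 54 (by norm_num) this) (by norm_num)
  interval_cases c
  · obtain ⟨c0, hc0, e0⟩ := D.pow_cases h2 hA p0
    obtain ⟨c1, hc1, e1⟩ := D.pow_cases h3 hB p1
    obtain ⟨c2, hc2, e2⟩ := D.pow_cases h2 hA p2
    obtain ⟨c3, hc3, e3⟩ := D.pow_cases h3 hB p3
    simp only [List.mem_cons, List.not_mem_nil, or_false] at hc0 hc1 hc2 hc3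
    subst c0 c1
    have hp : ∀ q ∈ powsOf 0 c2 c3, q.2 < 192 ∧ wordVal (letters φ α β) q.1 = φ q.2 := by
      intro q hq
      simp only [powsOf, if_true, List.mem_cons, List.not_mem_nil, or_false] at hq
      rcases hq with rfl | rfl | rfl | rfl
      · exact hwv 3 α rfl _ rfl _ 0 (by norm_num) e0
      · exact hwv 4 β rfl _ rfl _ 0 (by norm_num) e1
      · exact hwv 3 α rfl _ rfl _ c2 (by rcases hc2 with rfl | rfl <;> norm_num) e2
      · exact hwv 4 β rfl _ rfl _ c3 (by rcases hc3 with rfl | rfl <;> norm_num) e3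
    have rel : ∀ {rels : List (List ℕ)}, rels.all (relOK (row2.opts.getD 0 []) (row3.opts.getD 0 []) (powsOf 0 c2 c3)) =
        true → ∀ w ∈ rels, wordVal (letters φ α β) w = 1 :=
      fun h w hw => D.rel_of hA hB hcomm hp (List.all_eq_true.1 h w hw)
    rcases hc2 with rfl | rfl <;> rcases hc3 with rfl | rfl
    · exact (coll (Cert000.collapse (mk (rel r000)))).elim
    · exact ⟨rfl, rel r001⟩
    · exact (coll (Cert010.collapse (mk (rel r010)))).elim
    · exact (coll (Cert011.collapse (mk (rel r011)))).elim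
  · obtain ⟨c0, hc0, e0⟩ := D.pow_cases h2 hA q0
    obtain ⟨c1, hc1, e1⟩ := D.pow_cases h2 hA q1
    obtain ⟨c2, hc2, e2⟩ := D.pow_cases h3 hB q2
    obtain ⟨c3, hc3, e3⟩ := D.pow_cases h3 hB q3
    obtain ⟨c4, hc4, e4⟩ := D.pow_cases h2 hA q4
    obtain ⟨c5, hc5, e5⟩ := D.pow_cases h3 hB q5
    simp only [List.mem_cons, List.not_mem_nil, or_false] at hc0 hc1 hc2 hc3 hc4 hc5
    subst c0 c1 c2 c3
    have hp : ∀ q ∈ powsOf 1 c4 c5, q.2 < 192 ∧ wordVal (letters φ α β) q.1 = φ q.2 := by
      intro q hq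
      simp only [powsOf, one_ne_zero, if_false, List.mem_cons, List.not_mem_nil, or_false] at hq
      rcases hq with rfl | rfl | rfl | rfl | rfl | rfl
      · exact hwv 3 α rfl _ rfl _ 0 (by norm_num) e0
      · exact hwv 3 α rfl _ rfl _ 0 (by norm_num) e1
      · exact hwv 4 β rfl _ rfl _ 0 (by norm_num) e2
      · exact hwv 4 β rfl _ rfl _ 0 (by norm_num) e3
      · exact hwv 3 α rfl _ rfl _ c4 (by rcases hc4 with rfl | rfl <;> norm_num) e4
      · exact hwv 4 β rfl _ rfl _ c5 (by rcases hc5 with rfl | rfl <;> norm_num) e5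
    have rel : ∀ {rels : List (List ℕ)}, rels.all (relOK (row2.opts.getD 0 []) (row3.opts.getD 1 []) (powsOf 1 c4 c5)) =
        true → ∀ w ∈ rels, wordVal (letters φ α β) w = 1 :=
      fun h w hw => D.rel_of hA hB hcomm hp (List.all_eq_true.1 h w hw)
    refine (coll ?_).elim
    rcases hc4 with rfl | rfl <;> rcases hc5 with rfl | rfl
    · exact Cert100.collapse (mk (rel r100))
    · exact Cert101.collapse (mk (rel r101))
    · exact Cert110.collapse (mk (rel r110))
    · exact Cert111.collapse (mk (rel r111))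

end Dat

end CfsgQS3
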