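import Cfsg.Agent.Lib.QS3.Model

/-!
Groups with an involution centraliser `Q.S₃`: the actions of an element of order three on the centraliser of a four
group.  For each type and each four group, generators of the centraliser, words for its elements in ascending order,
and the possible images of the generators.
-/

set_option autoImplicit false

namespace CfsgQS3

/-- The data of a four group: type, code, centraliser, generators, words and images of the generators. -/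
structure Row where
  /-- The type. -/
  ty : ℕ
  /-- The code. -/
  r : ℕ
  /-- The centraliser. -/
  cen : List ℕ
  /-- The generators. -/
  gens : List ℕ
  /-- The words. -/
  ws : List (List ℕ)
  /-- The possible images. -/
  opts : List (List ℕ)

/-- The data of type 0 at the code 54. -/
def row0 : Row :=
  ⟨0, 54, [0, 1, 6, 7, 24, 25, 30, 31, 48, 49, 54, 55, 72, 73, 78, 79, 108, 109, 114, 115, 132, 133, 138, 139, 156, 157, 162, 163, 180, 181, 186, 187], [1, 6, 108],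
    [[], [0], [1], [1, 0], [1, 1], [0, 1, 1], [0, 1, 0], [0, 1], [0, 1, 2, 0, 2], [2, 0, 2, 1], [0, 2, 0, 2], [2, 0, 2], [0, 2, 0, 2, 1], [1, 2, 0, 2], [0, 1, 1, 2, 0, 2], [1, 1, 2, 0, 2], [2], [2, 0], [1, 2], [1, 2, 0], [1, 1, 2], [1, 1, 2, 0], [2, 1], [2, 1, 0], [0, 1, 2, 0], [0, 1, 2], [0, 2, 0], [0, 2], [0, 2, 1, 0], [0, 2, 1], [0, 1, 1, 2, 0], [0, 1, 1, 2]],
    [[1, 109, 156],
      [1, 133, 114],
      [1, 163, 180],
      [1, 187, 138],
      [7, 109, 162],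
      [7, 133, 132],
      [7, 163, 186],
      [7, 187, 108],
      [25, 109, 180],
      [25, 133, 138],
      [25, 163, 156],
      [25, 187, 114],
      [31, 109, 186],
      [31, 133, 108],
      [31, 163, 162],
      [31, 187, 132],
      [49, 109, 132],
      [49, 133, 162],
      [49, 163, 108],
      [49, 187, 186],
      [55, 109, 138],
      [55, 133, 180],
      [55, 163, 114],
      [55, 187, 156],
      [73, 109, 108],
      [73, 133, 186],
      [73, 163, 132],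
      [73, 187, 162],
      [79, 109, 114],
      [79, 133, 156],
      [79, 163, 138],
      [79, 187, 180],
      [108, 109, 31],
      [108, 133, 73],
      [108, 163, 7],
      [108, 187, 49],
      [114, 109, 1],
      [114, 133, 79],
      [114, 163, 25],
      [114, 187, 55],
      [132, 109, 7],
      [132, 133, 49],
      [132, 163, 31],
      [132, 187, 73],
      [138, 109, 25],
      [138, 133, 55],
      [138, 163, 1],
      [138, 187, 79],
      [156, 109, 79],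
      [156, 133, 1],
      [156, 163, 55],
      [156, 187, 25],
      [162, 109, 49],
      [162, 133, 7],
      [162, 163, 73],
      [162, 187, 31],
      [180, 109, 55],
      [180, 133, 25],
      [180, 163, 79],
      [180, 187, 1],
      [186, 109, 73],
      [186, 133, 31],
      [186, 163, 49],
      [186, 187, 7]]⟩

/-- The data of type 1 at the code 54. -/
def row1 : Row :=
  ⟨1, 54, [0, 1, 6, 7, 24, 25, 30, 31, 48, 49, 54, 55, 72, 73, 78, 79, 108, 109, 114, 115, 132, 133, 138, 139, 156, 157, 162, 163, 180, 181, 186, 187], [1, 6, 108],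
    [[], [0], [1], [1, 0], [0, 0], [0, 0, 0], [0, 0, 1], [0, 1], [0, 2, 0, 2, 1], [2, 0, 2, 1], [0, 0, 0, 2, 0, 2], [2, 0, 2], [0, 1, 2, 0, 2], [1, 2, 0, 2], [0, 2, 0, 2], [0, 0, 2, 0, 2], [2], [2, 0], [1, 2], [1, 2, 0], [0, 0, 2], [0, 0, 2, 0], [2, 1], [2, 1, 0], [0, 2, 1, 0], [0, 1, 2], [0, 0, 0, 2, 0], [0, 2], [0, 1, 2, 0], [0, 2, 1], [0, 2, 0], [0, 0, 0, 2]],
    []⟩

/-- The data of type 2 at the code 54. -/
def row2 : Row :=
  ⟨2, 54, [0, 1, 6, 7, 24, 25, 30, 31, 48, 49, 54, 55, 72, 73, 78, 79, 108, 109, 114, 115, 132, 133, 138, 139, 156, 157, 162, 163, 180, 181, 186, 187], [1, 6, 108],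
    [[], [0], [1], [1, 0], [1, 1], [0, 1, 1], [1, 1, 1], [1, 0, 1, 1], [0, 1, 0, 1, 1], [0, 1, 1, 1], [0, 2, 0, 2], [2, 0, 2], [0, 1, 0], [0, 1], [0, 1, 0, 1], [1, 0, 1], [2], [2, 0], [1, 2], [0, 1, 2], [1, 1, 2], [1, 0, 1, 2], [2, 1], [0, 2, 1], [0, 2, 0, 1], [2, 0, 1], [0, 2, 0], [0, 2], [0, 1, 0, 2], [1, 0, 2], [0, 1, 0, 1, 2], [0, 1, 1, 2]],
    [[115, 109, 162],
      [115, 133, 186],
      [115, 163, 108],
      [115, 187, 132],
      [139, 109, 108],
      [139, 133, 132],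
      [139, 163, 162],
      [139, 187, 186],
      [157, 109, 186],
      [157, 133, 162],
      [157, 163, 132],
      [157, 187, 108],
      [181, 109, 132],
      [181, 133, 108],
      [181, 163, 186],
      [181, 187, 162]]⟩

/-- The data of type 2 at the code 114. -/
def row3 : Row :=
  ⟨2, 114, [0, 1, 18, 19, 24, 25, 42, 43, 54, 55, 60, 61, 78, 79, 84, 85, 96, 97, 114, 115, 120, 121, 138, 139, 150, 151, 156, 157, 174, 175, 180, 181], [1, 18, 54],
    [[], [0], [1], [1, 0], [1, 1], [0, 1, 1], [1, 1, 1], [1, 0, 1, 1], [2], [0, 2], [1, 2], [1, 0, 2], [1, 1, 2], [0, 1, 1, 2], [2, 1], [2, 1, 0], [0, 1, 0, 1, 1], [0, 1, 1, 1], [0, 1, 0, 1, 1, 1], [1, 0, 1, 1, 1], [0, 1, 0], [0, 1], [0, 1, 0, 1], [1, 0, 1], [0, 1, 0, 2], [0, 1, 2], [0, 1, 0, 1, 2], [1, 0, 1, 2], [0, 2, 1, 0], [0, 2, 1], [0, 1, 0, 2, 1], [1, 0, 2, 1]],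
    [[55, 61, 1],
      [55, 85, 1],
      [55, 151, 1],
      [55, 175, 1],
      [79, 61, 115],
      [79, 85, 115],
      [79, 151, 115],
      [79, 175, 115],
      [157, 61, 25],
      [157, 85, 25],
      [157, 151, 25],
      [157, 175, 25],
      [181, 61, 139],
      [181, 85, 139],
      [181, 151, 139],
      [181, 175, 139]]⟩

/-- The data of type 2 at the code 156. -/
def row4 : Row :=
  ⟨2, 156, [0, 1, 12, 13, 24, 25, 36, 37, 54, 55, 66, 67, 78, 79, 90, 91, 102, 103, 114, 115, 126, 127, 138, 139, 144, 145, 156, 157, 168, 169, 180, 181], [1, 12, 54],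
    [[], [0], [1], [1, 0], [1, 1], [0, 1, 1], [1, 1, 1], [1, 0, 1, 1], [2], [0, 2], [2, 1], [2, 1, 0], [1, 1, 2], [0, 1, 1, 2], [1, 2], [1, 0, 2], [0, 2, 1, 0], [0, 2, 1], [0, 1, 0, 1, 2], [1, 0, 1, 2], [0, 1, 0, 2], [0, 1, 2], [0, 1, 0, 2, 1], [1, 0, 2, 1], [0, 1, 0, 1, 1], [0, 1, 1, 1], [0, 1, 0, 1, 1, 1], [1, 0, 1, 1, 1], [0, 1, 0], [0, 1], [0, 1, 0, 1], [1, 0, 1]],
    [[55, 67, 1],
      [55, 91, 1],
      [55, 103, 1],
      [55, 127, 1],
      [79, 67, 157],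
      [79, 91, 157],
      [79, 103, 157],
      [79, 127, 157],
      [115, 67, 25],
      [115, 91, 25],
      [115, 103, 25],
      [115, 127, 25],
      [139, 67, 181],
      [139, 91, 181],
      [139, 103, 181],
      [139, 127, 181]]⟩

/-- The data of type 3 at the code 54. -/
def row5 : Row :=
  ⟨3, 54, [0, 1, 6, 7, 24, 25, 30, 31, 48, 49, 54, 55, 72, 73, 78, 79, 108, 109, 114, 115, 132, 133, 138, 139, 156, 157, 162, 163, 180, 181, 186, 187], [1, 6, 108],
    [[], [0], [1], [1, 0], [0, 0], [0, 0, 0], [0, 0, 1], [0, 0, 1, 0], [0, 1, 0], [0, 0, 0, 1], [0, 1, 0, 1], [2, 0, 2], [0, 0, 0, 1, 0], [0, 1], [0, 2, 0, 2], [1, 0, 1], [2], [2, 0], [1, 2], [0, 1, 2], [0, 0, 2], [0, 0, 2, 0], [2, 1], [0, 2, 1], [0, 1, 0, 2], [2, 0, 1], [0, 0, 0, 2, 0], [0, 2], [0, 2, 0, 1], [1, 0, 2], [0, 2, 0], [0, 0, 0, 2]],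
    []⟩

/-- The data of type 3 at the code 60. -/
def row6 : Row :=
  ⟨3, 60, [0, 3, 12, 15, 24, 27, 36, 39, 48, 51, 60, 63, 72, 75, 84, 87, 102, 105, 114, 117, 126, 129, 138, 141, 150, 153, 162, 165, 174, 177, 186, 189], [3, 12, 102],
    [[], [0], [1], [1, 0], [0, 0], [0, 0, 0], [0, 0, 1], [0, 0, 1, 0], [0, 1, 0], [0, 0, 0, 1], [0, 1, 0, 1], [0, 0, 1, 0, 1], [0, 0, 0, 1, 0], [0, 1], [0, 0, 0, 1, 0, 1], [1, 0, 1], [2], [0, 2], [2, 1], [2, 1, 0], [0, 0, 2], [0, 0, 0, 2], [1, 2], [1, 0, 2], [0, 1, 0, 2], [0, 2, 1], [0, 1, 0, 2, 1], [1, 0, 1, 2], [0, 2, 1, 0], [0, 1, 2], [0, 1, 0, 1, 2], [1, 0, 2, 1]],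
    []⟩

/-- The data of type 3 at the code 66. -/
def row7 : Row :=
  ⟨3, 66, [0, 5, 18, 23, 24, 29, 42, 47, 48, 53, 66, 71, 72, 77, 90, 95, 102, 107, 108, 113, 126, 131, 132, 137, 150, 155, 156, 161, 174, 179, 180, 185], [5, 18, 102],
    [[], [0], [1], [1, 0], [0, 0], [0, 0, 0], [0, 0, 1], [0, 0, 1, 0], [0, 1, 0], [0, 0, 0, 1], [0, 1, 0, 1], [2, 0, 2], [0, 0, 0, 1, 0], [0, 1], [0, 2, 0, 2], [1, 0, 1], [2], [2, 0], [1, 2], [0, 1, 2], [0, 0, 2], [0, 0, 2, 0], [2, 1], [0, 2, 1], [0, 1, 0, 2], [2, 0, 1], [0, 0, 0, 2, 0], [0, 2], [0, 2, 0, 1], [1, 0, 2], [0, 2, 0], [0, 0, 0, 2]],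
    []⟩

/-- The table. -/
def rows : List Row := [row0, row1, row2, row3, row4, row5, row6, row7]

/-- The image of `x` under the action with the given images of the generators. -/
def fap (R : Row) (ys : List ℕ) (x : ℕ) : ℕ :=
  mword R.ty ((R.ws.getD (R.cen.idxOf x) []).map fun i => ys.getD i 0)

end CfsgQS3
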