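import Cfsg.Agent.Lib.QS3.Basic
import Cfsg.Agent.Lib.QS3.Table

/-!
Groups with an involution centraliser `Q.S₃`: classes of involutions in the models.
-/

set_option autoImplicit false
set_option maxRecDepth 100000

namespace CfsgQS3

/-- An involution code other than that of `s`. -/
def isInv (k n : ℕ) : Bool := n != 0 && n != 24 && mmul k n n == 0

/-- A code in the six-element classes. -/
def isSix (k n : ℕ) : Bool := isInv k n && n % 6 == 0 && (mcent k n).length == 32

theorem class_sizes : ∀ k < 4, (codes.all fun n => !isInv k n || (n % 6 != 0 && ((mcent k n).length == 8 ||
    (mcent k n).length == 16)) || (n % 6 == 0 && ((mcent k n).length == 32 || (k < 2 && (mcent k n).length == 16)))) =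
    true := by decide +kernel

theorem twelve_commutator : ∀ k < 2, (codes.all fun n => !isInv k n || (mcent k n).length != 16 ||
    ((mcent k n).any fun a => (mcent k n).any fun b => mconj k a b == mmul k 24 b) &&
    ((mcent k n).all fun a => (mcent k n).all fun b => mconj k a b == b || mconj k a b == mmul k 24 b)) = true := by
  decide +kernel

theorem six_swap : ∀ k < 4, (codes.all fun r => !isSix k r || codes.any fun h => mconj k h r == mmul k r 24) = true := by
  decide +kernel

theorem six_reps : ∀ k < 4, (codes.all fun r => !isSix k r || codes.any fun h =>
    rows.any fun row => row.ty == k && mconj k h r == row.r) = true := by decide +kernel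

theorem rows_ok : (rows.all fun row => decide (row.ty < 4) && decide (row.r < 192) && isSix row.ty row.r &&
    row.gens.all fun g => row.cen.contains g) = true := by decide +kernel

theorem p_exponent : ∀ k < 4, (codes.all fun r => !isSix k r ||
    (mcent k r).all fun p => mmul k (mmul k (mmul k p p) (mmul k p p)) (mmul k (mmul k p p) (mmul k p p)) == 0) =
    true := by decide +kernel

end CfsgQS3
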