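import Cfsg.Agent.Lib.QS3.Shape

/-!
Groups with an involution centraliser `Q.S₃`: existence of coordinates of one of the four types.
-/

set_option autoImplicit false
set_option maxRecDepth 100000

namespace CfsgQS3

theorem qrot_facts : ∀ q < 32, qrot 0 q = q ∧ qrot 2 q = qrot 1 (qrot 1 q) ∧ qrot 1 q < 32 ∧
    qrot 1 (qrot 2 q) = q ∧ qrot 2 q < 32 ∧ ∀ p < 32, qrot 1 (qmul q p) = qmul (qrot 1 q) (qrot 1 p) ∧ qmul q p < 32 := by
  decide +kernel

theorem qtau_facts : ∀ k < 4, ∀ q < 32, qtau k q < 32 ∧ ∀ p < 32, qtau k (qmul q p) = qmul (qtau k q) (qtau k p) := by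
  decide +kernel

theorem code_eq : ∀ k < 4, ∀ x < 192, x / 6 < 32 ∧ x = 6 * (x / 6) + 2 * (x / 2 % 3) + x % 2 := by decide +kernel

theorem flips : ∀ q < 32, q = 0 ∨ q = 4 ∨ [8, 16, 1, 2].any (fun g => qmul q g == qmul (qmul g q) 4) = true := by
  decide +kernel

theorem uv_cases : ∀ q < 32, qmul q q = 4 → (qv q = 0 ∧ 2 ≤ qu q) ∨ (qu q < 2 ∧ 2 ≤ qv q) := by decide +kernel

theorem u_rot : ∀ p < 32, qmul p p = 4 → qv p = 0 → ∃ m < 3,
    qrot ((3 - m) % 3) p = qrot m 8 ∨ qrot ((3 - m) % 3) p = qmul (qrot m 8) 4 := by decide +kernel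

theorem v_side' : ((List.range 32).all fun p => qmul p p != 4 || qv p != 0 || (List.range 32).all fun p' =>
    qmul p' p' != 4 || qmul p p' != qmul p' p || qmul (qrot 2 p) p' != qmul p' (qrot 2 p) || decide (qu p' < 2)) =
      true := by decide +kernel

theorem v_side {p : ℕ} (hp : p < 32) (h : qmul p p = 4) (hv : qv p = 0) {p' : ℕ} (hp' : p' < 32)
    (h' : qmul p' p' = 4) (hc : qmul p p' = qmul p' p) (hc' : qmul (qrot 2 p) p' = qmul p' (qrot 2 p)) :
    qu p' < 2 := by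
  have := List.all_eq_true.1 v_side' p (List.mem_range.2 hp)
  simp only [h, hv, bne_self_eq_false, Bool.false_or, List.all_eq_true] at this
  simpa [h', hc, hc'] using this p' (List.mem_range.2 hp')

theorem rot_four : ∀ q < 32, qmul q q = 4 → qmul (qrot 1 q) (qrot 1 q) = 4 := by decide +kernel

theorem pair_commute : ∀ q < 32, ∀ p < 32, qv q = 0 → qu p < 2 → qmul q p = qmul p q := by decide +kernel

theorem rot_facts : ∀ m < 3, qrot m 8 < 32 ∧ qv (qrot m 8) = 0 ∧ qmul (qrot m 8) (qrot m 8) = 4 ∧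
    qv (qrot 1 (qrot m 8)) = 0 ∧
    qmul (qrot m 8) (qrot 1 (qrot m 8)) = qrot 1 (qrot 1 (qrot m 8)) := by decide +kernel

theorem uv_rot : ∀ q < 32, (qv q = 0 → qv (qrot 1 q) = 0) ∧ (qu q < 2 → qu (qrot 1 q) < 2) := by decide +kernel

variable {G : Type*} [Group G] {s : G} {Q : Subgroup G} {x j a a' : G}

/-- Quaternion frames in `Q` rotated by `x` and centralising each other. -/
structure Frame (s : G) (Q : Subgroup G) (x a a' : G) : Prop where
  ha : a ∈ Q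
  ha' : a' ∈ Q
  h : Quat s a (x * a * x⁻¹) (x * (x * a * x⁻¹) * x⁻¹)
  h' : Quat s a' (x * a' * x⁻¹) (x * (x * a' * x⁻¹) * x⁻¹)
  c1 : Commute a a'
  c2 : Commute a (x * a' * x⁻¹)
  c3 : Commute (x * a * x⁻¹) a'
  c4 : Commute (x * a * x⁻¹) (x * a' * x⁻¹)

/-- The element of `Q` with code `q`. -/
def qel (s x a a' : G) (q : ℕ) : G :=
  pairF s a (x * a * x⁻¹) (x * (x * a * x⁻¹) * x⁻¹) a' (x * a' * x⁻¹) (x * (x * a' * x⁻¹) * x⁻¹) q

theorem qel_gen : qel s x a a' 8 = a ∧ qel s x a a' 16 = x * a * x⁻¹ ∧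
    qel s x a a' 24 = x * (x * a * x⁻¹) * x⁻¹ ∧
    qel s x a a' 1 = a' ∧ qel s x a a' 2 = x * a' * x⁻¹ ∧ qel s x a a' 3 = x * (x * a' * x⁻¹) * x⁻¹ ∧
    qel s x a a' 4 = s ∧ qel s x a a' 0 = 1 ∧ qel s x a a' 12 = a * s ∧ qel s x a a' 5 = s * a' := by
  simp [qel, pairF, qu, qv, Quat.f, Quat.unit]

namespace Frame

variable (F : Frame s Q x a a') (S : Shape s Q x j)
include F S

theorem qmul_el {q p : ℕ} (hq : q < 32) (hp : p < 32) :
    qel s x a a' (qmul q p) = qel s x a a' q * qel s x a a' p :=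
  pairF_mul F.h F.h' F.c1 F.c2 F.c3 F.c4 hq hp

theorem q_mem : ∀ q < 32, qel s x a a' q ∈ Q := by
  obtain ⟨e1, e2, -, e3, e4, -, -, e0, -⟩ := qel_gen (s := s) (x := x) (a := a) (a' := a')
  refine q_induction ?_ ?_ ?_
  · rw [e0]; exact Q.one_mem
  · intro g hg
    simp only [List.mem_cons, List.not_mem_nil, or_false] at hg
    rcases hg with rfl | rfl | rfl | rfl
    · rw [e1]; exact F.ha
    · rw [e2]; exact S.normX _ F.ha
    · rw [e3]; exact F.ha'
    · rw [e4]; exact S.normX _ F.ha'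
  · intro q hq p hp ihq ihp
    rw [F.qmul_el S hq hp]
    exact Q.mul_mem ihq ihp

theorem q_inj : ∀ q < 32, ∀ p < 32, qel s x a a' q = qel s x a a' p → q = p := by
  have hk : ∀ q < 32, qel s x a a' q = 1 → q = 0 := by
    intro q hq e
    rcases flips q hq with h | h | h
    · exact h
    · subst h
      rw [qel_gen.2.2.2.2.2.2.1] at e
      exact absurd e S.s_ne
    · obtain ⟨g, hg, hg'⟩ := List.any_eq_true.1 h
      have hg32 : g < 32 := by simp only [List.mem_cons, List.not_mem_nil, or_false] at hg; omega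
      have := congrArg (qel s x a a') (beq_iff_eq.1 hg')
      rw [F.qmul_el S hq hg32, F.qmul_el S ((qrot_facts g hg32).2.2.2.2.2 q hq).2 (by norm_num), F.qmul_el S hg32 hq,
        qel_gen.2.2.2.2.2.2.1, e, one_mul, mul_one] at this
      exact absurd (mul_eq_left.1 this.symm) S.s_ne
  intro q hq p hp e
  have hinv : ∀ p < 32, ∃ p' < 32, qmul p p' = 0 ∧ ∀ q < 32, qmul q p' = 0 → q = p := by decide +kernel
  obtain ⟨p', hp', e1, e2⟩ := hinv p hp
  refine e2 q hq (hk _ ((qrot_facts q hq).2.2.2.2.2 p' hp').2 ?_)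
  rw [F.qmul_el S hq hp', e, ← F.qmul_el S hp hp', e1, qel_gen.2.2.2.2.2.2.2.1]

theorem q_surj {g : G} (hg : g ∈ Q) : ∃ q < 32, qel s x a a' q = g := by
  haveI : Finite Q := Nat.finite_of_card_ne_zero (by rw [S.cardQ]; norm_num)
  have hb : Function.Bijective (fun q : Fin 32 => (⟨qel s x a a' q, F.q_mem S q q.2⟩ : Q)) := by
    refine (Nat.bijective_iff_injective_and_card _).2 ⟨fun q p e => Fin.ext (F.q_inj S q q.2 p p.2
      (congrArg Subtype.val e)), by rw [Nat.card_fin, S.cardQ]⟩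
  obtain ⟨q, hq⟩ := hb.2 ⟨g, hg⟩
  exact ⟨q, q.2, congrArg Subtype.val hq⟩

theorem rot1 : ∀ q < 32, qel s x a a' (qrot 1 q) = x * qel s x a a' q * x⁻¹ := by
  obtain ⟨e1, e2, e2', e3, e4, e4', -, e0, -⟩ := qel_gen (s := s) (x := x) (a := a) (a' := a')
  refine q_induction ?_ ?_ ?_
  · rw [show qrot 1 0 = 0 by decide +kernel, e0]; group
  · intro g hg
    simp only [List.mem_cons, List.not_mem_nil, or_false] at hg
    rcases hg with rfl | rfl | rfl | rfl
    · rw [show qrot 1 8 = 16 by decide +kernel, e1, e2]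
    · rw [show qrot 1 16 = 24 by decide +kernel, e2, e2']
    · rw [show qrot 1 1 = 2 by decide +kernel, e3, e4]
    · rw [show qrot 1 2 = 3 by decide +kernel, e4, e4']
  · intro q hq p hp ihq ihp
    rw [((qrot_facts q hq).2.2.2.2.2 p hp).1, F.qmul_el S (qrot_facts q hq).2.2.1 (qrot_facts p hp).2.2.1, ihq, ihp,
      F.qmul_el S hq hp]
    group

theorem rot {i q : ℕ} (hi : i < 3) (hq : q < 32) :
    qel s x a a' (qrot i q) = x ^ i * qel s x a a' q * (x ^ i)⁻¹ := by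
  interval_cases i
  · rw [(qrot_facts q hq).1]; simp
  · rw [F.rot1 S q hq]; simp
  · rw [(qrot_facts q hq).2.1, F.rot1 S _ (qrot_facts q hq).2.2.1, F.rot1 S q hq, pow_two]; group

theorem commute_uv {q p : ℕ} (hq : q < 32) (hp : p < 32) (h1 : qv q = 0) (h2 : qu p < 2) :
    Commute (qel s x a a' q) (qel s x a a' p) := by
  show _ * _ = _ * _
  rw [← F.qmul_el S hq hp, ← F.qmul_el S hp hq, pair_commute q hq p hp h1 h2]

theorem sq_four {q : ℕ} (hq : q < 32) (e : qel s x a a' q * qel s x a a' q = s) : qmul q q = 4 :=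
  F.q_inj S _ ((qrot_facts q hq).2.2.2.2.2 q hq).2 4 (by norm_num)
    (by rw [F.qmul_el S hq hq, e, qel_gen.2.2.2.2.2.2.1])

/-- A new frame from codes in the two sides. -/
theorem reframe {p p' : ℕ} (hp : p < 32) (hp' : p' < 32) (h1 : qv p = 0) (h2 : qu p' < 2)
    (hq : Quat s (qel s x a a' p) (x * qel s x a a' p * x⁻¹) (x * (x * qel s x a a' p * x⁻¹) * x⁻¹))
    (hq' : Quat s (qel s x a a' p') (x * qel s x a a' p' * x⁻¹) (x * (x * qel s x a a' p' * x⁻¹) * x⁻¹)) :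
    Frame s Q x (qel s x a a' p) (qel s x a a' p') := by
  have r1 := F.rot1 S p hp
  have r2 := F.rot1 S p' hp'
  refine ⟨F.q_mem S p hp, F.q_mem S p' hp', hq, hq', F.commute_uv S hp hp' h1 h2, ?_, ?_, ?_⟩
  · rw [← r2]; exact F.commute_uv S hp (qrot_facts p' hp').2.2.1 h1 ((uv_rot p' hp').2 h2)
  · rw [← r1]; exact F.commute_uv S (qrot_facts p hp).2.2.1 hp' ((uv_rot p hp).1 h1) h2
  · rw [← r1, ← r2]
    exact F.commute_uv S (qrot_facts p hp).2.2.1 (qrot_facts p' hp').2.2.1 ((uv_rot p hp).1 h1) ((uv_rot p' hp').2 h2)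

theorem quat_code {q : ℕ} (hq : q < 32) (h : qmul q q = 4) (h2 : qmul q (qrot 1 q) = qrot 1 (qrot 1 q)) :
    Quat s (qel s x a a' q) (x * qel s x a a' q * x⁻¹) (x * (x * qel s x a a' q * x⁻¹) * x⁻¹) := by
  have r := qrot_facts _ hq
  rw [← F.rot1 S _ hq, ← F.rot1 S _ r.2.2.1]
  have hm8 : ∀ {q}, q < 32 → qmul q q = 4 → qel s x a a' q * qel s x a a' q = s := fun hq e => by
    rw [← F.qmul_el S hq hq, e, qel_gen.2.2.2.2.2.2.1]
  exact ⟨hm8 hq h, hm8 r.2.2.1 (rot_four _ hq h), hm8 (qrot_facts _ r.2.2.1).2.2.1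
      (rot_four _ r.2.2.1 (rot_four _ hq h)), by rw [← F.qmul_el S hq r.2.2.1, h2], S.ss,
    S.comm_s (F.q_mem S _ hq), S.comm_s (F.q_mem S _ r.2.2.1)⟩

theorem quat_rot {m : ℕ} (hm : m < 3) :
    Quat s (qel s x a a' (qrot m 8)) (x * qel s x a a' (qrot m 8) * x⁻¹)
      (x * (x * qel s x a a' (qrot m 8) * x⁻¹) * x⁻¹) := by
  obtain ⟨h1, -, h3, -, h5⟩ := rot_facts m hm
  exact F.quat_code S h1 h3 h5

end Frame

namespace Shape

variable (S : Shape s Q x j)
include S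

theorem exists_four : ∃ a ∈ Q, a * a = s := by
  by_contra h
  push Not at h
  have h2 : ∀ q ∈ Q, q * q = 1 := fun q hq => (S.sq q hq).resolve_right (h q hq)
  haveI : Finite Q := Nat.finite_of_card_ne_zero (by rw [S.cardQ]; norm_num)
  classical
  have hle : Nat.card Q ≤ Nat.card Bool := by
    refine Nat.card_le_card_of_injective (fun q : Q => decide ((q : G) = 1)) fun q p e => ?_
    have hc : ∀ q : Q, (q : G) = 1 ∨ (q : G) = s := fun q => S.center q q.2 fun p hp =>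
      calc (q : G) * p = q * ((q * p) * (q * p)) * p := by rw [h2 _ (Q.mul_mem q.2 hp), mul_one]
        _ = ((q : G) * q) * p * q * (p * p) := by group
        _ = p * q := by rw [h2 _ q.2, h2 p hp, one_mul, mul_one]
    rw [decide_eq_decide] at e
    refine Subtype.ext ?_
    rcases hc q with e1 | e1 <;> rcases hc p with e2 | e2
    · rw [e1, e2]
    · rw [e1, e.1 e1]
    · rw [e2, e.2 e2]
    · rw [e1, e2]
  rw [S.cardQ] at hle
  simp at hle

theorem exists_frame : ∃ a a', Frame s Q x a a' := by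
  obtain ⟨a₀, h₀, e₀⟩ := S.exists_four
  obtain ⟨a, ha, hQ⟩ := S.quat h₀ e₀
  have haQ : a ∈ Q := by rcases ha with rfl | rfl; exacts [h₀, Q.mul_mem h₀ S.s_mem]
  obtain ⟨a₁, h₁, e₁, c1, c2, c3, c4⟩ := S.second haQ hQ
  obtain ⟨a', ha', hQ'⟩ := S.quat h₁ e₁
  have hs : ∀ y ∈ Q, Commute y s := fun y hy => S.le y hy
  have hxs : x * s * x⁻¹ = s := by rw [S.cs.1, mul_inv_cancel_right]
  refine ⟨a, a', ?_⟩
  rcases ha' with rfl | rfl
  · exact ⟨haQ, h₁, hQ, hQ', c1, c3, c2, c4⟩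
  · have e2 : x * (a₁ * s) * x⁻¹ = x * a₁ * x⁻¹ * s := by
      rw [show x * (a₁ * s) * x⁻¹ = x * a₁ * x⁻¹ * (x * s * x⁻¹) by group, hxs]
    refine ⟨haQ, Q.mul_mem h₁ S.s_mem, hQ, hQ', c1.mul_right (hs _ haQ), ?_, c2.mul_right (hs _ (S.normX _ haQ)), ?_⟩
    · rw [e2]; exact c3.mul_right (hs _ haQ)
    · rw [e2]; exact c4.mul_right (hs _ (S.normX _ haQ))

theorem conj_rot (y : G) : j * (x * y * x⁻¹) * j⁻¹ = x⁻¹ * (j * y * j⁻¹) * x := by
  have e : j * x = x⁻¹ * j := mul_inv_eq_iff_eq_mul.1 S.jx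
  have e' : x⁻¹ * j⁻¹ = j⁻¹ * x := by
    calc x⁻¹ * j⁻¹ = (j * x)⁻¹ := by group
      _ = (x⁻¹ * j)⁻¹ := by rw [e]
      _ = j⁻¹ * x := by group
  calc j * (x * y * x⁻¹) * j⁻¹ = (j * x) * y * (x⁻¹ * j⁻¹) := by group
    _ = x⁻¹ * (j * y * j⁻¹) * x := by rw [e, e']; group

theorem xinv (y : G) : x⁻¹ * y * x = x * (x * y * x⁻¹) * x⁻¹ := by
  have : x⁻¹ = x * x := inv_eq_of_mul_eq_one_right (by rw [← mul_assoc, S.x3])
  calc x⁻¹ * y * x = x⁻¹ * y * (x⁻¹)⁻¹ := by group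
    _ = x * x * y * (x * x)⁻¹ := by rw [this]
    _ = x * (x * y * x⁻¹) * x⁻¹ := by group

end Shape

/-- The part of the type recording whether the factors are exchanged. -/
theorem Shape.adapted (S : Shape s Q x j) : ∃ a a', Frame s Q x a a' ∧
    ((j * a * j⁻¹ = a * s ∧ j * a' * j⁻¹ = a' * s) ∨ (j * a * j⁻¹ = a' * s ∧ j * a' * j⁻¹ = a * s)) := by
  obtain ⟨a, a', F⟩ := S.exists_frame
  have hjs : j * s * j⁻¹ = s := by rw [S.cs.2, mul_inv_cancel_right]
  have hsq : ∀ y, y * y = s → (j * y * j⁻¹) * (j * y * j⁻¹) = s := fun y e => by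
    rw [show j * y * j⁻¹ * (j * y * j⁻¹) = j * (y * y) * j⁻¹ by group, e, hjs]
  obtain ⟨p, hp, ep⟩ := F.q_surj S (S.normJ a F.ha)
  have hp4 : qmul p p = 4 := F.sq_four S hp (by rw [ep]; exact hsq a F.h.aa)
  have key : ∀ b : G, b ∈ Q → Quat s b (x * b * x⁻¹) (x * (x * b * x⁻¹) * x⁻¹) →
      j * b * j⁻¹ = b ∨ j * b * j⁻¹ = b * s → j * b * j⁻¹ = b * s := by
    intro b _ hb h
    refine h.resolve_left fun e => ?_
    set b1 := x * b * x⁻¹ with hb1
    set b2 := x * b1 * x⁻¹ with hb2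
    have e1 : j * b1 * j⁻¹ = b2 := by rw [hb1, S.conj_rot b, e, S.xinv]
    have e2 : j * b2 * j⁻¹ = b1 := by
      rw [hb2, S.conj_rot b1, e1, hb2]
      group
    have : j * (b * b1) * j⁻¹ = j * b2 * j⁻¹ := by rw [hb.ab]
    rw [show j * (b * b1) * j⁻¹ = j * b * j⁻¹ * (j * b1 * j⁻¹) by group, e, e1, e2, ← hb.ab, ← mul_assoc, hb.aa] at this
    exact S.s_ne (mul_eq_right.1 this)
  rcases uv_cases p hp hp4 with ⟨h1, -⟩ | ⟨h2, -⟩
  · -- the factors are preserved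
    obtain ⟨p', hp', ep'⟩ := F.q_surj S (S.normJ a' F.ha')
    have hp'4 : qmul p' p' = 4 := F.sq_four S hp' (by rw [ep']; exact hsq a' F.h'.aa)
    have e2 : qel s x a a' (qrot 2 p) = j * (x * a * x⁻¹) * j⁻¹ := by
      rw [F.rot S (by norm_num) hp, S.conj_rot, ← ep, S.xinv, pow_two]; group
    have h1' : qu p' < 2 := by
      refine v_side hp hp4 h1 hp' hp'4 ?_ ?_
      · refine F.q_inj S _ ((qrot_facts p hp).2.2.2.2.2 p' hp').2 _ ((qrot_facts p' hp').2.2.2.2.2 p hp).2 ?_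
        rw [F.qmul_el S hp hp', F.qmul_el S hp' hp, ep, ep']
        calc j * a * j⁻¹ * (j * a' * j⁻¹) = j * (a * a') * j⁻¹ := by group
          _ = _ := by rw [F.c1.eq]; group
      · have hr := (qrot_facts p hp).2.2.2.2.1
        refine F.q_inj S _ ((qrot_facts _ hr).2.2.2.2.2 p' hp').2 _ ((qrot_facts p' hp').2.2.2.2.2 _ hr).2 ?_
        rw [F.qmul_el S hr hp', F.qmul_el S hp' hr, e2, ep']
        calc j * (x * a * x⁻¹) * j⁻¹ * (j * a' * j⁻¹) = j * ((x * a * x⁻¹) * a') * j⁻¹ := by group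
          _ = _ := by rw [F.c3.eq]; group
    obtain ⟨m, hm, hmp⟩ := u_rot p hp hp4 h1
    obtain ⟨q1, q2, -⟩ := rot_facts m hm
    have hxj : ∀ i : ℕ, ∀ y : G, j * (x ^ i * y * (x ^ i)⁻¹) * j⁻¹ = (x ^ i)⁻¹ * (j * y * j⁻¹) * x ^ i := by
      intro i
      induction i with
      | zero => intro y; simp
      | succ i ih =>
        intro y
        rw [pow_succ, show x ^ i * x * y * (x ^ i * x)⁻¹ = x ^ i * (x * y * x⁻¹) * (x ^ i)⁻¹ by group, ih, S.conj_rot]
        group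
    have hinv : (x ^ m)⁻¹ = x ^ ((3 - m) % 3) := by
      have hx3 : x ^ 3 = 1 := by rw [pow_succ, pow_two, S.x3]
      refine inv_eq_of_mul_eq_one_right ?_
      interval_cases m <;> simp [← mul_assoc, S.x3, pow_two]
    have hja : j * qel s x a a' (qrot m 8) * j⁻¹ = qel s x a a' (qrot ((3 - m) % 3) p) := by
      rw [F.rot S hm (show 8 < 32 by norm_num), qel_gen.1, hxj, ← ep, F.rot S (Nat.mod_lt _ (by norm_num)) hp, ← hinv,
        inv_inv]
    have hA : j * qel s x a a' (qrot m 8) * j⁻¹ = qel s x a a' (qrot m 8) * s := by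
      refine key _ (F.q_mem S _ q1) (F.quat_rot S hm) ?_
      rw [hja]
      rcases hmp with e | e
      · exact Or.inl (by rw [e])
      · exact Or.inr (by rw [e, F.qmul_el S q1 (by norm_num), qel_gen.2.2.2.2.2.2.1])
    -- the same rotation for the second factor
    have hv : ∀ p < 32, qmul p p = 4 → qu p < 2 → ∃ m < 3,
        qrot ((3 - m) % 3) p = qrot m 1 ∨ qrot ((3 - m) % 3) p = qmul (qrot m 1) 4 := by decide +kernel
    obtain ⟨n, hn, hnp⟩ := hv p' hp' hp'4 h1'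
    have hvq : ∀ n < 3, qrot n 1 < 32 ∧ qu (qrot n 1) < 2 ∧ qmul (qrot n 1) (qrot n 1) = 4 ∧
        qmul (qrot 1 (qrot n 1)) (qrot 1 (qrot n 1)) = 4 ∧
        qmul (qrot 1 (qrot 1 (qrot n 1))) (qrot 1 (qrot 1 (qrot n 1))) = 4 ∧
        qmul (qrot n 1) (qrot 1 (qrot n 1)) = qrot 1 (qrot 1 (qrot n 1)) := by decide +kernel
    obtain ⟨r1, r2, r3, r4, r5, r6⟩ := hvq n hn
    have hQ' : Quat s (qel s x a a' (qrot n 1)) (x * qel s x a a' (qrot n 1) * x⁻¹)
        (x * (x * qel s x a a' (qrot n 1) * x⁻¹) * x⁻¹) := F.quat_code S r1 r3 r6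
    have hinv' : (x ^ n)⁻¹ = x ^ ((3 - n) % 3) := by
      have hx3 : x ^ 3 = 1 := by rw [pow_succ, pow_two, S.x3]
      refine inv_eq_of_mul_eq_one_right ?_
      interval_cases n <;> simp [← mul_assoc, S.x3, pow_two]
    have hB : j * qel s x a a' (qrot n 1) * j⁻¹ = qel s x a a' (qrot n 1) * s := by
      refine key _ (F.q_mem S _ r1) hQ' ?_
      have : j * qel s x a a' (qrot n 1) * j⁻¹ = qel s x a a' (qrot ((3 - n) % 3) p') := by
        rw [F.rot S hn (show 1 < 32 by norm_num), qel_gen.2.2.2.1, hxj, ← ep',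
          F.rot S (Nat.mod_lt _ (by norm_num)) hp', ← hinv', inv_inv]
      rw [this]
      rcases hnp with e | e
      · exact Or.inl (by rw [e])
      · exact Or.inr (by rw [e, F.qmul_el S r1 (by norm_num), qel_gen.2.2.2.2.2.2.1])
    exact ⟨_, _, F.reframe S q1 r1 q2 r2 (F.quat_rot S hm) hQ', Or.inl ⟨hA, hB⟩⟩
  · -- the factors are exchanged
    have hneg : ∀ q < 32, qu q < 2 → qmul q 4 < 32 ∧ qu (qmul q 4) < 2 := by decide +kernel
    obtain ⟨h4, h4'⟩ := hneg p hp h2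
    have ea : qel s x a a' (qmul p 4) = j * a * j⁻¹ * s := by
      rw [F.qmul_el S hp (by norm_num), ep, qel_gen.2.2.2.2.2.2.1]
    have hss : ∀ y : G, y * s * s = y := fun y => by rw [mul_assoc, S.ss, mul_one]
    refine ⟨a, j * a * j⁻¹ * s, ?_, Or.inr ⟨(hss _).symm, ?_⟩⟩
    · have hxs : x * s * x⁻¹ = s := by rw [S.cs.1, mul_inv_cancel_right]
      set b := x * a * x⁻¹ with hb
      set c := x * b * x⁻¹ with hc
      have hxc : x * c * x⁻¹ = a := by
        rw [hc, hb, show x * (x * (x * a * x⁻¹) * x⁻¹) * x⁻¹ = (x * x * x) * a * (x * x * x)⁻¹ by group, S.x3,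
          one_mul, inv_one, mul_one]
      have hxy : ∀ y : G, x * (j * y * j⁻¹ * s) * x⁻¹ = j * (x⁻¹ * y * x) * j⁻¹ * s := fun y => by
        have e := S.conj_rot (x⁻¹ * y * x)
        rw [show x * (x⁻¹ * y * x) * x⁻¹ = y by group] at e
        calc x * (j * y * j⁻¹ * s) * x⁻¹ = x * (j * y * j⁻¹) * x⁻¹ * (x * s * x⁻¹) := by group
          _ = _ := by rw [e, hxs]; group
      have e2 : x * (j * a * j⁻¹ * s) * x⁻¹ = j * c * j⁻¹ * s := by rw [hxy, S.xinv]
      have e3 : x * (j * c * j⁻¹ * s) * x⁻¹ = j * b * j⁻¹ * s := by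
        rw [hxy, show x⁻¹ * c * x = b by rw [hc]; group]
      have hq0 : qmul (qmul p 4) (qmul p 4) = 4 := F.sq_four S h4 (by
        rw [ea, show j * a * j⁻¹ * s * (j * a * j⁻¹ * s) = j * a * j⁻¹ * (s * (j * a * j⁻¹)) * s by group,
          S.comm_s (S.normJ a F.ha), ← mul_assoc, hss, hsq a F.h.aa])
      have hac : a * c = b * s := by
        show a * (x * (x * a * x⁻¹) * x⁻¹) = x * a * x⁻¹ * s
        rw [← F.h.ab, ← mul_assoc, F.h.aa, F.h.sb]
      have hq1 : qmul (qmul p 4) (qrot 1 (qmul p 4)) = qrot 1 (qrot 1 (qmul p 4)) := by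
        have r := (qrot_facts _ h4).2.2.1
        refine F.q_inj S _ ((qrot_facts _ h4).2.2.2.2.2 _ r).2 _ (qrot_facts _ r).2.2.1 ?_
        rw [F.qmul_el S h4 r, F.rot1 S _ r, F.rot1 S _ h4, ea, e2, e3,
          show j * a * j⁻¹ * s * (j * c * j⁻¹ * s) = j * a * j⁻¹ * (s * (j * c * j⁻¹)) * s by group,
          S.comm_s (S.normJ c (S.normX _ (S.normX a F.ha))), ← mul_assoc, hss,
          show j * a * j⁻¹ * (j * c * j⁻¹) = j * (a * c) * j⁻¹ by group, hac,
          show j * (b * s) * j⁻¹ = j * b * j⁻¹ * (j * s * j⁻¹) by group, hjs]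
      have h8 : qel s x a a' 8 = a := qel_gen.1
      have q8 := rot_facts 0 (by norm_num)
      have R := F.reframe S q8.1 h4 q8.2.1 h4' (F.quat_rot S (by norm_num)) (F.quat_code S h4 hq0 hq1)
      rwa [show qrot 0 8 = 8 by decide +kernel, h8, ea] at R
    · rw [show j * (j * a * j⁻¹ * s) * j⁻¹ = (j * j) * a * (j * j)⁻¹ * (j * s * j⁻¹) by group, hjs]
      rcases S.jj with e | e <;> rw [e]
      · simp
      · rw [S.comm_s F.ha, mul_inv_cancel_right]

end CfsgQS3
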