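import Cfsg.Agent.Lib.QS3.Fusion
import Cfsg.Agent.Lib.ZStar.Main

/-!
Groups with an involution centraliser `Q.S₃`: the case in which the conjugates of `s` commuting with `s` form a single
elementary abelian group of order eight.
-/

set_option autoImplicit false
set_option maxRecDepth 100000
set_option linter.unusedSectionVars false

namespace CfsgQS3

section

variable {G : Type*} [Group G] [Finite G]

/-- Two conjugate involutions or an involution centralising both. -/
theorem invol_pair {z u : G} (hz : z * z = 1) (hu : u * u = 1) :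
    (∃ g, g * z * g⁻¹ = u) ∨ ∃ w, w ≠ 1 ∧ w * w = 1 ∧ w * z = z * w ∧ w * u = u * w := by
  have hzi : z⁻¹ = z := inv_eq_of_mul_eq_one_right hz
  have hui : u⁻¹ = u := inv_eq_of_mul_eq_one_right hu
  set a := z * u with ha
  have hinv : z * a * z⁻¹ = a⁻¹ := by
    rw [ha, mul_inv_rev, hzi, hui, ← mul_assoc, hz, one_mul]
  have hinvu : u * a * u⁻¹ = a⁻¹ := by
    rw [ha, mul_inv_rev, hzi, hui, mul_assoc u (z * u) u, mul_assoc z u u, hu, mul_one]
  have hn : a ^ orderOf a = 1 := pow_orderOf_eq_one a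
  have hpos := orderOf_pos a
  obtain ⟨m, hm | hm⟩ := Nat.even_or_odd' (orderOf a)
  · refine Or.inr ⟨a ^ m, fun h => ?_, ?_, ?_, ?_⟩
    · have := Nat.le_of_dvd (by omega) (orderOf_dvd_of_pow_eq_one h)
      omega
    · rw [← pow_add, ← two_mul, ← hm, hn]
    all_goals
      have e : (a ^ m)⁻¹ = a ^ m := inv_eq_of_mul_eq_one_right (by rw [← pow_add, ← two_mul, ← hm, hn])
    · have : z * a ^ m * z⁻¹ = a ^ m := by rw [← conj_pow, hinv, inv_pow, e]
      exact (mul_inv_eq_iff_eq_mul.1 this).symm
    · have : u * a ^ m * u⁻¹ = a ^ m := by rw [← conj_pow, hinvu, inv_pow, e]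
      exact (mul_inv_eq_iff_eq_mul.1 this).symm
  · refine Or.inl ⟨a ^ m, ?_⟩
    have e1 : z * (a ^ m)⁻¹ = a ^ m * z := by
      have : z * a ^ m * z⁻¹ = (a ^ m)⁻¹ := by rw [← conj_pow, hinv, inv_pow]
      rw [← this]
      calc z * (z * a ^ m * z⁻¹) = (z * z) * a ^ m * z⁻¹ := by group
        _ = _ := by rw [hz, hzi, one_mul]
    have e2 : a ^ (2 * m) = a⁻¹ := eq_inv_of_mul_eq_one_left (by rw [← pow_succ, ← hm, hn])
    calc a ^ m * z * (a ^ m)⁻¹ = a ^ m * (z * (a ^ m)⁻¹) := by group
      _ = a ^ m * a ^ m * z := by rw [e1]; group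
      _ = u := by rw [← pow_add, ← two_mul, e2, ha, mul_inv_rev, hzi, hui, mul_assoc, hz, mul_one]

/-- An elementary abelian subgroup whose involutions are all the conjugates of `s` commuting with `s`, containing a
conjugate controlling every other involution centralising `s`, is normal. -/
theorem closed_normal (s : G) (E : Subgroup G) (hs : s ∈ E) (hEs : ∀ e ∈ E, e * e = 1)
    (hEU : ∀ e ∈ E, e ≠ 1 → ∃ g, g * s * g⁻¹ = e)
    (hU : ∀ g, g * s * g⁻¹ * s = s * (g * s * g⁻¹) → g * s * g⁻¹ ∈ E) (hs1 : s ≠ 1)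
    (hz : ∀ z, z * z = 1 → z * s = s * z → z ∉ E →
      ∃ b ∈ E, b ≠ 1 ∧ ∀ c, c * z = z * c → c * b = b * c)
    (hex : ∃ z, z * z = 1 ∧ z * s = s * z ∧ z ∉ E) :
    E.Normal ∧ ∀ g, g * s * g⁻¹ ∈ E := by
  have hEc : ∀ a ∈ E, ∀ b ∈ E, a * b = b * a := fun a ha b hb => by
    calc a * b = a * ((a * b) * (a * b)) * b := by rw [hEs _ (E.mul_mem ha hb), mul_one]
      _ = (a * a) * b * a * (b * b) := by group
      _ = b * a := by rw [hEs a ha, hEs b hb, one_mul, mul_one]
  -- elements moving `s` into `E` normalise `E`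
  have hN : ∀ g, g * s * g⁻¹ ∈ E → ∀ x, x ∈ E ↔ g * x * g⁻¹ ∈ E := by
    intro g hg
    have h1 : ∀ x ∈ E, g⁻¹ * x * g ∈ E := by
      intro x hx
      by_cases hx1 : x = 1
      · rw [hx1, mul_one, inv_mul_cancel]; exact E.one_mem
      obtain ⟨h, hh⟩ := hEU x hx hx1
      have e : g⁻¹ * x * g = g⁻¹ * h * s * (g⁻¹ * h)⁻¹ := by rw [← hh]; group
      rw [e]
      refine hU _ ?_
      rw [← e]
      calc g⁻¹ * x * g * s = g⁻¹ * (x * (g * s * g⁻¹)) * g := by group
        _ = g⁻¹ * (g * s * g⁻¹ * x) * g := by rw [hEc x hx _ hg]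
        _ = _ := by group
    have h2 : Function.Bijective (fun x : E => (⟨g⁻¹ * x * g, h1 x x.2⟩ : E)) :=
      (Nat.bijective_iff_injective_and_card _).2 ⟨fun a b e => Subtype.ext
        (mul_left_cancel (mul_right_cancel (congrArg Subtype.val e))), rfl⟩
    refine fun x => ⟨fun hx => ?_, fun hx => ?_⟩
    · obtain ⟨y, hy⟩ := h2.2 ⟨x, hx⟩
      rw [← (show g⁻¹ * (y : G) * g = x from congrArg Subtype.val hy)]
      simpa [mul_assoc] using y.2
    · have := h1 _ hx
      rwa [show g⁻¹ * (g * x * g⁻¹) * g = x by group] at this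
  have key : ∀ g, g * s * g⁻¹ ∈ E := by
    intro g
    by_contra hg
    set u := g * s * g⁻¹ with hu
    have hss := hEs s hs
    have huu : u * u = 1 := by rw [hu, show g * s * g⁻¹ * (g * s * g⁻¹) = g * (s * s) * g⁻¹ by group, hss]; group
    -- a conjugate of `s` commuting with an element of `E` lies in `E`
    have hcomm : ∀ b ∈ E, b ≠ 1 → u * b = b * u → False := by
      intro b hb hb1 hub
      obtain ⟨h, hh⟩ := hEU b hb hb1
      have e : h⁻¹ * u * h = h⁻¹ * g * s * (h⁻¹ * g)⁻¹ := by rw [hu]; group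
      have hin : h⁻¹ * g * s * (h⁻¹ * g)⁻¹ ∈ E := hU _ (by
        rw [← e]
        calc h⁻¹ * u * h * s = h⁻¹ * (u * (h * s * h⁻¹)) * h := by group
          _ = h⁻¹ * ((h * s * h⁻¹) * u) * h := by rw [hh, hub]
          _ = _ := by group)
      rw [← e] at hin
      have := (hN h (by rw [hh]; exact hb) _).1 hin
      rw [show h * (h⁻¹ * u * h) * h⁻¹ = u by group] at this
      exact hg this
    obtain ⟨z, hzz, hzs, hzE⟩ := hex
    obtain ⟨b, hb, hb1, hbz⟩ := hz z hzz hzs hzE
    rcases invol_pair hzz huu with ⟨a, ha⟩ | ⟨w, hw1, hww, hwz, hwu⟩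
    · have e : z = a⁻¹ * g * s * (a⁻¹ * g)⁻¹ := by
        calc z = a⁻¹ * (a * z * a⁻¹) * a := by group
          _ = _ := by rw [ha, hu]; group
      exact hzE (e ▸ hU _ (by rw [← e]; exact hzs))
    · have hwb := hbz w hwz
      by_cases hwE : w ∈ E
      · exact hcomm w hwE hw1 hwu.symm
      obtain ⟨h, hh⟩ := hEU b hb hb1
      obtain ⟨b', hb', hb'1, hb'w⟩ := hz (h⁻¹ * w * h) (by
          rw [show h⁻¹ * w * h * (h⁻¹ * w * h) = h⁻¹ * (w * w) * h by group, hww]; group)
        (by
          calc h⁻¹ * w * h * s = h⁻¹ * (w * (h * s * h⁻¹)) * h := by group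
            _ = h⁻¹ * ((h * s * h⁻¹) * w) * h := by rw [hh, hwb]
            _ = _ := by group)
        (fun hin => hwE (by
          have := (hN h (by rw [hh]; exact hb) _).1 hin
          rwa [show h * (h⁻¹ * w * h) * h⁻¹ = w by group] at this))
      refine hcomm (h * b' * h⁻¹) ((hN h (by rw [hh]; exact hb) _).1 hb') (fun e => hb'1 ?_) ?_
      · calc b' = h⁻¹ * (h * b' * h⁻¹) * h := by group
          _ = 1 := by rw [e]; group
      · have := hb'w (h⁻¹ * u * h) (by
          calc h⁻¹ * u * h * (h⁻¹ * w * h) = h⁻¹ * (u * w) * h := by group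
            _ = _ := by rw [← hwu]; group)
        calc u * (h * b' * h⁻¹) = h * ((h⁻¹ * u * h) * b') * h⁻¹ := by group
          _ = h * (b' * (h⁻¹ * u * h)) * h⁻¹ := by rw [this]
          _ = _ := by group
  refine ⟨⟨fun x hx g => ?_⟩, key⟩
  exact (hN g (key g) x).1 hx

end

/-- The elementary abelian subgroup of a row. -/
def eList (R : Row) : List ℕ := codes.filter fun n => n == 0 || n == 24 || codes.any fun c => mconj R.ty c R.r == n

/-- The rank of the centraliser of the code and its two images. -/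
def eMax (R : Row) (ys : List ℕ) (n : ℕ) : Bool :=
  let a := (mcent R.ty n).length
  let b := (mcent R.ty (fap R ys (fap R ys n))).length
  let c := (mcent R.ty (fap R ys n)).length
  (decide (b < a) && decide (c < a)) || (decide (a < b) && decide (c < b)) || (decide (a < c) && decide (b < c))

/-- The action is that of the case with a single elementary abelian group. -/
def eOK (R : Row) (ys : List ℕ) : Bool :=
  (R.cen.all fun n => !isInv R.ty n || (eList R).contains n || eMax R ys n) &&
    codes.all fun n => !isInv R.ty n || n % 6 == 0 || codes.any fun c => R.cen.contains (mconj R.ty c n) &&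
      [fap R ys (mconj R.ty c n), fap R ys (fap R ys (mconj R.ty c n))].any fun m => m % 6 == 0 && !(eList R).contains m

theorem eList_facts : (rows.all fun R => (eList R).length == 8 && (eList R).contains 24 && (eList R).contains 0 &&
    ((eList R).all fun a => decide (a < 192) && mmul R.ty a a == 0 && R.cen.contains a &&
      ((eList R).all fun b => (eList R).contains (mmul R.ty a b)) &&
      (a == 0 || a == 24 || codes.any fun c => mconj R.ty c R.r == a)) &&
    (codes.all fun n => !isInv R.ty n || codes.any fun c => R.cen.contains (mconj R.ty c n)) &&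
    codes.any fun n => isInv R.ty n && !(eList R).contains n) = true := by
  decide +kernel

end CfsgQS3
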