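import Cfsg.Agent.Lib.QS3.ECase
import Cfsg.Agent.Lib.GenRank.Main
import Cfsg.Agent.Lib.SectFour.Main

/-!
Groups with an involution centraliser `Q.S₃`: the extension of an elementary abelian group of order eight by
`L₃(2)`.
-/

set_option autoImplicit false
set_option maxRecDepth 100000
set_option linter.unusedSectionVars false

namespace CfsgQS3

variable {G : Type*} [Group G] [Finite G]

/-- An involution inverts a group of odd order in which it fixes only the identity. -/
theorem inverts {O : Subgroup G} {u : G} (hu : u * u = 1) (hn : ∀ o ∈ O, u * o * u⁻¹ ∈ O)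
    (hfix : ∀ o ∈ O, u * o * u⁻¹ = o → o = 1) : ∀ o ∈ O, u * o * u⁻¹ = o⁻¹ := by
  have hi : u⁻¹ = u := inv_eq_of_mul_eq_one_left hu
  let f : O → O := fun o => ⟨(o : G)⁻¹ * (u * o * u⁻¹), mul_mem (inv_mem o.2) (hn _ o.2)⟩
  have hf : Function.Injective f := by
    intro a b e
    have e' : (a : G)⁻¹ * (u * a * u⁻¹) = (b : G)⁻¹ * (u * b * u⁻¹) := congrArg Subtype.val e
    have : u * ((b : G) * (a : G)⁻¹) * u⁻¹ = (b : G) * (a : G)⁻¹ := by
      calc u * ((b : G) * (a : G)⁻¹) * u⁻¹
          = (b : G) * ((b : G)⁻¹ * (u * b * u⁻¹)) * (u * a * u⁻¹)⁻¹ := by group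
        _ = (b : G) * ((a : G)⁻¹ * (u * a * u⁻¹)) * (u * a * u⁻¹)⁻¹ := by rw [e']
        _ = _ := by group
    exact (Subtype.ext (mul_inv_eq_one.1 (hfix _ (mul_mem b.2 (inv_mem a.2)) this))).symm
  intro o ho
  obtain ⟨w, hw⟩ := (Finite.injective_iff_surjective.1 hf) ⟨o, ho⟩
  have hw' : (w : G)⁻¹ * (u * w * u⁻¹) = o := congrArg Subtype.val hw
  rw [← hw', hi, mul_inv_rev, mul_inv_rev, mul_inv_rev, inv_inv, hi]
  calc u * ((w : G)⁻¹ * (u * w * u)) * u = u * (w : G)⁻¹ * u * w * (u * u) := by group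
    _ = _ := by rw [hu]; group

/-- Three involutions with product one acting on a group of odd order without fixed points force it to be trivial. -/
theorem odd_trivial {O : Subgroup G} (hodd : Odd (Nat.card O)) {a b : G} (ha : a * a = 1) (hb : b * b = 1)
    (hn : ∀ o ∈ O, a * o * a⁻¹ ∈ O ∧ b * o * b⁻¹ ∈ O) (hab : a * b * (a * b) = 1)
    (hfa : ∀ o ∈ O, a * o * a⁻¹ = o → o = 1) (hfb : ∀ o ∈ O, b * o * b⁻¹ = o → o = 1)
    (hfab : ∀ o ∈ O, a * b * o * (a * b)⁻¹ = o → o = 1) : O = ⊥ := by
  have i1 := inverts ha (fun o ho => (hn o ho).1) hfa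
  have i2 := inverts hb (fun o ho => (hn o ho).2) hfb
  have i3 := inverts hab (fun o ho => by
    rw [show a * b * o * (a * b)⁻¹ = a * (b * o * b⁻¹) * a⁻¹ by group]; exact (hn _ (hn o ho).2).1) hfab
  rw [Subgroup.eq_bot_iff_forall]
  intro o ho
  have e := i3 o ho
  rw [show a * b * o * (a * b)⁻¹ = a * (b * o * b⁻¹) * a⁻¹ by group, i2 o ho,
    i1 _ (O.inv_mem ho), inv_inv] at e
  have h2 : o * o = 1 := mul_eq_one_iff_eq_inv.2 e
  exact orderOf_eq_one_iff.1 (Nat.eq_one_of_dvd_coprimes
    (Nat.coprime_two_left.2 (hodd.of_dvd_nat (Subgroup.orderOf_dvd_natCard O ho)))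
    (orderOf_dvd_of_pow_eq_one (by rw [sq, h2])) dvd_rfl)

theorem cent_two_power : ∀ k < 4, (codes.all fun n => !isInv k n || [8, 16, 32].contains (mcent k n).length) = true := by
  decide +kernel

namespace Dat

variable {s : G} {k : ℕ} {φ : ℕ → G} (D : Dat s k φ)
include D

/-- An element of odd order in the centraliser of `s` and of another involution is trivial. -/
theorem odd_cent {n : ℕ} (hn : n < 192) (hi : isInv k n = true) {o : G} (hos : o * s = s * o)
    (hon : o * φ n = φ n * o) (hodd : Odd (orderOf o)) : o = 1 := by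
  have h := all_codes (cent_two_power k D.type) hn
  simp only [hi, Bool.not_true, Bool.false_or, List.contains_iff_mem, List.mem_cons, List.not_mem_nil, or_false] at h
  have hd : orderOf o ∣ 32 := by
    have h1 := Subgroup.orderOf_dvd_natCard (Subgroup.centralizer ({s} : Set G) ⊓ Subgroup.centralizer ({φ n} : Set G))
      (x := o) ⟨Subgroup.mem_centralizer_singleton_iff.2 hos, Subgroup.mem_centralizer_singleton_iff.2 hon⟩
    rw [D.card_cent2 hn] at h1
    rcases h with h | h | h <;> rw [h] at h1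
    · exact h1.trans (by norm_num)
    · exact h1.trans (by norm_num)
    · exact h1
  obtain ⟨i, -, hi'⟩ := (Nat.dvd_prime_pow Nat.prime_two).1 (show orderOf o ∣ 2 ^ 5 from hd)
  rcases i with _ | i
  · exact orderOf_eq_one_iff.1 (by rw [hi', pow_zero])
  · rw [hi', pow_succ] at hodd
    exact absurd hodd (Nat.not_odd_iff_even.2 ⟨2 ^ i, by ring⟩)

/-- The case with a single elementary abelian group of order eight. -/
theorem eCase {R : Row} (hR : R ∈ rows) (hk : R.ty = k) {ys : List ℕ} {α : G} (hA : Act s φ R ys α)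
    (hok : eOK R ys = true)
    (hsix : ∀ n < 192, n % 6 = 0 → InU s φ n → n ∈ eList R) (hr : InU s φ R.r) :
    ∃ (N : Subgroup G) (_hN : N.Normal), IsMulCommutative N ∧ (∀ n ∈ N, n ^ 2 = 1) ∧ Nat.card N = 8 ∧
      Nonempty (G ⧸ N ≃* Matrix.ProjectiveSpecialLinearGroup (Fin 3) (ZMod 2)) := by
  classical
  subst hk
  have hf := List.all_eq_true.1 eList_facts R hR
  simp only [Bool.and_eq_true, List.all_eq_true, beq_iff_eq, decide_eq_true_eq, List.contains_iff_mem,
    List.any_eq_true, Bool.or_eq_true, Bool.not_eq_true', bne_iff_ne, ne_eq] at hf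
  obtain ⟨⟨⟨⟨⟨hlen, h24⟩, h0⟩, hmem⟩, hinto⟩, ⟨z₀, hz₀m, hz₀, hz₀E⟩⟩ := hf
  have hlt : ∀ a ∈ eList R, a < 192 := fun a ha => (hmem a ha).1.1.1.1
  simp only [eOK, Bool.and_eq_true, List.all_eq_true, Bool.or_eq_true, Bool.not_eq_true', List.contains_iff_mem,
    beq_iff_eq, List.any_eq_true, decide_eq_true_eq] at hok
  obtain ⟨hmax, hout⟩ := hok
  have hw := List.all_eq_true.1 words_ok R hR
  simp only [wordsOK, Bool.and_eq_true, beq_iff_eq] at hw
  have hcen : R.cen = mcent R.ty R.r := hw.1.1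
  have hok' := List.all_eq_true.1 rows_ok R hR
  simp only [Bool.and_eq_true, decide_eq_true_eq] at hok'
  have hrlt : R.r < 192 := hok'.1.1.2
  have hcl : ∀ x ∈ R.cen, x < 192 := fun x hx => (mem_mcent.1 (hcen ▸ hx)).1
  have hfl : ∀ x ∈ R.cen, fap R ys x ∈ R.cen ∧ α * φ x * α⁻¹ = φ (fap R ys x) := by
    intro x hx
    refine ⟨?_, hA.act x hx⟩
    have hx' := hcl x hx
    have e1 := D.comm_s hx'
    have e2 := (D.commute_iff hx' hrlt).2 (mem_mcent.1 (hcen ▸ hx)).2
    have c1 : α * φ x * α⁻¹ * φ R.r = φ R.r * (α * φ x * α⁻¹) := by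
      rw [← hA.conj_s]
      calc α * φ x * α⁻¹ * (α * s * α⁻¹) = α * (φ x * s) * α⁻¹ := by group
        _ = _ := by rw [e1]; group
    have c2 : α * φ x * α⁻¹ * (φ R.r * s) = φ R.r * s * (α * φ x * α⁻¹) := by
      rw [← hA.conj_r]
      calc α * φ x * α⁻¹ * (α * φ R.r * α⁻¹) = α * (φ x * φ R.r) * α⁻¹ := by group
        _ = _ := by rw [e2]; group
    rw [← mul_assoc, c1, mul_assoc, mul_assoc (φ R.r)] at c2
    obtain ⟨y, hy, e⟩ := D.mem_cent2 hrlt (mul_left_cancel c2) c1
    rw [hA.act x hx] at e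
    have hfx : fap R ys x < 192 := by
      have := hA.mem
      exact (D.mword_eq _ fun v hv => by
        obtain ⟨i, -, rfl⟩ := List.mem_map.1 hv
        have hopts : (rows.all fun R => R.opts.all fun o => o.all fun v => decide (v < 192)) = true := by decide +kernel
        have h := List.all_eq_true.1 (List.all_eq_true.1 hopts R hR) ys hA.mem
        rcases lt_or_ge i ys.length with h' | h'
        · rw [List.getD_eq_getElem?_getD, List.getElem?_eq_getElem h']
          exact decide_eq_true_iff.1 (List.all_eq_true.1 h _ (List.getElem_mem _))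
        · rw [List.getD_eq_default _ _ h']; norm_num).2
    rw [← D.inj _ (mem_mcent.1 hy).1 _ hfx e]
    exact hcen ▸ hy
  -- the conjugates of `s` centralising `s`
  have hU : ∀ n < 192, InU s φ n → n ∈ eList R := by
    intro n hn hnU
    by_cases h6 : n % 6 = 0
    · exact hsix n hn h6 hnU
    exfalso
    have hi := D.inU_isInv hn hnU (fun e => h6 (by rw [e]))
    rcases hout n (List.mem_range.2 hn) with (h | h) | ⟨c, hc, hcc, m, hm, hm6, hmE⟩
    · rw [hi] at h; cases h
    · exact h6 h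
    have hc' := List.mem_range.1 hc
    obtain ⟨hy, e1⟩ := hfl _ hcc
    obtain ⟨hy2, e2⟩ := hfl _ hy
    obtain ⟨g, hg⟩ := D.inU_conj hn hc' hnU
    have hy' : InU s φ (fap R ys (mconj R.ty c n)) := ⟨α * g, by rw [← e1, ← hg]; group⟩
    obtain ⟨g', hg'⟩ := hy'
    simp only [List.mem_cons, List.not_mem_nil, or_false] at hm
    rcases hm with rfl | rfl
    · exact absurd (hsix _ (hcl _ hy) hm6 ⟨g', hg'⟩) (by simpa using hmE)
    · exact absurd (hsix _ (hcl _ hy2) hm6 ⟨α * g', by rw [← e2, ← hg']; group⟩) (by simpa using hmE)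
  let E : Subgroup G :=
    { carrier := {g | ∃ a ∈ eList R, φ a = g}
      one_mem' := ⟨0, h0, D.one⟩
      mul_mem' := by
        rintro _ _ ⟨a, ha, rfl⟩ ⟨b, hb, rfl⟩
        exact ⟨mmul R.ty a b, (hmem a ha).1.2 b hb, D.mul _ (hlt a ha) _ (hlt b hb)⟩
      inv_mem' := by
        rintro _ ⟨a, ha, rfl⟩
        exact ⟨a, ha, eq_inv_of_mul_eq_one_left ((D.sq_iff (hlt a ha)).2 (hmem a ha).1.1.1.2)⟩ }
  have hsE : s ∈ E := ⟨24, h24, D.zc⟩
  have hsq : ∀ e ∈ E, e * e = 1 := by
    rintro _ ⟨a, ha, rfl⟩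
    exact (D.sq_iff (hlt a ha)).2 (hmem a ha).1.1.1.2
  have hEU : ∀ e ∈ E, e ≠ 1 → ∃ g, g * s * g⁻¹ = e := by
    rintro _ ⟨a, ha, rfl⟩ hne
    rcases (hmem a ha).2 with (h | h) | ⟨c, hc, h⟩
    · exact absurd (by rw [h, D.one]) hne
    · exact ⟨1, by rw [h, D.zc]; group⟩
    · exact h ▸ D.inU_conj hrlt (List.mem_range.1 hc) hr
  have hUE : ∀ g, g * s * g⁻¹ * s = s * (g * s * g⁻¹) → g * s * g⁻¹ ∈ E := by
    intro g hg
    obtain ⟨n, hn, e⟩ := (D.cent _).1 hg
    exact ⟨n, hU n hn ⟨g, e.symm⟩, e⟩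
  have hcenter : ∀ z, z * z = 1 → z * s = s * z → z ∉ E → ∃ b ∈ E, b ≠ 1 ∧ ∀ c, c * z = z * c → c * b = b * c := by
    intro z hzz hzs hzE
    obtain ⟨n₀, hn₀, rfl⟩ := (D.cent z).1 hzs
    have hi₀ : isInv R.ty n₀ = true := by
      simp only [isInv, Bool.and_eq_true, bne_iff_ne, ne_eq, beq_iff_eq]
      refine ⟨⟨fun h => hzE ⟨0, h0, by rw [h]⟩, fun h => hzE ⟨24, h24, by rw [h]⟩⟩, (D.sq_iff hn₀).1 hzz⟩
    obtain ⟨c, hc, hcn⟩ := (hinto n₀ (List.mem_range.2 hn₀)).resolve_left (by simp [hi₀])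
    have hc' := List.mem_range.1 hc
    set n := mconj R.ty c n₀ with hndef
    have hn : n < 192 := D.lt_conj hc' hn₀
    have hEn : ∀ g, g * s * g⁻¹ = s → ∀ e ∈ E, g * e * g⁻¹ ∈ E := by
      intro g hg e he
      by_cases he1 : e = 1
      · rw [he1, mul_one, mul_inv_cancel]; exact E.one_mem
      obtain ⟨h, hh⟩ := hEU e he he1
      have e2 : g * e * g⁻¹ = g * h * s * (g * h)⁻¹ := by rw [← hh]; group
      rw [e2]
      refine hUE _ ?_
      rw [← e2]
      obtain ⟨a, ha, rfl⟩ := he
      calc g * φ a * g⁻¹ * s = g * φ a * g⁻¹ * (g * s * g⁻¹) := by rw [hg]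
        _ = g * (φ a * s) * g⁻¹ := by group
        _ = g * (s * φ a) * g⁻¹ := by rw [D.comm_s (hlt a ha)]
        _ = (g * s * g⁻¹) * (g * φ a * g⁻¹) := by group
        _ = _ := by rw [hg]
    have hcs : φ c * s * (φ c)⁻¹ = s := by rw [D.comm_s hc', mul_inv_cancel_right]
    have hcs' : (φ c)⁻¹ * s * ((φ c)⁻¹)⁻¹ = s := by
      rw [inv_inv]; calc (φ c)⁻¹ * s * φ c = (φ c)⁻¹ * (φ c * s) := by rw [D.comm_s hc']; group
        _ = s := by group
    have hnE : n ∉ eList R := fun h => hzE (by
      have := hEn _ hcs' (φ n) ⟨n, h, rfl⟩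
      rwa [hndef, D.conj hc' hn₀, inv_inv, show (φ c)⁻¹ * (φ c * φ n₀ * (φ c)⁻¹) * φ c = φ n₀ by group] at this)
    have hni : isInv R.ty n = true := by
      simp only [isInv, Bool.and_eq_true, bne_iff_ne, ne_eq, beq_iff_eq]
      refine ⟨⟨fun h => hnE (h ▸ h0), fun h => hnE (h ▸ h24)⟩, (D.sq_iff hn).1 ?_⟩
      rw [hndef, D.conj hc' hn₀, show φ c * φ n₀ * (φ c)⁻¹ * (φ c * φ n₀ * (φ c)⁻¹) = φ c * (φ n₀ * φ n₀) * (φ c)⁻¹ by
        group, hzz]
      group
    have hm := (hmax n hcn).resolve_left (by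
      rintro (h | h)
      · rw [hni] at h; cases h
      · exact hnE h)
    -- centralisers of the three conjugates
    obtain ⟨f1, a1⟩ := hfl n hcn
    obtain ⟨f2, a2⟩ := hfl _ f1
    obtain ⟨f3, a3⟩ := hfl _ f2
    have hcube : fap R ys (fap R ys (fap R ys n)) = n := D.inj _ (hcl _ f3) _ hn (by
      rw [← a3, ← a2, ← a1, show α * (α * (α * φ n * α⁻¹) * α⁻¹) * α⁻¹ = α * α * α * φ n * (α * α * α)⁻¹ by group, hA.cube]
      group)
    let cnt : G → ℕ := fun b => Nat.card ↥(Subgroup.centralizer ({b} : Set G) ⊓ Subgroup.centralizer ({φ n} : Set G))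
    have hcnt : ∀ (g : G) (m : ℕ), m < 192 → g * φ m * g⁻¹ = φ n → cnt (g * s * g⁻¹) = (mcent R.ty m).length := by
      intro g m hm e
      rw [← D.card_cent2 hm]
      have key : ∀ a b u : G, a * b = b * a → u * a * u⁻¹ * (u * b * u⁻¹) = u * b * u⁻¹ * (u * a * u⁻¹) :=
        fun a b u e => by
          calc u * a * u⁻¹ * (u * b * u⁻¹) = u * (a * b) * u⁻¹ := by group
            _ = _ := by rw [e]; group
      have e' : g⁻¹ * φ n * g = φ m := by rw [← e]; group
      refine Nat.card_congr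
        { toFun := fun c => ⟨g⁻¹ * c * g, Subgroup.mem_inf.2 ⟨Subgroup.mem_centralizer_singleton_iff.2 ?_,
            Subgroup.mem_centralizer_singleton_iff.2 ?_⟩⟩
          invFun := fun c => ⟨g * c * g⁻¹, Subgroup.mem_inf.2 ⟨Subgroup.mem_centralizer_singleton_iff.2 ?_,
            Subgroup.mem_centralizer_singleton_iff.2 ?_⟩⟩
          left_inv := fun c => Subtype.ext (by simp [mul_assoc])
          right_inv := fun c => Subtype.ext (by simp [mul_assoc]) }
      · have h := key _ _ g⁻¹ (Subgroup.mem_centralizer_singleton_iff.1 c.2.1)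
        rwa [show g⁻¹ * (g * s * g⁻¹) * g⁻¹⁻¹ = s by group, inv_inv] at h
      · have h := key _ _ g⁻¹ (Subgroup.mem_centralizer_singleton_iff.1 c.2.2)
        rwa [inv_inv, e'] at h
      · exact key _ _ g (Subgroup.mem_centralizer_singleton_iff.1 c.2.1)
      · have h := key _ _ g (Subgroup.mem_centralizer_singleton_iff.1 c.2.2)
        rwa [e] at h
    have c0 : cnt s = (mcent R.ty n).length := by simpa using hcnt 1 n hn (by group)
    have hαα : α * α * s * (α * α)⁻¹ = φ R.r * s := by
      rw [show α * α * s * (α * α)⁻¹ = α * (α * s * α⁻¹) * α⁻¹ by group, hA.conj_s, hA.conj_r]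
    have c1 : cnt (φ R.r) = (mcent R.ty (fap R ys (fap R ys n))).length := by
      rw [← hA.conj_s]; exact hcnt α _ (hcl _ f2) (by rw [a3, hcube])
    have c2 : cnt (φ R.r * s) = (mcent R.ty (fap R ys n)).length := by
      rw [← hαα]
      exact hcnt (α * α) _ (hcl _ f1) (by
        rw [show α * α * φ (fap R ys n) * (α * α)⁻¹ = α * (α * φ (fap R ys n) * α⁻¹) * α⁻¹ by group, a2, a3, hcube])
    have hrE : φ R.r ∈ E := by
      obtain ⟨g, hg⟩ := hr
      rw [← hg]
      exact hUE g (by rw [hg]; exact D.comm_s hrlt)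
    have hrsE : φ R.r * s ∈ E := E.mul_mem hrE hsE
    obtain ⟨g0, hg0⟩ := hr
    have hr1 : φ R.r ≠ 1 := fun h => D.s_ne (by
      calc s = g0⁻¹ * (g0 * s * g0⁻¹) * g0 := by group
        _ = 1 := by rw [hg0, h]; group)
    have hrs : φ R.r ≠ s := fun h => by
      have h1 := hA.conj_r
      rw [h, hA.conj_s, D.s_sq] at h1
      exact hr1 h1
    have hrs1 : φ R.r * s ≠ 1 := fun h => hrs ((eq_inv_of_mul_eq_one_left h).trans (inv_eq_of_mul_eq_one_left D.s_sq))
    have hns := D.comm_s hn
    have hnr : φ n * φ R.r = φ R.r * φ n :=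
      (D.commute_iff hn hrlt).2 (mem_mcent.1 (hcen ▸ hcn)).2
    have hnrs : φ n * (φ R.r * s) = φ R.r * s * φ n := by rw [← mul_assoc, hnr, mul_assoc, hns, ← mul_assoc]
    set Z := Subgroup.centralizer ({φ n} : Set G)
    have inZ : ∀ b, φ n * b = b * φ n → b ∈ Z := fun b h => Subgroup.mem_centralizer_singleton_iff.2 h.symm
    have three : ∀ e ∈ E, e * φ n = φ n * e → e = 1 ∨ e = s ∨ e = φ R.r ∨ e = φ R.r * s := by
      rintro _ ⟨a, ha, rfl⟩ he
      have := (D.commute_iff (hlt a ha) hn).1 he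
      have hfour : (rows.all fun R => R.cen.all fun n => (eList R).contains n || !isInv R.ty n ||
          (eList R).all fun a => mmul R.ty a n != mmul R.ty n a || [0, 24, R.r, mmul R.ty R.r 24].contains a) = true := by
        decide +kernel
      have h := List.all_eq_true.1 (List.all_eq_true.1 hfour R hR) n hcn
      simp only [Bool.or_eq_true, List.contains_iff_mem, hnE, false_or, hni, Bool.not_true, Bool.false_eq_true,
        List.all_eq_true, bne_iff_ne, ne_eq, List.mem_cons, List.not_mem_nil, or_false] at h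
      rcases (h a ha).resolve_left (fun h' => h' this) with rfl | rfl | rfl | rfl
      · exact Or.inl D.one
      · exact Or.inr (Or.inl D.zc)
      · exact Or.inr (Or.inr (Or.inl rfl))
      · exact Or.inr (Or.inr (Or.inr (by rw [D.mul _ hrlt _ (by norm_num), D.zc])))
    obtain ⟨b, hbm, hb1, hbmax⟩ : ∃ b, (b = s ∨ b = φ R.r ∨ b = φ R.r * s) ∧ b ≠ 1 ∧
        ∀ b', (b' = s ∨ b' = φ R.r ∨ b' = φ R.r * s) → b' ≠ b → cnt b' < cnt b := by
      simp only [eMax, Bool.or_eq_true, Bool.and_eq_true, decide_eq_true_eq] at hm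
      rcases hm with (⟨u, v⟩ | ⟨u, v⟩) | ⟨u, v⟩
      · refine ⟨s, Or.inl rfl, D.s_ne, fun b' hb' hne => ?_⟩
        rcases hb' with rfl | rfl | rfl
        · exact absurd rfl hne
        · rwa [c0, c1]
        · rwa [c0, c2]
      · refine ⟨φ R.r, Or.inr (Or.inl rfl), hr1, fun b' hb' hne => ?_⟩
        rcases hb' with rfl | rfl | rfl
        · rwa [c0, c1]
        · exact absurd rfl hne
        · rwa [c1, c2]
      · refine ⟨φ R.r * s, Or.inr (Or.inr rfl), hrs1, fun b' hb' hne => ?_⟩
        rcases hb' with rfl | rfl | rfl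
        · rwa [c0, c2]
        · rwa [c1, c2]
        · exact absurd rfl hne
    have hbE : b ∈ E := by rcases hbm with rfl | rfl | rfl; exacts [hsE, hrE, hrsE]
    have hbn : φ n * b = b * φ n := by rcases hbm with rfl | rfl | rfl; exacts [hns, hnr, hnrs]
    obtain ⟨h, hh⟩ := hEU b hbE hb1
    -- `b` is isolated in the centraliser
    have hiso : Cfsg.IsIsolated (⟨b, inZ b hbn⟩ : Z) := by
      intro g hg
      apply Subtype.ext
      set b' := (g : G) * b * (g : G)⁻¹ with hb'
      have hb'Z : b' * φ n = φ n * b' := Subgroup.mem_centralizer_singleton_iff.1 (Z.mul_mem (Z.mul_mem g.2 (inZ b hbn)) (Z.inv_mem g.2))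
      have hgb : b * b' = b' * b := congrArg Subtype.val hg
      have e' : b' = (g : G) * h * s * ((g : G) * h)⁻¹ := by rw [hb', ← hh]; group
      have hb'E : b' ∈ E := by
        have hin : h⁻¹ * b' * h ∈ E := by
          rw [show h⁻¹ * b' * h = h⁻¹ * ((g : G) * h) * s * (h⁻¹ * ((g : G) * h))⁻¹ by rw [e']; group]
          refine hUE _ ?_
          rw [show h⁻¹ * ((g : G) * h) * s * (h⁻¹ * ((g : G) * h))⁻¹ = h⁻¹ * b' * h by rw [e']; group]
          calc h⁻¹ * b' * h * s = h⁻¹ * (b' * (h * s * h⁻¹)) * h := by group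
            _ = h⁻¹ * ((h * s * h⁻¹) * b') * h := by rw [hh, hgb]
            _ = _ := by group
        have hhE : ∀ x ∈ E, h⁻¹ * x * h ∈ E := by
          intro x hx
          by_cases hx1 : x = 1
          · rw [hx1, mul_one, inv_mul_cancel]; exact E.one_mem
          obtain ⟨h', hh'⟩ := hEU x hx hx1
          have e : h⁻¹ * x * h = h⁻¹ * h' * s * (h⁻¹ * h')⁻¹ := by rw [← hh']; group
          rw [e]
          refine hUE _ ?_
          rw [← e]
          have hxb : x * b = b * x := by
            obtain ⟨a, ha, rfl⟩ := hx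
            obtain ⟨a', ha', rfl⟩ := hbE
            calc φ a * φ a' = φ a * ((φ a * φ a') * (φ a * φ a')) * φ a' := by
                  rw [hsq _ (E.mul_mem ⟨a, ha, rfl⟩ ⟨a', ha', rfl⟩), mul_one]
              _ = (φ a * φ a) * φ a' * φ a * (φ a' * φ a') := by group
              _ = φ a' * φ a := by rw [hsq _ ⟨a, ha, rfl⟩, hsq _ ⟨a', ha', rfl⟩, one_mul, mul_one]
          calc h⁻¹ * x * h * s = h⁻¹ * (x * (h * s * h⁻¹)) * h := by group
            _ = h⁻¹ * ((h * s * h⁻¹) * x) * h := by rw [hh, hxb]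
            _ = _ := by group
        have hbij : Function.Bijective (fun x : E => (⟨h⁻¹ * x * h, hhE x x.2⟩ : E)) :=
          (Nat.bijective_iff_injective_and_card _).2 ⟨fun a b e => Subtype.ext
            (mul_left_cancel (mul_right_cancel (congrArg Subtype.val e))), rfl⟩
        obtain ⟨y, hy⟩ := hbij.2 ⟨_, hin⟩
        rw [← mul_left_cancel (mul_right_cancel (congrArg Subtype.val hy : h⁻¹ * (y : G) * h = h⁻¹ * b' * h))]
        exact y.2
      show b' = b
      by_contra hne
      have hsame : cnt b' = cnt b := by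
        refine Nat.card_congr
          { toFun := fun c => ⟨(g : G)⁻¹ * c * g, Subgroup.mem_inf.2 ⟨?_, Z.mul_mem (Z.mul_mem (Z.inv_mem g.2) c.2.2) g.2⟩⟩
            invFun := fun c => ⟨g * c * (g : G)⁻¹, Subgroup.mem_inf.2 ⟨?_, Z.mul_mem (Z.mul_mem g.2 c.2.2) (Z.inv_mem g.2)⟩⟩
            left_inv := fun c => Subtype.ext (by simp [mul_assoc])
            right_inv := fun c => Subtype.ext (by simp [mul_assoc]) }
        · have := Subgroup.mem_centralizer_singleton_iff.1 c.2.1
          rw [Subgroup.mem_centralizer_singleton_iff]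
          generalize (c : G) = d at this ⊢
          calc (g : G)⁻¹ * d * g * b = (g : G)⁻¹ * (d * b') * g := by rw [hb']; group
            _ = (g : G)⁻¹ * (b' * d) * g := by rw [this]
            _ = _ := by rw [hb']; group
        · have := Subgroup.mem_centralizer_singleton_iff.1 c.2.1
          rw [Subgroup.mem_centralizer_singleton_iff, hb']
          generalize (c : G) = d at this ⊢
          calc (g : G) * d * (g : G)⁻¹ * (g * b * (g : G)⁻¹) = g * (d * b) * (g : G)⁻¹ := by group
            _ = g * (b * d) * (g : G)⁻¹ := by rw [this]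
            _ = _ := by group
      rcases three b' hb'E hb'Z with e | e | e | e
      · exact hb1 (by rw [show b = (g : G)⁻¹ * b' * g by rw [hb']; group, e]; group)
      · exact (hbmax b' (Or.inl e) hne).ne hsame
      · exact (hbmax b' (Or.inr (Or.inl e)) hne).ne hsame
      · exact (hbmax b' (Or.inr (Or.inr e)) hne).ne hsame
    have hb2 : orderOf (⟨b, inZ b hbn⟩ : Z) = 2 := by
      rw [Subgroup.orderOf_mk]
      exact orderOf_eq_prime (by rw [pow_two]; exact hsq b hbE) hb1
    -- the odd core of the centraliser is trivial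
    have hO : Cfsg.pPrimeCore 2 Z = ⊥ := by
      set O := (Cfsg.pPrimeCore 2 Z).map Z.subtype with hOdef
      suffices O = ⊥ by rwa [hOdef, Subgroup.map_eq_bot_iff_of_injective _ (Subgroup.subtype_injective _)] at this
      have hodd : Odd (Nat.card O) := by
        rw [hOdef, Subgroup.card_map_of_injective (Subgroup.subtype_injective _)]
        exact Nat.coprime_two_right.1 (CfsgLib.card_pPrimeCore_coprime 2)
      have hnorm : ∀ g ∈ Z, ∀ o ∈ O, g * o * g⁻¹ ∈ O := by
        rintro g hg _ ⟨o, ho, rfl⟩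
        exact ⟨⟨g, hg⟩ * o * ⟨g, hg⟩⁻¹, Subgroup.Normal.conj_mem inferInstance o ho _, rfl⟩
      have fix : ∀ (g : G) (m : ℕ), m < 192 → isInv R.ty m = true → g * φ m * g⁻¹ = φ n → ∀ o ∈ O,
          g * s * g⁻¹ * o * (g * s * g⁻¹)⁻¹ = o → o = 1 := by
        intro g m hm him e o ho hco
        have hoZ : o * φ n = φ n * o := by
          obtain ⟨o', -, rfl⟩ := ho
          exact Subgroup.mem_centralizer_singleton_iff.1 o'.2
        have h1 : g⁻¹ * o * g = 1 := by
          refine D.odd_cent hm him ?_ ?_ ?_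
          · calc g⁻¹ * o * g * s = g⁻¹ * (o * (g * s * g⁻¹)) * g := by group
              _ = g⁻¹ * ((g * s * g⁻¹) * o) * g := by rw [(mul_inv_eq_iff_eq_mul.1 hco).symm]
              _ = _ := by group
          · rw [show φ m = g⁻¹ * φ n * g by rw [← e]; group]
            calc g⁻¹ * o * g * (g⁻¹ * φ n * g) = g⁻¹ * (o * φ n) * g := by group
              _ = _ := by rw [hoZ]; group
          · rw [show g⁻¹ * o * g = MulAut.conj g⁻¹ o by simp, MulEquiv.orderOf_eq]
            exact hodd.of_dvd_nat (Subgroup.orderOf_dvd_natCard O ho)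
        calc o = g * (g⁻¹ * o * g) * g⁻¹ := by group
          _ = 1 := by rw [h1]; group
      have him : ∀ m ∈ R.cen, α * φ m * α⁻¹ = φ (fap R ys m) → isInv R.ty (fap R ys m) = true ∨ fap R ys m ∈ [0, 24] ∨
          φ m * φ m ≠ 1 := by
        intro m hm e
        by_cases h : φ m * φ m = 1
        · by_cases h' : fap R ys m ∈ [0, 24]
          · exact Or.inr (Or.inl h')
          · refine Or.inl ?_
            simp only [List.mem_cons, List.not_mem_nil, or_false, not_or] at h'
            simp only [isInv, Bool.and_eq_true, bne_iff_ne, ne_eq, beq_iff_eq]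
            refine ⟨⟨h'.1, h'.2⟩, (D.sq_iff (hcl _ (hfl m hm).1)).1 ?_⟩
            rw [← e, show α * φ m * α⁻¹ * (α * φ m * α⁻¹) = α * (φ m * φ m) * α⁻¹ by group, h]; group
        · exact Or.inr (Or.inr h)
      have hn2 : φ n * φ n = 1 := (D.sq_iff hn).2 (by simp only [isInv, Bool.and_eq_true, beq_iff_eq] at hni; exact hni.2)
      have hf1i : isInv R.ty (fap R ys n) = true := by
        rcases him n hcn a1 with h | h | h
        · exact h
        · exfalso
          simp only [List.mem_cons, List.not_mem_nil, or_false] at h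
          rcases h with h | h
          · rw [h, D.one, mul_inv_eq_one, mul_eq_left] at a1
            exact hnE (((D.eq_one_iff hn).1 a1) ▸ h0)
          · rw [h, D.zc] at a1
            have : φ n = φ R.r * s := by
              have e3 : α⁻¹ = α * α := inv_eq_of_mul_eq_one_right (by rw [← mul_assoc, hA.cube])
              calc φ n = α⁻¹ * (α * φ n * α⁻¹) * α := by group
                _ = α⁻¹ * s * (α⁻¹)⁻¹ := by rw [a1, inv_inv]
                _ = _ := by rw [e3, hαα]
            obtain ⟨a, ha, e⟩ := hrsE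
            exact hnE ((D.inj _ (hlt a ha) _ hn (e.trans this.symm)) ▸ ha)
        · exact absurd hn2 h
      have hf2i : isInv R.ty (fap R ys (fap R ys n)) = true := by
        rcases him _ f1 a2 with h | h | h
        · exact h
        · exfalso
          simp only [List.mem_cons, List.not_mem_nil, or_false] at h
          rcases h with h | h
          · rw [h] at hcube
            rw [h, D.one, mul_inv_eq_one, mul_eq_left] at a2
            rw [(D.eq_one_iff (hcl _ f1)).1 a2, D.one, mul_inv_eq_one, mul_eq_left] at a1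
            exact hnE (((D.eq_one_iff hn).1 a1) ▸ h0)
          · rw [hcube, h, D.zc, hA.conj_s] at a3
            obtain ⟨a, ha, e⟩ := hrE
            exact hnE ((D.inj _ (hlt a ha) _ hn (e.trans a3)) ▸ ha)
        · refine absurd ?_ h
          rw [← a1, show α * φ n * α⁻¹ * (α * φ n * α⁻¹) = α * (φ n * φ n) * α⁻¹ by group, hn2]; group
      refine odd_trivial hodd (D.s_sq) (hsq _ hrE) (fun o ho => ⟨hnorm _ (inZ s hns) o ho, hnorm _ (inZ _ hnr) o ho⟩)
        (hsq _ (E.mul_mem hsE hrE)) ?_ ?_ ?_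
      · simpa using fix 1 n hn hni (by group)
      · rw [← hA.conj_s]
        exact fix α _ (hcl _ f2) hf2i (by rw [a3, hcube])
      · rw [show s * φ R.r = φ R.r * s from (D.comm_s hrlt).symm, ← hαα]
        exact fix (α * α) _ (hcl _ f1) hf1i (by
          rw [show α * α * φ (fap R ys n) * (α * α)⁻¹ = α * (α * φ (fap R ys n) * α⁻¹) * α⁻¹ by group, a2, a3, hcube])
    have hcentral : ∀ d, d * φ n = φ n * d → d * b = b * d := by
      intro d hd
      have := CfsgLib.ZStar.commutator_mem hb2 hiso ⟨d, Subgroup.mem_centralizer_singleton_iff.2 hd⟩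
      rw [hO, Subgroup.mem_bot] at this
      have h1 : b * d * b⁻¹ * d⁻¹ = 1 := congrArg Subtype.val this
      rw [mul_inv_eq_one, mul_inv_eq_iff_eq_mul] at h1
      exact h1.symm
    -- back to the original involution
    refine ⟨(φ c)⁻¹ * b * φ c, by simpa using hEn _ hcs' b hbE, fun e => hb1 ?_, fun d hd => ?_⟩
    · calc b = φ c * ((φ c)⁻¹ * b * φ c) * (φ c)⁻¹ := by group
        _ = 1 := by rw [e]; group
    · have := hcentral (φ c * d * (φ c)⁻¹) (by
        rw [hndef, D.conj hc' hn₀]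
        calc φ c * d * (φ c)⁻¹ * (φ c * φ n₀ * (φ c)⁻¹) = φ c * (d * φ n₀) * (φ c)⁻¹ := by group
          _ = _ := by rw [hd]; group)
      calc d * ((φ c)⁻¹ * b * φ c) = (φ c)⁻¹ * ((φ c * d * (φ c)⁻¹) * b) * φ c := by group
        _ = _ := by rw [this]; group
  obtain ⟨hnormal, hall⟩ := closed_normal s E hsE hsq hEU hUE D.s_ne hcenter
    ⟨φ z₀, (D.sq_iff (List.mem_range.1 hz₀m)).2 (by simp only [isInv, Bool.and_eq_true, beq_iff_eq] at hz₀; exact hz₀.2),
      D.comm_s (List.mem_range.1 hz₀m), fun ⟨a, ha, e⟩ => by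
        rw [D.inj _ (hlt a ha) _ (List.mem_range.1 hz₀m) e] at ha
        exact (by simpa using hz₀E : z₀ ∉ eList R) ha⟩
  haveI := hnormal
  have hEcard : Nat.card E = 8 := by
    have hnd : (eList R).Nodup := List.nodup_range.filter _
    refine (Nat.card_congr (Equiv.ofBijective (fun a : {a // a ∈ (eList R).toFinset} =>
      (⟨φ a.1, a.1, List.mem_toFinset.1 a.2, rfl⟩ : E)) ⟨?_, ?_⟩)).symm.trans ?_
    · intro a b e
      exact Subtype.ext (D.inj _ (hlt _ (List.mem_toFinset.1 a.2)) _ (hlt _ (List.mem_toFinset.1 b.2))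
        (congrArg Subtype.val e))
    · rintro ⟨_, a, ha, rfl⟩
      exact ⟨⟨a, List.mem_toFinset.2 ha⟩, rfl⟩
    · rw [Nat.card_eq_fintype_card, Fintype.card_coe, List.toFinset_card_of_nodup hnd, hlen]
  have hcomm : ∀ a ∈ E, ∀ b ∈ E, a * b = b * a := fun a ha b hb => by
    calc a * b = a * ((a * b) * (a * b)) * b := by rw [hsq _ (E.mul_mem ha hb), mul_one]
      _ = (a * a) * b * a * (b * b) := by group
      _ = b * a := by rw [hsq a ha, hsq b hb, one_mul, mul_one]
  -- the kernel of the action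
  let conjE : G →* MulAut E := MulAut.conjNormal
  have hkerE : conjE.ker = E := by
    ext g
    rw [MonoidHom.mem_ker]
    constructor
    · intro hg
      have hfix : ∀ e ∈ E, g * e = e * g := fun e he => by
        have := congrArg (fun f : MulAut E => ((f ⟨e, he⟩ : E) : G)) hg
        simp only [conjE, MulAut.conjNormal_apply, MulAut.one_apply] at this
        exact mul_inv_eq_iff_eq_mul.1 this
      obtain ⟨x, hx, rfl⟩ := (D.cent g).1 (hfix s hsE)
      have hself : (rows.all fun R => codes.all fun x => (eList R).contains x ||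
          (eList R).any fun a => mmul R.ty x a != mmul R.ty a x) = true := by decide +kernel
      have h := all_codes (List.all_eq_true.1 hself R hR) hx
      simp only [Bool.or_eq_true, List.contains_iff_mem, List.any_eq_true, bne_iff_ne, ne_eq] at h
      rcases h with h | ⟨a, ha, hne⟩
      · exact ⟨x, h, rfl⟩
      · exact absurd ((D.commute_iff hx (hlt a ha)).1 (hfix _ ⟨a, ha, rfl⟩)) hne
    · intro hg
      ext e
      simp only [conjE, MulAut.conjNormal_apply, MulAut.one_apply]
      rw [hcomm g hg e e.2, mul_inv_cancel_right]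
  letI : CommGroup E := { (inferInstance : Group E) with mul_comm := fun a b => Subtype.ext (hcomm a a.2 b b.2) }
  haveI : Fact (Nat.Prime 2) := ⟨Nat.prime_two⟩
  obtain ⟨gl, hgl⟩ := CfsgLib.GenRank.exists_gl (p := 2) (V := E) (fun e => Subtype.ext (by
    show ((e ^ 2 : E) : G) = 1
    rw [SubmonoidClass.coe_pow, pow_two]; exact hsq e e.2)) (e := 3) (by rw [hEcard]; rfl)
  -- the index
  have hidx : E.index = 168 := by
    letI : MulAction G {e : E // e ≠ 1} :=
      { smul := fun g e => ⟨conjE g e.1, fun h => e.2 ((conjE g).injective (h.trans (map_one _).symm))⟩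
        one_smul := fun e => Subtype.ext (by show conjE 1 e.1 = e.1; simp)
        mul_smul := fun g h e => Subtype.ext (by show conjE (g * h) e.1 = conjE g (conjE h e.1); simp) }
    let p : {e : E // e ≠ 1} := ⟨⟨s, hsE⟩, fun h => D.s_ne (congrArg Subtype.val h)⟩
    have horb : MulAction.orbit G p = Set.univ := Set.eq_univ_of_forall fun e => by
      obtain ⟨g, hg⟩ := hEU e.1 e.1.2 (fun h => e.2 (Subtype.ext h))
      exact ⟨g, Subtype.ext (Subtype.ext (by
        show ((conjE g ⟨s, hsE⟩ : E) : G) = (e.1 : G)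
        simp [conjE, hg]))⟩
    have hstab : MulAction.stabilizer G p = Subgroup.centralizer ({s} : Set G) := by
      ext g
      rw [MulAction.mem_stabilizer_iff, Subgroup.mem_centralizer_singleton_iff]
      constructor
      · intro h
        have := congrArg (fun e : {e : E // e ≠ 1} => ((e.1 : E) : G)) h
        change ((conjE g ⟨s, hsE⟩ : E) : G) = s at this
        simp only [conjE, MulAut.conjNormal_apply] at this
        exact mul_inv_eq_iff_eq_mul.1 this
      · intro h
        refine Subtype.ext (Subtype.ext ?_)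
        show ((conjE g ⟨s, hsE⟩ : E) : G) = s
        simp [conjE, h]
    have h7 : Nat.card {e : E // e ≠ 1} = 7 := by
      haveI := Fintype.ofFinite E
      rw [Nat.card_eq_fintype_card, Fintype.card_subtype_compl, Fintype.card_subtype_eq, ← Nat.card_eq_fintype_card,
        hEcard]
    have hH : Nat.card (Subgroup.centralizer ({s} : Set G)) = 192 := by
      refine (Nat.card_congr (Equiv.ofBijective (fun n : Fin 192 => (⟨φ n, Subgroup.mem_centralizer_singleton_iff.2
        (D.comm_s n.2)⟩ : Subgroup.centralizer ({s} : Set G))) ⟨?_, ?_⟩)).symm.trans (Nat.card_fin 192)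
      · intro a b e; exact Fin.ext (D.inj _ a.2 _ b.2 (congrArg Subtype.val e))
      · rintro ⟨g, hg⟩
        obtain ⟨n, hn, rfl⟩ := (D.cent g).1 (Subgroup.mem_centralizer_singleton_iff.1 hg)
        exact ⟨⟨n, hn⟩, rfl⟩
    have hG : Nat.card G = 7 * 192 := by
      rw [← hH, ← hstab, ← h7, ← Nat.card_congr (MulAction.orbitProdStabilizerEquivGroup G p), Nat.card_prod, horb,
        Nat.card_congr (Equiv.Set.univ _)]
    have := E.card_mul_index
    rw [hEcard, hG] at this
    omega
  let ψ : G →* GL (Fin 3) (ZMod 2) := gl.comp conjE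
  have hψ : ψ.ker = E := by rw [show ψ.ker = conjE.ker from Subgroup.ext fun g => by
    rw [MonoidHom.mem_ker, MonoidHom.mem_ker]; exact map_eq_one_iff gl hgl, hkerE]
  have hGL : Nat.card (GL (Fin 3) (ZMod 2)) = 168 := by
    rw [Matrix.card_GL_field]; simp [Fin.prod_univ_succ]
  have hr' : ψ.range = ⊤ := by
    refine Subgroup.eq_top_of_card_eq _ ?_
    rw [← Subgroup.index_ker, hψ, hidx, hGL]
  refine ⟨E, hnormal, ⟨⟨fun a b => Subtype.ext (hcomm a a.2 b b.2)⟩⟩, fun e he => by rw [pow_two]; exact hsq e he, hEcard, ⟨?_⟩⟩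
  exact (((QuotientGroup.quotientMulEquivOfEq hψ.symm).trans (QuotientGroup.quotientKerEquivRange ψ)).trans
    ((MulEquiv.subgroupCongr hr').trans Subgroup.topEquiv)).trans CfsgLib.SectFour.glPSL

end Dat

end CfsgQS3
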