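import Cfsg.Agent.Lib.QS3.Model

/-!
Groups with an involution centraliser `Q.S₃`: the product of the model on components.
-/

set_option autoImplicit false
set_option maxRecDepth 100000

namespace CfsgQS3

theorem mmul_formula : ∀ k < 4, ((List.range 192).all fun y => (List.range 32).all fun q => (List.range 3).all fun i =>
    mmul k (6 * q + 2 * i) y == 6 * qmul q (qrot i (y / 6)) + 2 * ((i + y / 2 % 3) % 3) + y % 2) = true := by
  decide +kernel

theorem mmul_formula' : ∀ k < 4, ((List.range 192).all fun y => (List.range 32).all fun q => (List.range 3).all fun i =>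
    mmul k (6 * q + 2 * i + 1) y == 6 * (if y % 2 = 1 ∧ k % 2 = 1 then qmul (qmul q (qrot i (qtau k (y / 6)))) 4
      else qmul q (qrot i (qtau k (y / 6)))) + 2 * ((i + (3 - y / 2 % 3)) % 3) + (1 + y % 2) % 2) = true := by
  decide +kernel

end CfsgQS3
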