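import Cfsg.Agent.Lib.QS3.Setup

/-!
Groups with an involution centraliser `Q.S₃`: the coordinates from the hypotheses.
-/

set_option autoImplicit false
set_option maxRecDepth 100000

namespace CfsgQS3

theorem perm_three_facts : ∀ a b : Equiv.Perm (Fin 3), b * b * b = 1 → b ≠ 1 → a * b * a⁻¹ = b⁻¹ →
    a * a = 1 ∧ a ≠ 1 ∧ a * b ≠ 1 ∧ a * b * b ≠ 1 := by decide +kernel

theorem perm_three_inv : ∀ b : Equiv.Perm (Fin 3), b * b * b = 1 → ∃ a : Equiv.Perm (Fin 3), a * b * a⁻¹ = b⁻¹ := by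
  decide +kernel

variable {G : Type*} [Group G] [Finite G]

/-- The hypotheses of the statement give the coordinates. -/
theorem exists_dat (s : G) (hs : orderOf s = 2) (L : Subgroup G) (hL : L = Subgroup.centralizer ({s} : Set G))
    (Q : Subgroup G) (hQ : Q = (Cfsg.pCore 2 L).map L.subtype)
    (hQex : Cfsg.IsExtraspecial 2 Q) (hQcard : Nat.card Q = 32)
    (e : L ⧸ Cfsg.pCore 2 L ≃* Equiv.Perm (Fin 3))
    (X : Sylow 3 L) (hCQX : Q ⊓ Subgroup.centralizer (((X : Subgroup L).map L.subtype : Subgroup G) : Set G) = Subgroup.zpowers s) :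
    ∃ k φ, Dat s k φ ∧ ∀ g, g ∈ Q ↔ ∃ n < 192, n % 6 = 0 ∧ φ n = g := by
  classical
  haveI : Fact (Nat.Prime 2) := ⟨Nat.prime_two⟩
  haveI : Fact (Nat.Prime 3) := ⟨Nat.prime_three⟩
  set K := Cfsg.pCore 2 L with hK
  haveI : K.Normal := inferInstance
  have hKcard : Nat.card K = 32 := by
    rw [← hQcard, hQ, Subgroup.card_map_of_injective (Subgroup.subtype_injective L)]
  have hLcard : Nat.card L = 192 := by
    rw [← K.card_mul_index, hKcard, Subgroup.index_eq_card, Nat.card_congr e.toEquiv, Nat.card_perm, Nat.card_fin]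
    rfl
  let π : L →* Equiv.Perm (Fin 3) := e.toMonoidHom.comp (QuotientGroup.mk' K)
  have hker : ∀ g : L, π g = 1 ↔ (g : G) ∈ Q := fun g => by
    show e (QuotientGroup.mk' K g) = 1 ↔ _
    rw [EmbeddingLike.map_eq_one_iff, QuotientGroup.mk'_apply, QuotientGroup.eq_one_iff, hQ]
    exact ⟨fun h => ⟨g, h, rfl⟩, fun ⟨g', h, e⟩ => (Subtype.ext e : g' = g) ▸ h⟩
  have hQL : Q ≤ L := hQ ▸ Subgroup.map_subtype_le _
  have hcomm : ∀ c : G, c ∈ L ↔ c * s = s * c := fun c => by rw [hL]; exact Subgroup.mem_centralizer_singleton_iff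
  have hnorm : ∀ c ∈ L, ∀ q ∈ Q, c * q * c⁻¹ ∈ Q := fun c hc q hq => by
    rw [hQ] at hq ⊢
    obtain ⟨q', hq', rfl⟩ := hq
    exact ⟨⟨c, hc⟩ * q' * ⟨c, hc⟩⁻¹, Subgroup.Normal.conj_mem inferInstance _ hq' _, rfl⟩
  have hsQ : s ∈ Q := ((SetLike.ext_iff.1 hCQX s).2 (Subgroup.mem_zpowers s)).1
  have hs1 : s ≠ 1 := fun h => by rw [h, orderOf_one] at hs; norm_num at hs
  have hss : s * s = 1 := by rw [← pow_two, ← hs, pow_orderOf_eq_one]
  obtain ⟨z, hz⟩ := CfsgLib.ExtraTwo.ofExtraspecial hQex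
  have hzs : (z : G) = s := by
    have h := (hz.center_iff ⟨s, hsQ⟩).1 (Subgroup.mem_center_iff.2 fun q => Subtype.ext ((hcomm _).1 (hQL q.2)))
    rcases h with h | h
    · exact absurd (congrArg Subtype.val h) hs1
    · exact (congrArg Subtype.val h).symm
  -- an element of order three
  obtain ⟨⟨w, hwX⟩, hw⟩ : ∃ w : (X : Subgroup L), orderOf w = 3 := by
    refine exists_prime_orderOf_dvd_card' 3 ?_
    rw [X.card_eq_multiplicity, hLcard]
    exact dvd_pow_self _ (by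
      rw [Nat.factorization_def _ Nat.prime_three]
      exact Nat.one_le_iff_ne_zero.1 (one_le_padicValNat_of_dvd (by norm_num) (by norm_num)))
  rw [Subgroup.orderOf_mk] at hw
  have hXcard : Nat.card (X : Subgroup L) = 3 := by
    rw [X.card_eq_multiplicity, hLcard, Nat.factorization_def _ Nat.prime_three,
      show (192 : ℕ) = 3 ^ 1 * 64 by norm_num, padicValNat.mul (by norm_num) (by norm_num),
      padicValNat.prime_pow, padicValNat.eq_zero_of_not_dvd (by norm_num)]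
    rfl
  have hXz : (X : Subgroup L) = Subgroup.zpowers w :=
    (Subgroup.eq_of_le_of_card_ge (Subgroup.zpowers_le.2 hwX) (by rw [hXcard, Nat.card_zpowers, hw])).symm
  have hfpf : ∀ q ∈ Q, (w : G) * q = q * w → q = 1 ∨ q = s := fun q hq hc => by
    have : q ∈ Subgroup.zpowers s := hCQX ▸ ⟨hq, by
      rw [hXz, MonoidHom.map_zpowers]
      refine Subgroup.mem_centralizer_iff.2 ?_
      rintro _ ⟨n, rfl⟩
      exact ((show Commute (w : G) q from hc).zpow_left n).eq⟩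
    obtain ⟨n, rfl⟩ := this
    rcases Int.even_or_odd n with ⟨m, rfl⟩ | ⟨m, rfl⟩
    · exact Or.inl (by show s ^ (m + m) = 1; rw [zpow_add, ← (Commute.refl s).mul_zpow, hss, one_zpow])
    · exact Or.inr (by show s ^ (2 * m + 1) = s; rw [zpow_add_one, zpow_mul, zpow_two, hss, one_zpow, one_mul])
  have hw3 : (w : G) * w * w = 1 := by
    have := pow_orderOf_eq_one w
    rw [hw] at this
    exact congrArg Subtype.val (by rwa [pow_succ, pow_two] at this : w * w * w = 1)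
  have hwQ : (w : G) ∉ Q := fun h => by
    have h1 := (orderOf_dvd_natCard (⟨w, h⟩ : Q))
    rw [Subgroup.orderOf_mk, Subgroup.orderOf_coe, hw, hQcard] at h1
    norm_num at h1
  have hπw : π w * π w * π w = 1 := by
    rw [← map_mul, ← map_mul, hker]; show (w : G) * w * w ∈ Q; rw [hw3]; exact Q.one_mem
  have hπw1 : π w ≠ 1 := fun h => hwQ ((hker w).1 h)
  obtain ⟨σ, hσ⟩ := perm_three_inv _ hπw
  obtain ⟨y₀, rfl⟩ : ∃ y, π y = σ := by
    obtain ⟨y, hy⟩ := QuotientGroup.mk'_surjective K (e.symm σ)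
    exact ⟨y, by show e _ = _; rw [hy, MulEquiv.apply_symm_apply]⟩
  have hd : (y₀ : G) * w * (y₀ : G)⁻¹ * w ∈ Q := by
    have := (hker (y₀ * w * y₀⁻¹ * w)).1 (by rw [map_mul, map_mul, map_mul, map_inv, hσ, inv_mul_cancel])
    exact this
  set d := (y₀ : G) * w * (y₀ : G)⁻¹ * w with hddef
  have hys : (y₀ : G) * w * (y₀ : G)⁻¹ = d * (w : G)⁻¹ := by rw [hddef]; group
  -- commutators with `w` cover half of `Q`
  have hws : (w : G) * s = s * w := (hcomm _).1 w.2
  have hwis : (w : G)⁻¹ * s = s * (w : G)⁻¹ := ((show Commute (w : G) s from hws).inv_left).eq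
  have hwq : ∀ q ∈ Q, (w : G)⁻¹ * q * w ∈ Q := fun q hq => by
    simpa using hnorm _ (L.inv_mem w.2) q hq
  have hsurj : ∀ p ∈ Q, ∃ q ∈ Q, q * ((w : G)⁻¹ * q⁻¹ * w) = p ∨ q * ((w : G)⁻¹ * q⁻¹ * w) = p * s := by
    have hinj : ∀ q ∈ Q, ∀ q' ∈ Q, q * ((w : G)⁻¹ * q⁻¹ * w) = q' * ((w : G)⁻¹ * q'⁻¹ * w) →
        q⁻¹ * q' = 1 ∨ q⁻¹ * q' = s := fun q hq q' hq' h => by
      refine hfpf _ (Q.mul_mem (Q.inv_mem hq) hq') ?_
      have h' : q⁻¹ * q' = (w : G)⁻¹ * (q⁻¹ * q') * w := by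
        calc q⁻¹ * q' = q⁻¹ * (q' * ((w : G)⁻¹ * q'⁻¹ * w)) * ((w : G)⁻¹ * q' * w) := by group
          _ = q⁻¹ * (q * ((w : G)⁻¹ * q⁻¹ * w)) * ((w : G)⁻¹ * q' * w) := by rw [h]
          _ = _ := by group
      calc (w : G) * (q⁻¹ * q') = w * ((w : G)⁻¹ * (q⁻¹ * q') * w) := by rw [← h']
        _ = _ := by group
    -- the products of a commutator by `s` are not commutators
    have hne : ∀ q ∈ Q, ∀ q' ∈ Q, q * ((w : G)⁻¹ * q⁻¹ * w) ≠ q' * ((w : G)⁻¹ * q'⁻¹ * w) * s := by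
      intro q hq q' hq' h
      have h3 : ∀ r : G, (r * ((w : G)⁻¹ * r⁻¹ * w) * (w : G)⁻¹) ^ 3 = 1 := fun r => by
        rw [show r * ((w : G)⁻¹ * r⁻¹ * w) * (w : G)⁻¹ = r * (w : G)⁻¹ * r⁻¹ by group, conj_pow, inv_pow, pow_succ,
          pow_two, hw3]
        group
      have e1 := h3 q
      rw [h, show q' * ((w : G)⁻¹ * q'⁻¹ * w) * s * (w : G)⁻¹ = q' * ((w : G)⁻¹ * q'⁻¹ * w) * (w : G)⁻¹ * s by
        rw [mul_assoc _ s, ← hwis, ← mul_assoc], (show Commute _ s from ?_).mul_pow, h3 q', one_mul] at e1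
      · exact hs1 (by rw [← e1, pow_succ, pow_two, hss, one_mul])
      · exact ((hcomm _).1 (L.mul_mem (L.mul_mem (hQL hq') (L.mul_mem (L.mul_mem (L.inv_mem w.2) (L.inv_mem (hQL hq'))) w.2))
          (L.inv_mem w.2)))
    intro p hp
    -- the commutators and their products by `s` exhaust `Q`
    let F : Q → Q := fun q => ⟨(q : G) * ((w : G)⁻¹ * (q : G)⁻¹ * w), Q.mul_mem q.2 (hwq _ (Q.inv_mem q.2))⟩
    let rep : Q → Q := fun q => (⟨q, rfl⟩ : ∃ r, F r = F q).choose
    have hrep : ∀ q, F (rep q) = F q := fun q => (⟨q, rfl⟩ : ∃ r, F r = F q).choose_spec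
    have hcongr : ∀ q q', F q = F q' → rep q = rep q' := fun q q' h => by simp only [rep, h]
    let Φ : Q → Q := fun q => if rep q = q then F q else F q * ⟨s, hsQ⟩
    have hΦ : Function.Injective Φ := fun q q' h => by
      have hF : ∀ a b : Q, F a = F b → (a : G) = b ∨ (b : G) = a * s := fun a b h => by
        rcases hinj a a.2 b b.2 (congrArg Subtype.val h) with e | e
        · exact Or.inl (inv_mul_eq_one.1 e)
        · exact Or.inr (inv_mul_eq_iff_eq_mul.1 e)
      simp only [Φ] at h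
      split_ifs at h with h1 h2 h2
      · rw [← h1, hcongr q q' h, h2]
      · exact absurd (congrArg Subtype.val h) (hne q q.2 q' q'.2)
      · exact absurd (congrArg Subtype.val h).symm (hne q' q'.2 q q.2)
      · have e := mul_right_cancel h
        rcases hF (rep q) q (hrep q) with a1 | a1
        · exact absurd (Subtype.ext a1) h1
        · rcases hF (rep q') q' (hrep q') with a2 | a2
          · exact absurd (Subtype.ext a2) h2
          · exact Subtype.ext (by rw [a1, a2, hcongr q q' e])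
    obtain ⟨q, hq⟩ := (Finite.injective_iff_surjective.1 hΦ) ⟨p, hp⟩
    simp only [Φ] at hq
    refine ⟨q, q.2, ?_⟩
    split_ifs at hq
    · exact Or.inl (congrArg Subtype.val hq)
    · refine Or.inr ?_
      have e : (F q : G) * s = p := congrArg Subtype.val hq
      rw [← e, mul_assoc (F q : G) s s, hss, mul_one]
  obtain ⟨q, hq, hqd⟩ := hsurj d hd
  -- the element inverting `w`
  set x := (w : G)
  have hxs : x * s = s * x := hws
  have hx2 : (y₀ : G) * x * (y₀ : G)⁻¹ = q * x⁻¹ * q⁻¹ := by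
    rw [hys]
    rcases hqd with e | e
    · rw [← e]; group
    · exfalso
      have h3 : ((y₀ : G) * x * (y₀ : G)⁻¹) ^ 3 = 1 := by rw [conj_pow, pow_succ, pow_two, hw3]; group
      have e2 : d * x⁻¹ = q * x⁻¹ * q⁻¹ * s := by
        have : d = q * (x⁻¹ * q⁻¹ * x) * s := by rw [e, mul_assoc, hss, mul_one]
        rw [this, mul_assoc _ s, ← hwis]; group
      rw [hys, e2, (show Commute _ s from ?_).mul_pow] at h3
      · rw [show (q * x⁻¹ * q⁻¹) ^ 3 = 1 by rw [conj_pow, inv_pow, pow_succ, pow_two, hw3]; group, one_mul] at h3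
        exact hs1 (by rw [← h3, pow_succ, pow_two, hss, one_mul])
      · exact (hcomm _).1 (L.mul_mem (L.mul_mem (hQL hq) (L.inv_mem w.2)) (L.inv_mem (hQL hq)))
  obtain ⟨j, hjdef⟩ : ∃ j, j = q⁻¹ * (y₀ : G) := ⟨_, rfl⟩
  have hjL : j ∈ L := hjdef ▸ L.mul_mem (L.inv_mem (hQL hq)) y₀.2
  have hjx : j * x * j⁻¹ = x⁻¹ := by
    rw [hjdef, show q⁻¹ * (y₀ : G) * x * (q⁻¹ * (y₀ : G))⁻¹ = q⁻¹ * ((y₀ : G) * x * (y₀ : G)⁻¹) * q by group, hx2]
    group
  have hπj : π ⟨j, hjL⟩ = π y₀ := by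
    have : (⟨j, hjL⟩ : L) = (⟨q, hQL hq⟩ : L)⁻¹ * y₀ := Subtype.ext hjdef
    rw [this, map_mul, map_inv, (hker _).2 hq, inv_one, one_mul]
  obtain ⟨f1, f2, f3, f4⟩ := perm_three_facts _ _ hπw hπw1 hσ
  have hjj : j * j = 1 ∨ j * j = s := by
    have hQ2 : j * j ∈ Q := by
      have := (hker (⟨j, hjL⟩ * ⟨j, hjL⟩)).1 (by rw [map_mul, hπj, f1])
      exact this
    refine hfpf _ hQ2 ?_
    have e : j * x = x⁻¹ * j := mul_inv_eq_iff_eq_mul.1 hjx
    have e' : j * x⁻¹ = x * j := mul_inv_eq_iff_eq_mul.1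
      (show j * x⁻¹ * j⁻¹ = x by rw [show j * x⁻¹ * j⁻¹ = (j * x * j⁻¹)⁻¹ by group, hjx, inv_inv])
    rw [mul_assoc, e, ← mul_assoc, ← mul_assoc, e', mul_assoc]
  have S : Shape s Q x j :=
    { s_mem := hsQ
      s_ne := hs1
      ss := hss
      center := fun g hg hc => by
        rcases (hz.center_iff ⟨g, hg⟩).1 (Subgroup.mem_center_iff.2 fun p => Subtype.ext (hc p p.2).symm) with h | h
        · exact Or.inl (congrArg Subtype.val h)
        · exact Or.inr ((congrArg Subtype.val h).trans hzs)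
      sq := fun g hg => by
        rcases hz.sq ⟨g, hg⟩ with h | h
        · exact Or.inl (congrArg Subtype.val h)
        · exact Or.inr ((congrArg Subtype.val h).trans hzs)
      cardQ := hQcard
      le := fun g hg => (hcomm g).1 (hQL hg)
      cs := ⟨hxs, (hcomm j).1 hjL⟩
      normX := hnorm _ w.2
      normJ := hnorm _ hjL
      x3 := hw3
      jx := hjx
      jj := hjj
      fpf := hfpf
      outside := by
        refine ⟨hwQ, fun h => f2 ?_, fun h => f3 ?_, fun h => f4 ?_⟩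
        · rw [← hπj]; exact (hker _).2 h
        · rw [← hπj, ← map_mul]; exact (hker (⟨j, hjL⟩ * w)).2 h
        · rw [← hπj, ← map_mul, ← map_mul]; exact (hker (⟨j, hjL⟩ * w * w)).2 h
      cover := by rw [← hL, hLcard] }
  obtain ⟨a, a', F, hcase⟩ := S.adapted
  let t : ℕ := if j * j = 1 then 0 else 1
  have ht : j * j = if t = 1 then s else 1 := by
    simp only [t]
    split_ifs with h h' h'
    · exact absurd h' (by norm_num)
    · exact h
    · exact hjj.resolve_left h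
    · exact absurd rfl h'
  have htlt : t < 2 := by simp only [t]; split_ifs <;> norm_num
  obtain ⟨k, hk, hkt, hj⟩ : ∃ k < 4, k % 2 = t ∧ ∀ g, g ∈ [8, 1] → qel s x a a' (qtau k g) = j * qel s x a a' g * j⁻¹ := by
    have e12 : qel s x a a' 12 = a * s := qel_gen.2.2.2.2.2.2.2.2.1
    have e5 : qel s x a a' 5 = a' * s := by rw [qel_gen.2.2.2.2.2.2.2.2.2, S.comm_s F.ha']
    rcases hcase with ⟨h1, h2⟩ | ⟨h1, h2⟩
    · have tt : ∀ t < 2, qtau t 8 = 12 ∧ qtau t 1 = 5 := by decide +kernel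
      refine ⟨t, by omega, Nat.mod_eq_of_lt htlt, fun g hg => ?_⟩
      simp only [List.mem_cons, List.not_mem_nil, or_false] at hg
      rcases hg with rfl | rfl
      · rw [(tt t htlt).1, e12, qel_gen.1, h1]
      · rw [(tt t htlt).2, e5, qel_gen.2.2.2.1, h2]
    · have tt : ∀ t < 2, qtau (2 + t) 8 = 5 ∧ qtau (2 + t) 1 = 12 := by decide +kernel
      refine ⟨2 + t, by omega, by omega, fun g hg => ?_⟩
      simp only [List.mem_cons, List.not_mem_nil, or_false] at hg
      rcases hg with rfl | rfl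
      · rw [(tt t htlt).1, e5, qel_gen.1, h1]
      · rw [(tt t htlt).2, e12, qel_gen.2.2.2.1, h2]
  refine ⟨k, _, F.dat S hk (hkt ▸ ht) hj, fun g => ⟨fun hg => ?_, ?_⟩⟩
  · obtain ⟨p, hp, hpe⟩ := F.q_surj S hg
    refine ⟨6 * p, by omega, by omega, ?_⟩
    rw [show 6 * p / 6 = p by omega, show 6 * p / 2 % 3 = 0 by omega, show 6 * p % 2 = 0 by omega]
    simpa using hpe
  · rintro ⟨n, hn, hn6, rfl⟩
    rw [show n / 2 % 3 = 0 by omega, show n % 2 = 0 by omega]
    simpa using F.q_mem S (n / 6) (by omega)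

end CfsgQS3
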