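import Cfsg.Agent.Lib.QS3.Basic

/-!
Groups with an involution centraliser `Q.S₃`: the Sylow subgroup `Q⟨j⟩`.
-/

set_option autoImplicit false
set_option maxRecDepth 100000
set_option linter.unusedSectionVars false

namespace CfsgQS3

/-- The codes of the Sylow subgroup. -/
def tCodes : List ℕ := codes.filter fun n => decide (n % 6 < 2)

theorem tCodes_facts : ∀ k < 4, (tCodes.all fun x => decide (x < 192) && decide (minv k x % 6 < 2) &&
    (tCodes.all fun y => decide (mmul k x y % 6 < 2)) &&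
    (x == 0 || x == 24 || tCodes.any fun y => mmul k x y != mmul k y x)) = true := by
  decide +kernel

theorem tCodes_card : tCodes.length = 64 := by decide +kernel

theorem mem_tCodes {n : ℕ} : n ∈ tCodes ↔ n < 192 ∧ n % 6 < 2 := by simp [tCodes, codes]

namespace Dat

variable {G : Type*} [Group G] {s : G} {k : ℕ} {φ : ℕ → G} (D : Dat s k φ)
include D

/-- The Sylow subgroup. -/
def T : Subgroup G where
  carrier := {g | ∃ x ∈ tCodes, φ x = g}
  one_mem' := ⟨0, by decide, D.one⟩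
  mul_mem' := by
    rintro _ _ ⟨x, hx, rfl⟩ ⟨y, hy, rfl⟩
    have h := List.all_eq_true.1 (tCodes_facts k D.type) x hx
    simp only [Bool.and_eq_true, List.all_eq_true, decide_eq_true_eq] at h
    exact ⟨mmul k x y, mem_tCodes.2 ⟨mmul_lt D.type (mem_tCodes.1 hx).1 (mem_tCodes.1 hy).1, h.1.2 y hy⟩, D.mul _ (mem_tCodes.1 hx).1 _ (mem_tCodes.1 hy).1⟩
  inv_mem' := by
    rintro _ ⟨x, hx, rfl⟩
    have h := List.all_eq_true.1 (tCodes_facts k D.type) x hx
    simp only [Bool.and_eq_true, decide_eq_true_eq] at h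
    exact ⟨minv k x, mem_tCodes.2 ⟨D.lt_inv (mem_tCodes.1 hx).1, h.1.1.2⟩, D.inv (mem_tCodes.1 hx).1⟩

theorem mem_T {g : G} : g ∈ D.T ↔ ∃ x ∈ tCodes, φ x = g := Iff.rfl

theorem T_le : D.T ≤ Subgroup.centralizer ({s} : Set G) := by
  rintro _ ⟨x, hx, rfl⟩
  exact Subgroup.mem_centralizer_singleton_iff.2 (D.comm_s (mem_tCodes.1 hx).1)

theorem card_T : Nat.card D.T = 64 := by
  classical
  have hnd : tCodes.Nodup := List.nodup_range.filter _
  refine (Nat.card_congr (Equiv.ofBijective (fun x : {x // x ∈ tCodes.toFinset} =>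
    (⟨φ x.1, x.1, List.mem_toFinset.1 x.2, rfl⟩ : D.T)) ⟨?_, ?_⟩)).symm.trans ?_
  · intro a b h
    exact Subtype.ext (D.inj _ (mem_tCodes.1 (List.mem_toFinset.1 a.2)).1 _ (mem_tCodes.1 (List.mem_toFinset.1 b.2)).1
      (congrArg Subtype.val h))
  · rintro ⟨g, x, hx, rfl⟩
    exact ⟨⟨x, List.mem_toFinset.2 hx⟩, rfl⟩
  · rw [Nat.card_eq_fintype_card, Fintype.card_coe, List.toFinset_card_of_nodup hnd, tCodes_card]

theorem card_cent : Nat.card (Subgroup.centralizer ({s} : Set G)) = 192 := by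
  refine (Nat.card_congr (Equiv.ofBijective (fun n : Fin 192 => (⟨φ n, Subgroup.mem_centralizer_singleton_iff.2
    (D.comm_s n.2)⟩ : Subgroup.centralizer ({s} : Set G))) ⟨?_, ?_⟩)).symm.trans (Nat.card_fin 192)
  · intro a b e; exact Fin.ext (D.inj _ a.2 _ b.2 (congrArg Subtype.val e))
  · rintro ⟨g, hg⟩
    obtain ⟨n, hn, rfl⟩ := (D.cent g).1 (Subgroup.mem_centralizer_singleton_iff.1 hg)
    exact ⟨⟨n, hn⟩, rfl⟩

section Fin

variable [Finite G]

theorem isPGroup_T : IsPGroup 2 D.T := IsPGroup.of_card (n := 6) (by rw [D.card_T]; norm_num)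

theorem card_two_le {P : Subgroup G} (hP : IsPGroup 2 P) (hle : P ≤ Subgroup.centralizer ({s} : Set G)) :
    Nat.card P ≤ 64 := by
  haveI : Fact (Nat.Prime 2) := ⟨Nat.prime_two⟩
  obtain ⟨e, he⟩ := IsPGroup.iff_card.1 hP
  have hd : 2 ^ e ∣ 2 ^ 6 * 3 := by
    rw [← he, show 2 ^ 6 * 3 = Nat.card (Subgroup.centralizer ({s} : Set G)) by rw [D.card_cent]; norm_num]
    exact Subgroup.card_dvd_of_le hle
  have h : 2 ^ e ∣ 2 ^ 6 := (Nat.Coprime.pow_left e (by norm_num : Nat.Coprime 2 3)).dvd_of_dvd_mul_right hd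
  rw [he]
  exact Nat.le_of_dvd (by norm_num) h

theorem central_T {g : G} (hg : g ∈ D.T) (hc : ∀ x ∈ D.T, g * x = x * g) : g = 1 ∨ g = s := by
  obtain ⟨x, hx, rfl⟩ := hg
  have h := List.all_eq_true.1 (tCodes_facts k D.type) x hx
  simp only [Bool.and_eq_true, Bool.or_eq_true, beq_iff_eq, List.any_eq_true, bne_iff_ne, ne_eq] at h
  rcases h.2 with (h | h) | ⟨y, hy, hne⟩
  · exact Or.inl (h ▸ D.one)
  · exact Or.inr (h ▸ D.zc)
  · exact absurd ((D.commute_iff (mem_tCodes.1 hx).1 (mem_tCodes.1 hy).1).1 (hc _ ⟨y, hy, rfl⟩)) hne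

theorem T_normalizer {n : G} (hn : ∀ x, x ∈ D.T ↔ n * x * n⁻¹ ∈ D.T) : n * s * n⁻¹ = s := by
  have hsT : s ∈ D.T := ⟨24, by decide, D.zc⟩
  have hc : ∀ x ∈ D.T, n * s * n⁻¹ * x = x * (n * s * n⁻¹) := fun x hx => by
    have hy : n⁻¹ * x * n ∈ D.T := (hn _).2 (by rwa [show n * (n⁻¹ * x * n) * n⁻¹ = x by group])
    have hy' := Subgroup.mem_centralizer_singleton_iff.1 (D.T_le hy)
    calc n * s * n⁻¹ * x = n * (s * (n⁻¹ * x * n)) * n⁻¹ := by group
      _ = n * ((n⁻¹ * x * n) * s) * n⁻¹ := by rw [hy']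
      _ = x * (n * s * n⁻¹) := by group
  rcases D.central_T ((hn s).1 hsT) hc with h | h
  · exact absurd (by calc s = n⁻¹ * (n * s * n⁻¹) * n := by group
      _ = 1 := by rw [h]; group) D.s_ne
  · exact h

theorem T_maximal {P : Subgroup G} (hP : IsPGroup 2 P) (hle : D.T ≤ P) : P = D.T := by
  haveI : Fact (Nat.Prime 2) := ⟨Nat.prime_two⟩
  by_contra hne
  have hlt : D.T.subgroupOf P < ⊤ := by
    refine lt_top_iff_ne_top.2 fun h => hne (le_antisymm ?_ hle)
    exact Subgroup.subgroupOf_eq_top.1 h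
  haveI := hP.isNilpotent
  have hN := Group.normalizerCondition_of_isNilpotent (D.T.subgroupOf P) hlt
  obtain ⟨n, hn, hnT⟩ := SetLike.exists_of_lt hN
  have hnorm : ∀ x, x ∈ D.T ↔ (n : G) * x * (n : G)⁻¹ ∈ D.T := by
    intro x
    rw [Subgroup.mem_normalizer_iff] at hn
    by_cases hx : x ∈ P
    · exact hn ⟨x, hx⟩
    · exact ⟨fun h => absurd (hle h) hx, fun h => absurd (by
        have := P.mul_mem (P.mul_mem (P.inv_mem n.2) (hle h)) n.2
        rwa [show (n : G)⁻¹ * ((n : G) * x * (n : G)⁻¹) * n = x by group] at this) hx⟩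
  have hnC : (n : G) ∈ Subgroup.centralizer ({s} : Set G) :=
    Subgroup.mem_centralizer_singleton_iff.2 (mul_inv_eq_iff_eq_mul.1 (D.T_normalizer hnorm))
  have hlt' : D.T < P ⊓ Subgroup.centralizer ({s} : Set G) :=
    lt_of_le_of_ne (le_inf hle D.T_le) fun h => hnT (show (n : G) ∈ D.T from h ▸ ⟨n.2, hnC⟩)
  have h1 := D.card_two_le (hP.to_le inf_le_left) (inf_le_right (a := P))
  have h2 : Nat.card D.T < Nat.card (P ⊓ Subgroup.centralizer ({s} : Set G) : Subgroup G) :=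
    lt_of_le_of_ne (Subgroup.card_le_of_le hlt'.le) fun h => hlt'.ne (Subgroup.eq_of_le_of_card_ge hlt'.le h.ge)
  rw [D.card_T] at h2
  omega

/-- The Sylow subgroup. -/
def sylow : Sylow 2 G :=
  { D.T with isPGroup' := D.isPGroup_T, is_maximal' := fun h1 h2 => D.T_maximal h1 h2 }

/-- Every 2-subgroup is conjugate into the Sylow subgroup. -/
theorem conj_into_T {P : Subgroup G} (hP : IsPGroup 2 P) : ∃ c : G, ∀ x ∈ P, c * x * c⁻¹ ∈ D.T := by
  haveI : Fact (Nat.Prime 2) := ⟨Nat.prime_two⟩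
  obtain ⟨Q, hQ⟩ := IsPGroup.exists_le_sylow hP
  obtain ⟨c, hc⟩ := MulAction.exists_smul_eq G Q D.sylow
  refine ⟨c, fun x hx => ?_⟩
  have : c * x * c⁻¹ ∈ D.sylow := by
    rw [← hc]
    exact Subgroup.smul_mem_pointwise_smul _ (MulAut.conj c) _ (hQ hx)
  exact this

/-- Every involution is conjugate to one in the Sylow subgroup. -/
theorem invol_into_T {t : G} (ht : t * t = 1) : ∃ c : G, ∃ x ∈ tCodes, φ x = c * t * c⁻¹ := by
  obtain ⟨c, hc⟩ := D.conj_into_T (P := Subgroup.zpowers t) (fun g => ⟨1, by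
    obtain ⟨g, n, rfl⟩ := g
    ext
    show (t ^ n) ^ (2 ^ 1) = 1
    rw [← zpow_natCast, ← zpow_mul, mul_comm, zpow_mul, show ((2 ^ 1 : ℕ) : ℤ) = 2 from rfl, zpow_two, ht, one_zpow]⟩)
  exact ⟨c, hc t (Subgroup.mem_zpowers t)⟩

end Fin

end Dat

end CfsgQS3
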