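import Cfsg.Agent.Lib.QS3.Auto
import Cfsg.Agent.Lib.QS3.Sylow

/-!
Groups with an involution centraliser `Q.S₃`: two classes of four groups in the type exchanging the factors.
-/

set_option autoImplicit false
set_option maxRecDepth 100000
set_option linter.unusedSectionVars false

namespace CfsgQS3

/-- The action on the subgroup of order sixteen given on codes. -/
def actA (f : ℕ → ℕ) : List ℕ := aCodes.map fun a => aCodes.idxOf (f a)

/-- The action on the subgroup of order sixteen of an option of a row. -/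
def optA (R : Row) (ys : List ℕ) : List ℕ := actA (fap R ys)

/-- Composition. -/
def compA (f g : List ℕ) : List ℕ := g.map fun i => f.getD i 0

/-- The action of a word in the given actions. -/
def wordA (ps : List (List ℕ)) (w : List ℕ) : List ℕ :=
  w.foldr (fun i q => compA (ps.getD i []) q) (List.range 16)

/-- The actions of the normaliser in the centraliser. -/
def normA : List (List ℕ) := aNorm.map fun g => actA (mconj 2 g)

/-- The word gives an action of order four. -/
def four (ps : List (List ℕ)) (w : List ℕ) : Bool :=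
  (w.all fun i => decide (i < ps.length)) && wordA ps (w ++ w) != List.range 16 &&
    wordA ps (w ++ w ++ (w ++ w)) == List.range 16

theorem aCodes_facts : aCodes.length = 16 ∧ (aCodes.all fun a => decide (a < 192) && tCodes.contains a &&
    mmul 2 a a == 0 && (aCodes.all fun b => aCodes.contains (mmul 2 a b) && mmul 2 a b == mmul 2 b a) &&
    row2.cen.contains a && row3.cen.contains a && row4.cen.contains a) = true ∧ aCodes.Nodup ∧
    (tCodes.all fun t => aCodes.contains (mmul 2 t t)) = true ∧
    (aNorm.all fun g => decide (g < 192) && aCodes.all fun a => aCodes.contains (mconj 2 g a)) = true := by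
  decide +kernel

theorem few_commuting : (tCodes.all fun x => mmul 2 x x != 0 || aCodes.contains x ||
    decide ((tCodes.filter fun y => mmul 2 y y == 0 && mmul 2 x y == mmul 2 y x).length < 16)) = true := by
  decide +kernel

theorem optA_perm : ([row2, row3, row4].all fun R => R.opts.all fun ys => aCodes.all fun a =>
    aCodes.contains (fap R ys a)) = true := by decide +kernel

theorem pair_four : ((List.range 16).all fun a => (List.range 16).all fun b =>
    let f := optA row2 (row2.opts.getD a [])
    let g := optA row3 (row3.opts.getD b [])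
    compA f g == compA g f || four (f :: g :: normA) (wordPair.getD (16 * a + b) [])) = true := by decide +kernel

theorem pair_norm : ((List.range 16).all fun a => (List.range 16).all fun b =>
    let ya := row2.opts.getD a []
    let yb := row3.opts.getD b []
    compA (optA row2 ya) (optA row3 yb) != compA (optA row3 yb) (optA row2 ya) ||
      (let c := normPair.getD (16 * a + b) []
      let σ := autFix.getD (c.getD 0 0) []
      decide (c.getD 0 0 < 16) && decide (c.getD 1 0 < 2) && aut σ row2.r == row2.r && aut σ row3.r == row3.r &&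
        (row2.opts.all fun ys => ys == row2.opts.getD 0 [] || row2.gens.any fun g =>
          aut σ (fap row2 ys g) != fap row2 ya (aut σ g)) &&
        (row2.gens.all fun g => row2.cen.contains (aut σ g)) && (row3.gens.all fun g => row3.cen.contains (aut σ g)) &&
        (row3.opts.all fun ys => ys == row3.opts.getD (c.getD 1 0) [] || row3.gens.any fun g =>
          aut σ (fap row3 ys g) != fap row3 yb (aut σ g)))) = true := by decide +kernel

theorem third_four : ([0, 1].all fun c => (List.range 16).all fun e =>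
    four (optA row2 (row2.opts.getD 0 []) :: optA row3 (row3.opts.getD c []) :: optA row4 (row4.opts.getD e []) :: normA)
      ((wordThird.getD c []).getD e [])) = true := by decide +kernel

/-- For commuting actions some conjugate by an element of `A` repairs the commutator. -/
theorem comm_repair : ((List.range 16).all fun a => (List.range 16).all fun b =>
    let f := optA row2 (row2.opts.getD a [])
    let g := optA row3 (row3.opts.getD b [])
    compA f g != compA g f || (List.range 16).all fun v => (List.range 16).any fun u =>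
      mmul 2 (mmul 2 (aCodes.getD (f.getD u 0) 0) (aCodes.getD v 0)) (aCodes.getD (g.getD (f.getD u 0) 0) 0) ==
        mmul 2 (aCodes.getD u 0) (aCodes.getD (g.getD u 0) 0)) = true := by decide +kernel

/-- The subgroup of order sixteen is its own centraliser in the centraliser of `s`. -/
theorem aCodes_self : (codes.all fun x => aCodes.contains x || aCodes.any fun a => mmul 2 x a != mmul 2 a x) = true := by
  decide +kernel

namespace Dat

variable {G : Type*} [Group G] {s : G} {φ : ℕ → G} (D : Dat s 2 φ)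
include D

/-- An element with the given action on the subgroup of order sixteen. -/
def RelA (_ : Dat s 2 φ) (g : G) (p : List ℕ) : Prop :=
  p.length = 16 ∧ ∀ i < 16, p.getD i 0 < 16 ∧ g * φ (aCodes.getD i 0) * g⁻¹ = φ (aCodes.getD (p.getD i 0) 0)

theorem aCode_mem {i : ℕ} (hi : i < 16) : aCodes.getD i 0 ∈ aCodes := by
  rw [List.getD_eq_getElem?_getD, List.getElem?_eq_getElem (aCodes_facts.1.symm ▸ hi)]
  exact List.getElem_mem _

theorem aCode_idx {a : ℕ} (ha : a ∈ aCodes) : aCodes.idxOf a < 16 ∧ aCodes.getD (aCodes.idxOf a) 0 = a := by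
  have h := List.idxOf_lt_length_iff.2 ha
  refine ⟨aCodes_facts.1 ▸ h, ?_⟩
  rw [List.getD_eq_getElem?_getD, List.getElem?_eq_getElem h, Option.getD_some, List.getElem_idxOf]

theorem relA_of {g : G} {f : ℕ → ℕ} (h : ∀ a ∈ aCodes, f a ∈ aCodes ∧ g * φ a * g⁻¹ = φ (f a)) :
    RelA D g (actA f) := by
  refine ⟨by simp [actA, aCodes_facts.1], fun i hi => ?_⟩
  obtain ⟨h1, h2⟩ := h _ (D.aCode_mem hi)
  obtain ⟨l, e⟩ := D.aCode_idx h1
  have ep : (actA f).getD i 0 = aCodes.idxOf (f (aCodes.getD i 0)) := by
    rw [List.getD_eq_getElem?_getD, List.getElem?_eq_getElem (by simp [actA, aCodes_facts.1, hi])]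
    simp [actA, List.getD_eq_getElem?_getD, List.getElem?_eq_getElem (show i < aCodes.length by rw [aCodes_facts.1]; exact hi)]
  rw [ep, e, h2]
  exact ⟨l, rfl⟩

theorem relA_one : RelA D 1 (List.range 16) := by
  refine ⟨by simp, fun i hi => ?_⟩
  have : (List.range 16).getD i 0 = i := by
    rw [List.getD_eq_getElem?_getD, List.getElem?_eq_getElem (by simpa using hi)]; simp
  rw [this]
  exact ⟨hi, by group⟩

theorem relA_mul {g h : G} {p q : List ℕ} (hg : RelA D g p) (hh : RelA D h q) : RelA D (g * h) (compA p q) := by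
  refine ⟨by simp [compA, hh.1], fun i hi => ?_⟩
  obtain ⟨l1, e1⟩ := hh.2 i hi
  obtain ⟨l2, e2⟩ := hg.2 _ l1
  have : (compA p q).getD i 0 = p.getD (q.getD i 0) 0 := by
    rw [List.getD_eq_getElem?_getD, List.getElem?_eq_getElem (by simp [compA, hh.1, hi])]
    simp [compA, List.getD_eq_getElem?_getD, List.getElem?_eq_getElem (show i < q.length by rw [hh.1]; exact hi)]
  rw [this]
  refine ⟨l2, ?_⟩
  rw [show g * h * φ (aCodes.getD i 0) * (g * h)⁻¹ = g * (h * φ (aCodes.getD i 0) * h⁻¹) * g⁻¹ by group, e1, e2]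

theorem relA_unique {g : G} {p q : List ℕ} (hp : RelA D g p) (hq : RelA D g q) : p = q := by
  refine List.ext_getElem (hp.1.trans hq.1.symm) fun i h1 h2 => ?_
  have hi : i < 16 := hp.1 ▸ h1
  obtain ⟨l1, e1⟩ := hp.2 i hi
  obtain ⟨l2, e2⟩ := hq.2 i hi
  have hlt : ∀ j < 16, aCodes.getD j 0 < 192 := by decide +kernel
  have hinj : ∀ j < 16, ∀ l < 16, aCodes.getD j 0 = aCodes.getD l 0 → j = l := by decide +kernel
  have := hinj _ l1 _ l2 (D.inj _ (hlt _ l1) _ (hlt _ l2) (e1.symm.trans e2))
  rwa [List.getD_eq_getElem?_getD, List.getElem?_eq_getElem h1, List.getD_eq_getElem?_getD,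
    List.getElem?_eq_getElem h2] at this

theorem relA_word {gs : List G} {ps : List (List ℕ)} (h : ∀ i < ps.length, RelA D (gs.getD i 1) (ps.getD i []))
    (w : List ℕ) (hw : ∀ i ∈ w, i < ps.length) : RelA D (w.map fun i => gs.getD i 1).prod (wordA ps w) := by
  induction w with
  | nil => simpa [wordA] using D.relA_one
  | cons i w ih =>
    rw [List.map_cons, List.prod_cons]
    exact D.relA_mul (h i (hw i List.mem_cons_self)) (ih fun j hj => hw j (List.mem_cons_of_mem _ hj))

theorem relA_norm {g : ℕ} (hg : g ∈ aNorm) : RelA D (φ g) (actA (mconj 2 g)) := by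
  have h := List.all_eq_true.1 aCodes_facts.2.2.2.2 g hg
  simp only [Bool.and_eq_true, decide_eq_true_eq, List.all_eq_true, List.contains_iff_mem] at h
  refine D.relA_of fun a ha => ⟨h.2 a ha, ?_⟩
  have ha' : a < 192 := (by decide : ∀ a ∈ aCodes, a < 192) a ha
  rw [D.conj h.1 ha']

theorem relA_act {R : Row} (hR : R ∈ [row2, row3, row4]) {ys : List ℕ} {α : G} (hA : Act s φ R ys α) :
    RelA D α (optA R ys) := by
  refine D.relA_of fun a ha => ?_
  have h := List.all_eq_true.1 aCodes_facts.2.1 a ha
  simp only [Bool.and_eq_true, List.contains_iff_mem] at h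
  have hcen : a ∈ R.cen := by
    simp only [List.mem_cons, List.not_mem_nil, or_false] at hR
    rcases hR with rfl | rfl | rfl
    exacts [h.1.1.2, h.1.2, h.2]
  exact ⟨List.contains_iff_mem.1 (List.all_eq_true.1 (List.all_eq_true.1 (List.all_eq_true.1 optA_perm R hR) ys hA.mem) a
    ha), hA.act a hcen⟩

/-- The subgroup of order sixteen. -/
def A : Subgroup G where
  carrier := {g | ∃ a ∈ aCodes, φ a = g}
  one_mem' := ⟨0, by decide, D.one⟩
  mul_mem' := by
    rintro _ _ ⟨a, ha, rfl⟩ ⟨b, hb, rfl⟩
    have h := List.all_eq_true.1 aCodes_facts.2.1 a ha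
    simp only [Bool.and_eq_true, List.all_eq_true, List.contains_iff_mem, decide_eq_true_eq] at h
    exact ⟨_, (h.1.1.1.2 b hb).1, D.mul _ h.1.1.1.1.1.1 _ ((by decide : ∀ a ∈ aCodes, a < 192) b hb)⟩
  inv_mem' := by
    rintro _ ⟨a, ha, rfl⟩
    have h : ∀ a ∈ aCodes, a < 192 ∧ mmul 2 a a = 0 := by decide +kernel
    exact ⟨a, ha, eq_inv_of_mul_eq_one_left ((D.sq_iff (h a ha).1).2 (h a ha).2)⟩

theorem card_A : Nat.card D.A = 16 := by
  classical
  refine (Nat.card_congr (Equiv.ofBijective (fun x : {x // x ∈ aCodes.toFinset} =>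
    (⟨φ x.1, x.1, List.mem_toFinset.1 x.2, rfl⟩ : D.A)) ⟨?_, ?_⟩)).symm.trans ?_
  · intro a b h
    have hlt : ∀ a ∈ aCodes, a < 192 := by decide
    exact Subtype.ext (D.inj _ (hlt _ (List.mem_toFinset.1 a.2)) _ (hlt _ (List.mem_toFinset.1 b.2))
      (congrArg Subtype.val h))
  · rintro ⟨g, x, hx, rfl⟩
    exact ⟨⟨x, List.mem_toFinset.2 hx⟩, rfl⟩
  · rw [Nat.card_eq_fintype_card, Fintype.card_coe, List.toFinset_card_of_nodup aCodes_facts.2.2.1, aCodes_facts.1]

theorem A_le_T : D.A ≤ D.T := by
  rintro _ ⟨a, ha, rfl⟩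
  exact ⟨a, (by decide : ∀ a ∈ aCodes, a ∈ tCodes) a ha, rfl⟩

theorem A_comm {x y : G} (hx : x ∈ D.A) (hy : y ∈ D.A) : x * y = y * x := by
  obtain ⟨a, ha, rfl⟩ := hx
  obtain ⟨b, hb, rfl⟩ := hy
  have h : ∀ a ∈ aCodes, ∀ b ∈ aCodes, a < 192 ∧ mmul 2 a b = mmul 2 b a := by decide +kernel
  exact (D.commute_iff (h a ha b hb).1 (h b hb a ha).1).2 (h a ha b hb).2

section Fin

variable [Finite G]

/-- A 2-element normalising the subgroup of order sixteen has its square centralising it. -/
theorem sq_centralizes {g : G} (hg : ∀ a ∈ D.A, g * a * g⁻¹ ∈ D.A) (h2 : ∃ e, orderOf g = 2 ^ e) :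
    ∀ a ∈ D.A, g * g * a = a * (g * g) := by
  classical
  haveI : Fact (Nat.Prime 2) := ⟨Nat.prime_two⟩
  have hnorm : g ∈ Subgroup.normalizer (D.A : Set G) := by
    rw [Subgroup.mem_normalizer_iff]
    have hb : Function.Bijective (fun a : D.A => (⟨g * a * g⁻¹, hg a a.2⟩ : D.A)) :=
      (Nat.bijective_iff_injective_and_card _).2 ⟨fun a b e => Subtype.ext
        (mul_left_cancel (mul_right_cancel (congrArg Subtype.val e))), rfl⟩
    refine fun a => ⟨hg a, fun h => ?_⟩
    obtain ⟨b, e⟩ := hb.2 ⟨_, h⟩
    exact (mul_left_cancel (mul_right_cancel (congrArg Subtype.val e : g * (b : G) * g⁻¹ = g * a * g⁻¹))) ▸ b.2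
  have hP : IsPGroup 2 ↥(Subgroup.zpowers g ⊔ D.A) := by
    obtain ⟨e, he⟩ := h2
    refine IsPGroup.to_sup_of_normal_right' ?_ (D.isPGroup_T.to_le D.A_le_T) (Subgroup.zpowers_le.2 hnorm)
    exact IsPGroup.of_card (n := e) (by rw [Nat.card_zpowers, he])
  obtain ⟨c, hc⟩ := D.conj_into_T hP
  -- conjugation carries `A` to itself
  have hAA : ∀ a ∈ D.A, c * a * c⁻¹ ∈ D.A := by
    intro x hx
    obtain ⟨a, ha, he⟩ := hc x (le_sup_right (a := Subgroup.zpowers g) hx)
    have hxx : x * x = 1 := by
      obtain ⟨b, hb, rfl⟩ := hx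
      have h : ∀ a ∈ aCodes, a < 192 ∧ mmul 2 a a = 0 := by decide +kernel
      exact (D.sq_iff (h b hb).1).2 (h b hb).2
    have haa : mmul 2 a a = 0 := (D.sq_iff (mem_tCodes.1 ha).1).1 (by
      rw [he, show c * x * c⁻¹ * (c * x * c⁻¹) = c * (x * x) * c⁻¹ by group, hxx]; group)
    have h := List.all_eq_true.1 few_commuting a ha
    simp only [haa, bne_self_eq_false, Bool.false_or, Bool.or_eq_true, decide_eq_true_eq, List.contains_iff_mem] at h
    rcases h with h | h
    · exact ⟨a, h, he⟩
    · exfalso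
      set L := tCodes.filter fun y => mmul 2 y y == 0 && mmul 2 a y == mmul 2 y a with hL
      choose f hf hf' using fun y : D.A => hc y (le_sup_right (a := Subgroup.zpowers g) y.2)
      have hmem : ∀ y : D.A, f y ∈ L.toFinset := fun y => by
        rw [List.mem_toFinset, hL, List.mem_filter, Bool.and_eq_true, beq_iff_eq, beq_iff_eq,
          ← D.sq_iff (mem_tCodes.1 (hf y)).1, ← D.commute_iff (mem_tCodes.1 ha).1 (mem_tCodes.1 (hf y)).1, hf' y, he]
        refine ⟨hf y, ?_, ?_⟩
        · obtain ⟨b, hb, hb'⟩ := y.2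
          have h : ∀ a ∈ aCodes, a < 192 ∧ mmul 2 a a = 0 := by decide +kernel
          have := (D.sq_iff (h b hb).1).2 (h b hb).2
          rw [hb'] at this
          rw [show c * y * c⁻¹ * (c * y * c⁻¹) = c * ((y : G) * y) * c⁻¹ by group, this]; group
        · calc c * x * c⁻¹ * (c * y * c⁻¹) = c * (x * y) * c⁻¹ := by group
            _ = c * (y * x) * c⁻¹ := by rw [D.A_comm hx y.2]
            _ = c * y * c⁻¹ * (c * x * c⁻¹) := by group
      have h16 : Nat.card D.A ≤ Nat.card {q // q ∈ L.toFinset} :=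
        Nat.card_le_card_of_injective (fun y => ⟨f y, hmem y⟩) fun y y' hy => Subtype.ext
          (mul_left_cancel (mul_right_cancel (show c * (y : G) * c⁻¹ = c * y' * c⁻¹ by
            rw [← hf' y, ← hf' y', show f y = f y' from congrArg Subtype.val hy])))
      rw [D.card_A, Nat.card_eq_fintype_card, Fintype.card_coe] at h16
      have := L.toFinset_card_le
      omega
  obtain ⟨t, ht, et⟩ := hc g (le_sup_left (b := D.A) (Subgroup.mem_zpowers g))
  intro a ha
  have hsqA : φ t * φ t ∈ D.A := by
    have hlt := (mem_tCodes.1 ht).1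
    exact ⟨mmul 2 t t, List.contains_iff_mem.1 (List.all_eq_true.1 aCodes_facts.2.2.2.1 t ht), D.mul _ hlt _ hlt⟩
  have := D.A_comm hsqA (hAA a ha)
  rw [et] at this
  calc g * g * a = c⁻¹ * (c * g * c⁻¹ * (c * g * c⁻¹) * (c * a * c⁻¹)) * c := by group
    _ = c⁻¹ * (c * a * c⁻¹ * (c * g * c⁻¹ * (c * g * c⁻¹))) * c := by rw [this]
    _ = a * (g * g) := by group

/-- No word in normalising elements acts with order four. -/
theorem no_four {gs : List G} {ps : List (List ℕ)} (h : ∀ i < ps.length, RelA D (gs.getD i 1) (ps.getD i []))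
    {w : List ℕ} (hw : four ps w = true) : False := by
  simp only [four, Bool.and_eq_true, List.all_eq_true, decide_eq_true_eq, bne_iff_ne, ne_eq, beq_iff_eq] at hw
  obtain ⟨⟨hlt, hne⟩, h4⟩ := hw
  set v := (w.map fun i => gs.getD i 1).prod
  have hpow : ∀ n : ℕ, RelA D (v ^ n) (wordA ps (List.replicate n w).flatten) ∧
      ∀ i ∈ (List.replicate n w).flatten, i < ps.length := by
    intro n
    refine ⟨?_, fun i hi => ?_⟩
    · have := D.relA_word h (List.replicate n w).flatten (fun i hi => by
        obtain ⟨l, hl, hil⟩ := List.mem_flatten.1 hi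
        exact hlt i ((List.eq_of_mem_replicate hl) ▸ hil))
      rw [List.map_flatten, List.map_replicate, List.prod_flatten, List.map_replicate, List.prod_replicate] at this
      exact this
    · obtain ⟨l, hl, hil⟩ := List.mem_flatten.1 hi
      exact hlt i ((List.eq_of_mem_replicate hl) ▸ hil)
  obtain ⟨e, l, hl, hol⟩ := Nat.exists_eq_pow_mul_and_not_dvd (orderOf_pos v).ne' 2 (by norm_num)
  have hg2 : orderOf (v ^ l) = 2 ^ e := by
    have hl0 : l ≠ 0 := fun h0 => hl (h0 ▸ dvd_zero 2)
    rw [orderOf_pow_of_dvd hl0 (hol ▸ dvd_mul_left l (2 ^ e)), hol, Nat.mul_div_cancel _ (Nat.pos_of_ne_zero hl0)]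
  have hnorm : ∀ a ∈ D.A, v ^ l * a * (v ^ l)⁻¹ ∈ D.A := by
    rintro _ ⟨a, ha, rfl⟩
    obtain ⟨l1, e1⟩ := D.aCode_idx ha
    obtain ⟨l2, e2⟩ := (hpow l).1.2 _ l1
    rw [e1] at e2
    exact ⟨_, D.aCode_mem l2, e2.symm⟩
  have hc := D.sq_centralizes hnorm ⟨e, hg2⟩
  have hid : RelA D (v ^ (2 * l)) (List.range 16) := by
    refine ⟨by simp, fun i hi => ?_⟩
    have hr : (List.range 16).getD i 0 = i := by
      rw [List.getD_eq_getElem?_getD, List.getElem?_eq_getElem (by simpa using hi)]; simp
    rw [hr]
    refine ⟨hi, ?_⟩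
    rw [two_mul, pow_add, hc _ ⟨_, D.aCode_mem hi, rfl⟩, mul_inv_cancel_right]
  have hfour : RelA D (v ^ 4) (List.range 16) := by
    have := (hpow 4).1
    rwa [show (List.replicate 4 w).flatten = w ++ w ++ (w ++ w) by simp [List.replicate_succ], h4] at this
  obtain ⟨m, rfl⟩ : Odd l := Nat.odd_iff.2 (by omega)
  have hone : ∀ n : ℕ, RelA D ((v ^ 4) ^ n) (List.range 16) := by
    intro n
    induction n with
    | zero => simpa using D.relA_one
    | succ n ih =>
      rw [pow_succ]
      have := D.relA_mul ih hfour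
      rwa [show compA (List.range 16) (List.range 16) = List.range 16 by decide] at this
  have h2 := (hpow 2).1
  rw [show (List.replicate 2 w).flatten = w ++ w by simp [List.replicate_succ]] at h2
  have h3 := D.relA_mul h2 (hone m)
  rw [← pow_mul, ← pow_add, show 2 + 4 * m = 2 * (2 * m + 1) by ring] at h3
  have := D.relA_unique h3 hid
  refine hne ?_
  have hcomp : ∀ p : List ℕ, p.length = 16 → compA p (List.range 16) = p := fun p hp => by
    refine List.ext_getElem (by simp [compA, hp]) fun i h1 h2 => ?_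
    simp [compA, List.getD_eq_getElem?_getD, List.getElem?_eq_getElem h2]
  rwa [hcomp _ h2.1] at this

end Fin

end Dat

end CfsgQS3
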