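import Cfsg.Agent.Lib.QS3.A8
import Cfsg.Agent.Lib.QS3.Split.Nine

/-!
Groups with an involution centraliser `Q.S₃`: the type exchanging the factors.
-/

set_option autoImplicit false
set_option maxRecDepth 100000
set_option linter.unusedSectionVars false

namespace CfsgQS3

open Equiv

theorem psi_even : (codes.all fun x => decide (Perm.sign (psi x) = 1)) = true := by decide +kernel

/-- The permutation moving the coordinates to the standard ones. -/
def cP : Perm (Fin 8) :=
  ⟨![4, 5, 0, 1, 2, 3, 6, 7], ![2, 3, 4, 5, 0, 1, 6, 7], by decide, by decide⟩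

theorem cP_facts : Perm.sign cP = 1 ∧ cP⁻¹ * Split.zP * cP = psi 24 ∧ cP⁻¹ * Split.tP * cP = psi 156 := by
  decide +kernel

namespace Dat

variable {G : Type*} [Group G] [Finite G] {s : G} {φ : ℕ → G} (D : Dat s 2 φ)
include D

/-- A standard pair gives the alternating group of degree eight or nine. -/
theorem pair_case {α β : G} {c : ℕ} (hc : c < 2) (hA : Act s φ row2 (row2.opts.getD 0 []) α)
    (hB : Act s φ row3 (row3.opts.getD c []) β) (hcomm : α * β = β * α) (h156 : ¬ InU s φ 156) :
    Nonempty (G ≃* alternatingGroup (Fin 8)) ∨ Nonempty (G ≃* alternatingGroup (Fin 9)) := by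
  obtain ⟨-, hrel⟩ := D.pair_rels hc hA hB hcomm
  obtain ⟨ι, hinj, hψ, -, -⟩ := D.exists_embedding hA.conj_s hrel
  obtain ⟨hev, e24, e156⟩ := cP_facts
  let c8 : Split.A8 := Split.el cP hev
  let ι' : Split.A8 →* G := ι.comp (MulAut.conj c8⁻¹).toMonoidHom
  have hι' : ∀ a, ι' a = ι (c8⁻¹ * a * c8) := fun a => by simp [ι']
  have hsign : ∀ x < 192, Perm.sign (psi x) = 1 := fun x hx => decide_eq_true_iff.1 (all_codes psi_even hx)
  have hval : ∀ (x : ℕ) (_ : x < 192) (a : Split.A8), cP⁻¹ * (a : Perm (Fin 8)) * cP = psi x → ι' a = φ x := by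
    intro x hx a e
    rw [hι', show c8⁻¹ * a * c8 = ⟨psi x, Perm.mem_alternatingGroup.2 (hsign x hx)⟩ from Subtype.ext e]
    exact hψ x hx _
  have hz : ι' Split.zA = s := by rw [hval 24 (by norm_num) Split.zA e24, D.zc]
  have ht : ι' Split.tA = φ 156 := hval 156 (by norm_num) Split.tA e156
  have himg : ∀ x < 192, ∃ a, ι' a = φ x := fun x hx =>
    ⟨c8 * ⟨psi x, Perm.mem_alternatingGroup.2 (hsign x hx)⟩ * c8⁻¹, by
      rw [hι']
      simp only [mul_assoc, inv_mul_cancel_left, inv_mul_cancel, mul_one]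
      exact hψ x hx _⟩
  have E : Split.Emb ι' :=
    { inj := hinj.comp (MulAut.conj c8⁻¹).injective
      cent := fun g hg => by
        rw [hz] at hg
        obtain ⟨x, hx, rfl⟩ := (D.cent g).1 hg
        exact himg x hx
      nconj := fun g hg => h156 ⟨g, by rw [← hz, hg, ht]⟩
      two := fun P hP => by
        obtain ⟨c', hc'⟩ := D.conj_into_T hP
        refine ⟨c', fun x hx => ?_⟩
        obtain ⟨n, hn, e⟩ := D.mem_T.1 (hc' x hx)
        obtain ⟨a, ha⟩ := himg n (mem_tCodes.1 hn).1
        exact ⟨a, ha.trans e⟩ }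
  exact E.dichotomy

end Dat

end CfsgQS3
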