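import Cfsg.Agent.Lib.QS3.Pair
import Cfsg.Agent.Lib.QS3.EMain

/-!
Groups with an involution centraliser `Q.S₃`: two classes of four groups give a standard commuting pair of elements of
order three.
-/

set_option autoImplicit false
set_option maxRecDepth 100000
set_option linter.unusedSectionVars false

namespace CfsgQS3

theorem pair_rows : autPair.length = 2 ∧ aut (autPair.getD 0 []) 54 = 54 ∧ aut (autPair.getD 0 []) 114 = 156 ∧
    aut (autPair.getD 1 []) 54 = 114 ∧ aut (autPair.getD 1 []) 114 = 156 := by decide +kernel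

/-- The index of an option. -/
theorem opt_index {R : Row} {ys : List ℕ} (h : ys ∈ R.opts) : ∃ a < R.opts.length, R.opts.getD a [] = ys := by
  obtain ⟨a, ha, e⟩ := List.getElem_of_mem h
  exact ⟨a, ha, by rw [List.getD_eq_getElem?_getD, List.getElem?_eq_getElem ha, Option.getD_some, e]⟩

/-- The images under an option are codes. -/
theorem fap_lt0 : (rows.all fun R => R.opts.all fun ys => R.cen.all fun x => decide (fap R ys x < 192)) = true := by
  decide +kernel

theorem fap_lt_opts (R : Row) (hR : R ∈ rows) (ys : List ℕ) (hys : ys ∈ R.opts) (x : ℕ) (hx : x ∈ R.cen) :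
    fap R ys x < 192 :=
  decide_eq_true_iff.1 (List.all_eq_true.1 (List.all_eq_true.1 (List.all_eq_true.1 fap_lt0 R hR) ys hys) x hx)

namespace Dat

variable {G : Type*} [Group G] [Finite G] {s : G} {φ : ℕ → G} (D : Dat s 2 φ)
include D

/-- The subgroup `A` is its own centraliser. -/
theorem A_self {c : G} (h : ∀ a ∈ aCodes, c * φ a = φ a * c) : c ∈ D.A := by
  have h24 := h 24 (by decide)
  rw [D.zc] at h24
  obtain ⟨x, hx, rfl⟩ := (D.cent c).1 h24
  have hc := all_codes aCodes_self hx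
  simp only [Bool.or_eq_true, List.contains_iff_mem, List.any_eq_true, bne_iff_ne, ne_eq] at hc
  rcases hc with hc | ⟨a, ha, hne⟩
  · exact ⟨x, hc, rfl⟩
  · exact absurd ((D.commute_iff hx ((by decide : ∀ a ∈ aCodes, a < 192) a ha)).1 (h a ha)) hne

/-- The actions of elements of order three for two classes of four groups commute. -/
theorem pair_commute {α β : G} {ya yb : List ℕ} (hA : Act s φ row2 ya α) (hB : Act s φ row3 yb β) :
    compA (optA row2 ya) (optA row3 yb) = compA (optA row3 yb) (optA row2 ya) := by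
  by_contra hne
  obtain ⟨a, ha, rfl⟩ := opt_index hA.mem
  obtain ⟨b, hb, rfl⟩ := opt_index hB.mem
  have ha' : a < 16 := ha
  have hb' : b < 16 := hb
  have h := List.all_eq_true.1 (List.all_eq_true.1 pair_four a (List.mem_range.2 ha')) b (List.mem_range.2 hb')
  simp only [Bool.or_eq_true, beq_iff_eq] at h
  rcases h with h | h
  · exact hne h
  refine D.no_four (gs := α :: β :: aNorm.map φ) (fun i hi => ?_) h
  have hi' : i < 4 := hi
  interval_cases i
  · exact D.relA_act (by simp) hA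
  · exact D.relA_act (by simp) hB
  · exact D.relA_norm (g := 6) (by decide)
  · exact D.relA_norm (g := 12) (by decide)

/-- The second element of order three can be chosen to commute with the first. -/
theorem exists_commuting (hU2 : InU s φ 54) (hU3 : InU s φ 114) :
    ∃ α β : G, ∃ ya yb : List ℕ, Act s φ row2 ya α ∧ Act s φ row3 yb β ∧ α * β = β * α ∧
      compA (optA row2 ya) (optA row3 yb) = compA (optA row3 yb) (optA row2 ya) := by
  obtain ⟨α, ya, hA⟩ := D.exists_act (R := row2) (by simp [rows]) rfl hU2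
  obtain ⟨β, yb, hB⟩ := D.exists_act (R := row3) (by simp [rows]) rfl hU3
  have hcomm := D.pair_commute hA hB
  obtain ⟨a, ha, rfl⟩ := opt_index hA.mem
  obtain ⟨b, hb, rfl⟩ := opt_index hB.mem
  have h := List.all_eq_true.1 (List.all_eq_true.1 comm_repair a (List.mem_range.2 ha)) b (List.mem_range.2 hb)
  simp only [Bool.or_eq_true, bne_iff_ne, ne_eq, List.all_eq_true, List.any_eq_true, beq_iff_eq, hcomm,
    not_true_eq_false, false_or] at h
  set f := optA row2 (row2.opts.getD a []) with hf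
  set g := optA row3 (row3.opts.getD b []) with hg
  have rf : RelA D α f := D.relA_act (by simp) hA
  have rg : RelA D β g := D.relA_act (by simp) hB
  -- the commutator centralises `A`
  have hcA : α * β * (β * α)⁻¹ ∈ D.A := by
    refine D.A_self fun x hx => ?_
    have hfix : ∀ z ∈ aCodes, α * β * φ z * (α * β)⁻¹ = β * α * φ z * (β * α)⁻¹ := by
      intro z hz
      obtain ⟨l, e⟩ := D.aCode_idx hz
      have e1 := ((D.relA_mul rf rg).2 _ l).2
      have e2 := ((D.relA_mul rg rf).2 _ l).2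
      rw [hcomm] at e1
      rw [e] at e1 e2
      rw [e1, e2]
    obtain ⟨l, e⟩ := D.aCode_idx hx
    have hm : (β * α)⁻¹ * φ x * (β * α) ∈ D.A := by
      have hinj : Function.Injective (fun y : D.A => (⟨β * α * y * (β * α)⁻¹, by
          obtain ⟨z, hz, ez⟩ := y.2
          obtain ⟨l', e'⟩ := D.aCode_idx hz
          obtain ⟨l2, e2⟩ := (D.relA_mul rg rf).2 _ l'
          exact ⟨_, D.aCode_mem l2, by rw [← e2, e', ez]⟩⟩ : D.A)) :=
        fun y y' e => Subtype.ext (mul_left_cancel (mul_right_cancel (congrArg Subtype.val e)))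
      obtain ⟨y, hy⟩ := Finite.injective_iff_surjective.1 hinj ⟨φ x, x, hx, rfl⟩
      have hy' : β * α * y * (β * α)⁻¹ = φ x := congrArg Subtype.val hy
      rw [← hy']
      exact (show (β * α)⁻¹ * (β * α * (y : G) * (β * α)⁻¹) * (β * α) = y by group).symm ▸ y.2
    obtain ⟨z, hz, ez⟩ := hm
    have e3 := hfix z hz
    rw [ez] at e3
    calc α * β * (β * α)⁻¹ * φ x = α * β * ((β * α)⁻¹ * φ x * (β * α)) * (α * β)⁻¹ * (α * β * (β * α)⁻¹) := by group
      _ = φ x * (α * β * (β * α)⁻¹) := by rw [e3]; group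
  obtain ⟨v, hv, ev⟩ := hcA
  obtain ⟨lv, ev'⟩ := D.aCode_idx hv
  obtain ⟨u, hu, he⟩ := h _ (List.mem_range.2 lv)
  rw [List.mem_range] at hu
  obtain ⟨l1, e1⟩ := rf.2 u hu
  obtain ⟨l2, e2⟩ := rg.2 _ l1
  obtain ⟨l3, e3⟩ := rg.2 u hu
  rw [ev'] at he
  have hlt : ∀ i < 16, aCodes.getD i 0 < 192 := by decide +kernel
  have hvlt : v < 192 := (by decide : ∀ a ∈ aCodes, a < 192) v hv
  have he' := congrArg φ he
  rw [D.mul _ (D.lt_mul (hlt _ l1) hvlt) _ (hlt _ l2), D.mul _ (hlt _ l1) _ hvlt, D.mul _ (hlt _ hu) _ (hlt _ l3), ← e1,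
    ← e2, ← e3, ← e1, ev] at he'
  set w := φ (aCodes.getD u 0) with hw
  have hwA : w ∈ D.A := ⟨_, D.aCode_mem hu, rfl⟩
  have hws : w * s = s * w := D.comm_s (hlt _ hu)
  have h114 : φ 114 ∈ D.A := ⟨114, by decide, rfl⟩
  have hwr : w * φ 114 = φ 114 * w := D.A_comm hwA h114
  have hconj : ∀ x ∈ D.A, w * (β * x * β⁻¹) * w⁻¹ = β * x * β⁻¹ := by
    rintro _ ⟨x, hx, rfl⟩
    obtain ⟨l, e⟩ := D.aCode_idx hx
    obtain ⟨l', e'⟩ := rg.2 _ l
    rw [e] at e'
    rw [e', D.A_comm hwA ⟨_, D.aCode_mem l', rfl⟩, mul_inv_cancel_right]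
  set β' := w * β * w⁻¹ with hβ'
  have hcomm' : α * β' = β' * α := by
    have hAc : ∀ {x y : G}, x ∈ D.A → y ∈ D.A → x * y = y * x := fun hx hy => D.A_comm hx hy
    have m1 : α * w * α⁻¹ ∈ D.A := ⟨_, D.aCode_mem l1, e1.symm⟩
    have m2 : β * (α * w * α⁻¹) * β⁻¹ ∈ D.A := ⟨_, D.aCode_mem l2, by rw [e1, e2]⟩
    have m3 : β * w * β⁻¹ ∈ D.A := ⟨_, D.aCode_mem l3, e3.symm⟩
    have mc : α * β * (β * α)⁻¹ ∈ D.A := ⟨v, hv, ev⟩
    have hsq : ∀ y ∈ D.A, y⁻¹ = y := by
      rintro _ ⟨y, hy, rfl⟩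
      have h : ∀ a ∈ aCodes, a < 192 ∧ mmul 2 a a = 0 := by decide +kernel
      exact inv_eq_of_mul_eq_one_left ((D.sq_iff (h y hy).1).2 (h y hy).2)
    calc α * (w * β * w⁻¹) = α * w * α⁻¹ * (α * β * (β * α)⁻¹) * (β * (α * w⁻¹ * α⁻¹) * β⁻¹) * (β * α) := by group
      _ = α * w * α⁻¹ * (α * β * (β * α)⁻¹) * (β * (α * w * α⁻¹) * β⁻¹) * (β * α) := by
          rw [hsq w hwA]
      _ = w * (β * w * β⁻¹) * (β * α) := by rw [he']
      _ = w * β * w⁻¹ * α := by rw [hsq w hwA]; group
  obtain ⟨yb', hB'⟩ := D.act_of (R := row3) (α := β') (by simp [rows]) rfl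
    (by rw [hβ', show w * β * w⁻¹ * (w * β * w⁻¹) * (w * β * w⁻¹) = w * (β * β * β) * w⁻¹ by group, hB.cube]; group)
    (by
      calc w * β * w⁻¹ * s * (w * β * w⁻¹)⁻¹ = w * (β * (w⁻¹ * s * w) * β⁻¹) * w⁻¹ := by group
        _ = w * (β * s * β⁻¹) * w⁻¹ := by rw [mul_assoc w⁻¹, ← hws, inv_mul_cancel_left]
        _ = φ 114 := by
          rw [hB.conj_s]
          show w * φ 114 * w⁻¹ = φ 114
          rw [hwr, mul_inv_cancel_right])
    (by
      calc w * β * w⁻¹ * φ 114 * (w * β * w⁻¹)⁻¹ = w * (β * (w⁻¹ * φ 114 * w) * β⁻¹) * w⁻¹ := by group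
        _ = w * (β * φ 114 * β⁻¹) * w⁻¹ := by rw [mul_assoc w⁻¹, ← hwr, inv_mul_cancel_left]
        _ = φ 114 * s := by
          rw [show β * φ 114 * β⁻¹ = φ 114 * s from hB.conj_r, ← mul_assoc, hwr, mul_assoc (φ 114), hws]
          group)
  have rg' : RelA D β' (optA row3 yb') := D.relA_act (by simp) hB'
  refine ⟨α, β', _, yb', hA, hB', hcomm', ?_⟩
  have := D.relA_mul rf rg'
  rw [hcomm'] at this
  exact D.relA_unique this (D.relA_mul rg' rf)

/-- Standard coordinates for two classes of four groups. -/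
theorem exists_norm (hU2 : InU s φ 54) (hU3 : InU s φ 114) :
    ∃ φ' : ℕ → G, ∃ α β : G, ∃ c < 2, Dat s 2 φ' ∧ Act s φ' row2 (row2.opts.getD 0 []) α ∧
      Act s φ' row3 (row3.opts.getD c []) β ∧ α * β = β * α ∧ ¬ InU s φ' 156 ∧
      ∀ n < 192, (InU s φ n → ∃ m < 192, φ' m = φ n) := by
  obtain ⟨α, β, ya, yb, hA, hB, hcm, hcA⟩ := D.exists_commuting hU2 hU3
  obtain ⟨a, ha, rfl⟩ := opt_index hA.mem
  obtain ⟨b, hb, rfl⟩ := opt_index hB.mem
  have h := List.all_eq_true.1 (List.all_eq_true.1 pair_norm a (List.mem_range.2 ha)) b (List.mem_range.2 hb)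
  simp only [Bool.or_eq_true, bne_iff_ne, ne_eq, hcA, not_true_eq_false, false_or, Bool.and_eq_true,
    decide_eq_true_eq, beq_iff_eq, List.all_eq_true, List.any_eq_true, List.contains_iff_mem] at h
  set c := normPair.getD (16 * a + b) [] with hc
  set σ := autFix.getD (c.getD 0 0) [] with hσ
  obtain ⟨⟨⟨⟨⟨⟨⟨h16, hc2⟩, hr2⟩, hr3⟩, hopt2⟩, hg2⟩, hg3⟩, hopt3⟩ := h
  have hσok : isAut σ = true := List.all_eq_true.1 autos_ok σ (List.mem_append_left _ (by
    rw [hσ, List.getD_eq_getElem?_getD, List.getElem?_eq_getElem (show c.getD 0 0 < autFix.length from h16)]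
    exact List.getElem_mem _))
  have D' := D.comp_aut hσok
  have key : ∀ (R : Row), R ∈ [row2, row3] → ∀ (y0 z : List ℕ) (γ : G), Act s φ R y0 γ → aut σ R.r = R.r →
      (∀ ys ∈ R.opts, ys = z ∨ ∃ x ∈ R.gens, aut σ (fap R ys x) ≠ fap R y0 (aut σ x)) →
      (∀ x ∈ R.gens, aut σ x ∈ R.cen) → Act s (φ ∘ aut σ) R z γ := by
    intro R hR y0 z γ hC hr hu hg
    have hR' : R ∈ rows ∧ R.ty = 2 := by
      simp only [List.mem_cons, List.not_mem_nil, or_false] at hR
      rcases hR with rfl | rfl <;> exact ⟨by simp [rows], rfl⟩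
    obtain ⟨ys, hys⟩ := D'.act_of (R := R) (α := γ) hR'.1 hR'.2 hC.cube
      (by rw [Function.comp_apply, hr]; exact hC.conj_s) (by rw [Function.comp_apply, hr]; exact hC.conj_r)
    rcases hu ys hys.mem with rfl | ⟨x, hx, hne⟩
    · exact hys
    exfalso
    have hxc : x ∈ R.cen := List.contains_iff_mem.1 (List.all_eq_true.1 (by
      have := List.all_eq_true.1 rows_ok R hR'.1
      simp only [Bool.and_eq_true] at this
      exact this.2) x hx)
    have e1 := hys.act x hxc
    have e2 := hC.act _ (hg x hx)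
    simp only [Function.comp_apply] at e1
    rw [e2] at e1
    refine hne (D.inj _ ?_ _ ?_ e1.symm)
    · have hσ' := hσok
      simp only [isAut, Bool.and_eq_true, List.all_eq_true, decide_eq_true_eq] at hσ'
      refine (hσ'.1.1.1 _ (List.mem_range.2 ?_)).1
      exact fap_lt_opts R hR'.1 ys hys.mem x hxc
    · exact fap_lt_opts R hR'.1 y0 hC.mem _ (hg x hx)
  have hA' := key row2 (by simp) _ (row2.opts.getD 0 []) α hA hr2 hopt2 hg2
  have hB' := key row3 (by simp) _ (row3.opts.getD (c.getD 1 0) []) β hB hr3 hopt3 hg3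
  refine ⟨φ ∘ aut σ, α, β, c.getD 1 0, hc2, D', hA', hB', hcm, ?_, ?_⟩
  · intro hU4
    obtain ⟨γ, ye, hE⟩ := D'.exists_act (R := row4) (by simp [rows]) rfl hU4
    obtain ⟨e, he, rfl⟩ := opt_index hE.mem
    have h3 := List.all_eq_true.1 (List.all_eq_true.1 third_four (c.getD 1 0) (by
      simp only [List.mem_cons, List.not_mem_nil, or_false]; omega)) e (List.mem_range.2 he)
    refine D'.no_four (gs := α :: β :: γ :: aNorm.map (φ ∘ aut σ)) (fun i hi => ?_) h3
    have hi' : i < 5 := hi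
    interval_cases i
    · exact D'.relA_act (by simp) hA'
    · exact D'.relA_act (by simp) hB'
    · exact D'.relA_act (by simp) hE
    · exact D'.relA_norm (g := 6) (by decide)
    · exact D'.relA_norm (g := 12) (by decide)
  · intro n hn _
    obtain ⟨m, hm, e⟩ := (D'.cent _).1 (D.comm_s hn)
    exact ⟨m, hm, e⟩

/-- In the type exchanging the factors either one class of four groups occurs, or there are two with a standard pair. -/
theorem two_split {g : G} {n₀ : ℕ} (hn₀ : n₀ < 192) (h6 : n₀ % 6 = 0) (hg : g * s * g⁻¹ = φ n₀) (h24 : n₀ ≠ 24) :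
    (∃ R ∈ rows, R.ty = 2 ∧ InU s φ R.r ∧ ∀ n < 192, n % 6 = 0 → InU s φ n → n ∈ eList R) ∨
    ∃ φ' : ℕ → G, ∃ α β : G, ∃ c < 2, Dat s 2 φ' ∧ Act s φ' row2 (row2.opts.getD 0 []) α ∧
      Act s φ' row3 (row3.opts.getD c []) β ∧ α * β = β * α ∧ ¬ InU s φ' 156 := by
  have hrep : ∀ n < 192, n % 6 = 0 → InU s φ n → n = 24 ∨
      ∃ R ∈ [row2, row3, row4], (∃ h ∈ codes, mconj 2 h n = R.r) ∧ InU s φ R.r := by
    intro n hn hn6 hU
    by_cases h : n = 24
    · exact Or.inl h
    right
    have hs := D.inU_six hn hn6 hU h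
    have hr := all_codes (six_reps 2 (by norm_num)) hn
    simp only [hs, Bool.not_true, Bool.false_or, List.any_eq_true, Bool.and_eq_true, beq_iff_eq] at hr
    obtain ⟨c, hc, R, hR, hty, e⟩ := hr
    have hR' : R ∈ [row2, row3, row4] := by
      simp only [rows, List.mem_cons, List.not_mem_nil, or_false] at hR
      rcases hR with rfl | rfl | rfl | rfl | rfl | rfl | rfl | rfl <;> simp_all [row0, row1, row5, row6, row7]
    exact ⟨R, hR', ⟨c, hc, e⟩, e ▸ D.inU_conj hn (List.mem_range.1 hc) hU⟩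
  have mk : ∀ R ∈ [row2, row3, row4], (∀ R' ∈ [row2, row3, row4], InU s φ R'.r → R' = R) → InU s φ R.r →
      ∃ R ∈ rows, R.ty = 2 ∧ InU s φ R.r ∧ ∀ n < 192, n % 6 = 0 → InU s φ n → n ∈ eList R := by
    intro R hR huniq hU
    have hR' : R ∈ rows ∧ R.ty = 2 := by
      simp only [List.mem_cons, List.not_mem_nil, or_false] at hR
      rcases hR with rfl | rfl | rfl <;> exact ⟨by simp [rows], rfl⟩
    refine ⟨R, hR'.1, hR'.2, hU, fun n hn hn6 hUn => ?_⟩
    rcases hrep n hn hn6 hUn with rfl | ⟨R', hR'', ⟨c, hc, e⟩, hU'⟩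
    · have h := List.all_eq_true.1 eList_facts R hR'.1
      simp only [Bool.and_eq_true, List.contains_iff_mem] at h
      exact h.1.1.1.1.2
    · rw [huniq R' hR'' hU'] at e
      have hc' := List.mem_range.1 hc
      have hl := D.lt_inv hc'
      have e' : mconj 2 (minv 2 c) R.r = n := by
        refine D.inj _ (D.lt_conj hl (e ▸ D.lt_conj hc' hn)) _ hn ?_
        rw [D.conj hl (e ▸ D.lt_conj hc' hn), D.inv hc', ← e, D.conj hc' hn]; group
      refine List.mem_filter.2 ⟨List.mem_range.2 hn, ?_⟩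
      simp only [Bool.or_eq_true, List.any_eq_true, beq_iff_eq, hR'.2]
      exact Or.inr ⟨_, List.mem_range.2 hl, e'⟩
  obtain ⟨hp, p00, p01, p10, p11⟩ := pair_rows
  have relabel : ∀ i < 2, InU s φ (aut (autPair.getD i []) 54) → InU s φ (aut (autPair.getD i []) 114) →
      ∃ φ' : ℕ → G, ∃ α β : G, ∃ c < 2, Dat s 2 φ' ∧ Act s φ' row2 (row2.opts.getD 0 []) α ∧
      Act s φ' row3 (row3.opts.getD c []) β ∧ α * β = β * α ∧ ¬ InU s φ' 156 := by
    intro i hi h1 h2
    have hok : isAut (autPair.getD i []) = true := List.all_eq_true.1 autos_ok _ (List.mem_append_right _ (by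
      rw [List.getD_eq_getElem?_getD, List.getElem?_eq_getElem (by rw [hp]; exact hi)]
      exact List.getElem_mem _))
    obtain ⟨φ', α, β, c, hc, hD, hA, hB, e, h156, -⟩ := (D.comp_aut hok).exists_norm h1 h2
    exact ⟨φ', α, β, c, hc, hD, hA, hB, e, h156⟩
  by_cases u2 : InU s φ 54 <;> by_cases u3 : InU s φ 114 <;> by_cases u4 : InU s φ 156
  case pos => exact Or.inr (relabel 0 (by norm_num) (by rwa [p00]) (by rwa [p01]))
  all_goals first
    | exact Or.inr (relabel 0 (by norm_num) (by rwa [p00]) (by rwa [p01]))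
    | exact Or.inr (relabel 1 (by norm_num) (by rwa [p10]) (by rwa [p11]))
    | exact Or.inr (by obtain ⟨φ', α, β, c, hc, hD, hA, hB, e, h156, -⟩ := D.exists_norm u2 u3
                       exact ⟨φ', α, β, c, hc, hD, hA, hB, e, h156⟩)
    | exact Or.inl (mk row2 (by simp) (fun R hR hU => by
        simp only [List.mem_cons, List.not_mem_nil, or_false] at hR
        rcases hR with rfl | rfl | rfl <;> first | rfl | contradiction) u2)
    | exact Or.inl (mk row3 (by simp) (fun R hR hU => by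
        simp only [List.mem_cons, List.not_mem_nil, or_false] at hR
        rcases hR with rfl | rfl | rfl <;> first | rfl | contradiction) u3)
    | exact Or.inl (mk row4 (by simp) (fun R hR hU => by
        simp only [List.mem_cons, List.not_mem_nil, or_false] at hR
        rcases hR with rfl | rfl | rfl <;> first | rfl | contradiction) u4)
    | (exfalso
       rcases hrep n₀ hn₀ h6 ⟨g, hg⟩ with h | ⟨R, hR, -, hU⟩
       · exact h24 h
       · simp only [List.mem_cons, List.not_mem_nil, or_false] at hR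
         rcases hR with rfl | rfl | rfl <;> contradiction)

end Dat

end CfsgQS3
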