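import Cfsg.Agent.Lib.QS3.Model

/-!
Groups with an involution centraliser `Q.S₃`: coordinates on quaternion subgroups and their central product.
-/

set_option autoImplicit false

namespace CfsgQS3

/-- The product of quaternions with code `2 * p + e`, `p` the unit among `1, i, j, k` and `e` the sign. -/
def q8mul (u v : ℕ) : ℕ :=
  (([[0, 1, 2, 3, 4, 5, 6, 7], [1, 0, 3, 2, 5, 4, 7, 6], [2, 3, 1, 0, 6, 7, 5, 4], [3, 2, 0, 1, 7, 6, 4, 5],
    [4, 5, 7, 6, 1, 0, 2, 3], [5, 4, 6, 7, 0, 1, 3, 2], [6, 7, 4, 5, 3, 2, 1, 0], [7, 6, 5, 4, 2, 3, 0, 1]] :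
      List (List ℕ)).getD u []).getD v 0

/-- The first component of a code of the central product. -/
def qu (q : ℕ) : ℕ := q / 4

/-- The second component of a code of the central product. -/
def qv (q : ℕ) : ℕ := 2 * (q % 4)

/-- The code of a pair of components. -/
def qc (u v : ℕ) : ℕ := 4 * (if v % 2 = 1 then (if u % 2 = 1 then u - 1 else u + 1) else u) + v / 2

theorem qmul_eq : ∀ a < 32, ∀ b < 32, qmul a b = qc (q8mul (qu a) (qu b)) (q8mul (qv a) (qv b)) := by
  decide +kernel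

theorem q8mul_lt : ∀ u < 8, ∀ v < 8, q8mul u v < 8 := by decide +kernel

theorem qc_split : ∀ u < 8, ∀ v < 8, (qu (qc u v) = u ∧ qv (qc u v) = v) ∨
    (qu (qc u v) = q8mul u 1 ∧ qv (qc u v) = q8mul 1 v) := by decide +kernel

theorem qc_lt : ∀ u < 8, ∀ v < 8, qc u v < 32 := by decide +kernel

theorem q8_gen : ∀ u < 8, u = 0 ∨ ∃ u' < 8, ∃ g < 8, (g = 2 ∨ g = 4) ∧ q8mul u' g = u ∧
    [0, 2, 4, 6, 1, 3, 5, 7].idxOf u' < [0, 2, 4, 6, 1, 3, 5, 7].idxOf u := by decide +kernel

theorem q8_assoc : ∀ u < 8, ∀ v < 8, ∀ g < 8, q8mul (q8mul u v) g = q8mul u (q8mul v g) := by decide +kernel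

theorem q8_induction {P : ℕ → Prop} (h0 : P 0) (h : ∀ u < 8, ∀ g, g = 2 ∨ g = 4 → P u → P (q8mul u g)) :
    ∀ u < 8, P u := by
  intro u
  induction hn : [0, 2, 4, 6, 1, 3, 5, 7].idxOf u using Nat.strong_induction_on generalizing u with
  | _ n ih =>
    intro hu
    rcases q8_gen u hu with rfl | ⟨u', hu', g, hg, hg', e, hlt⟩
    · exact h0
    · rw [← e]
      exact h u' hu' g hg' (ih _ (hn ▸ hlt) u' rfl hu')

/-- A quaternion subgroup with central involution `s`. -/
structure Quat {G : Type*} [Group G] (s a b c : G) : Prop where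
  aa : a * a = s
  bb : b * b = s
  cc : c * c = s
  ab : a * b = c
  ss : s * s = 1
  sa : s * a = a * s
  sb : s * b = b * s

namespace Quat

variable {G : Type*} [Group G] {s a b c : G}

/-- The units of the quaternion subgroup. -/
def unit (a b c : G) : ℕ → G
  | 1 => a
  | 2 => b
  | 3 => c
  | _ => 1

/-- The element with code `u`. -/
def f (s a b c : G) (u : ℕ) : G := unit a b c (u / 2) * (if u % 2 = 1 then s else 1)

variable (h : Quat s a b c)
include h

theorem sc : s * c = c * s := by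
  rw [← h.ab, ← mul_assoc, h.sa, mul_assoc, h.sb, mul_assoc]

theorem ba : b * a = c * s := by
  have e : a * b * (a * b) = s := by rw [h.ab, h.cc]
  have e1 : b * (a * b) = a⁻¹ * s := by rw [← e]; group
  have ha : a⁻¹ = a * s := inv_eq_of_mul_eq_one_right (by rw [← mul_assoc, h.aa, h.ss])
  have e2 : b * (a * b) = a := by rw [e1, ha, mul_assoc, h.ss, mul_one]
  have e3 : b * a = a * b⁻¹ :=
    calc b * a = b * (a * b) * b⁻¹ := by group
      _ = a * b⁻¹ := by rw [e2]
  rw [e3, inv_eq_of_mul_eq_one_right (a := b) (b := b * s) (by rw [← mul_assoc, h.bb, h.ss]), ← mul_assoc, h.ab]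

theorem ca : c * a = b := by
  rw [← h.ab, mul_assoc, h.ba, ← h.ab, ← mul_assoc, ← mul_assoc, h.aa, h.sb, mul_assoc, h.ss, mul_one]

theorem cb : c * b = a * s := by rw [← h.ab, mul_assoc, h.bb]

theorem step {u : ℕ} (hu : u < 8) {g : ℕ} (hg : g = 2 ∨ g = 4) :
    f s a b c (q8mul u g) = f s a b c u * f s a b c g := by
  have hs1 : ∀ y : G, y * s * s = y := fun y => by rw [mul_assoc, h.ss, mul_one]
  have hsa : ∀ y : G, y * s * a = y * a * s := fun y => by rw [mul_assoc, h.sa, ← mul_assoc]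
  have hsb : ∀ y : G, y * s * b = y * b * s := fun y => by rw [mul_assoc, h.sb, ← mul_assoc]
  rcases hg with rfl | rfl <;> interval_cases u <;>
    simp [f, q8mul, unit, hsa, hsb, hs1, h.ss, h.sa, h.sb, h.aa, h.bb, h.ab, h.ba, h.ca, h.cb, h.cc]

theorem mul {u v : ℕ} (hu : u < 8) (hv : v < 8) :
    f s a b c (q8mul u v) = f s a b c u * f s a b c v := by
  revert hu
  revert u
  refine q8_induction (P := fun v => ∀ {u}, u < 8 → f s a b c (q8mul u v) = f s a b c u * f s a b c v) ?_ ?_ v hv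
  · intro u hu
    have : q8mul u 0 = u := by revert hu; revert u; decide +kernel
    simp [this, f, unit]
  · intro w hw g hg ih u hu
    have hg8 : g < 8 := by omega
    rw [← q8_assoc u hu w hw g hg8, h.step (q8mul_lt u hu w hw) hg, ih hu, h.step hw hg, mul_assoc]

end Quat

/-- The element with code `q` in the central product of two quaternion subgroups. -/
def pairF {G : Type*} [Group G] (s a b c a' b' c' : G) (q : ℕ) : G :=
  Quat.f s a b c (qu q) * Quat.f s a' b' c' (qv q)

variable {G : Type*} [Group G] {s a b c a' b' c' : G}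

theorem pairF_qc (h : Quat s a b c) (h' : Quat s a' b' c') {u v : ℕ} (hu : u < 8) (hv : v < 8) :
    pairF s a b c a' b' c' (qc u v) = Quat.f s a b c u * Quat.f s a' b' c' v := by
  rcases qc_split u hu v hv with ⟨e1, e2⟩ | ⟨e1, e2⟩
  · rw [pairF, e1, e2]
  · have hs : Quat.f s a b c 1 = s := by simp [Quat.f, Quat.unit]
    have hs' : Quat.f s a' b' c' 1 = s := by simp [Quat.f, Quat.unit]
    rw [pairF, e1, e2, h.mul hu (by norm_num), h'.mul (by norm_num) hv, hs, hs']
    rw [mul_assoc, ← mul_assoc s s, h.ss, one_mul]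

/-- The two quaternion subgroups commute. -/
theorem quat_commute (h : Quat s a b c) (h' : Quat s a' b' c') (h1 : Commute a a') (h2 : Commute a b')
    (h3 : Commute b a') (h4 : Commute b b') {u v : ℕ} (hu : u < 8) (hv : v < 8) :
    Commute (Quat.f s a b c u) (Quat.f s a' b' c' v) := by
  have base : ∀ g, g = 2 ∨ g = 4 → ∀ g', g' = 2 ∨ g' = 4 →
      Commute (Quat.f s a b c g) (Quat.f s a' b' c' g') := by
    rintro g (rfl | rfl) g' (rfl | rfl) <;> simp [Quat.f, Quat.unit, h1, h2, h3, h4]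
  refine q8_induction (P := fun u => Commute (Quat.f s a b c u) (Quat.f s a' b' c' v)) ?_ ?_ u hu
  · simp [Quat.f, Quat.unit]
  · intro w hw g hg ih
    rw [h.mul hw (by omega)]
    refine ih.mul_left (q8_induction (P := fun v => Commute (Quat.f s a b c g) (Quat.f s a' b' c' v)) ?_ ?_ v hv)
    · simp [Quat.f, Quat.unit]
    · intro w' hw' g' hg' ih'
      rw [h'.mul hw' (by omega)]
      exact ih'.mul_right (base g hg g' hg')

theorem pairF_mul (h : Quat s a b c) (h' : Quat s a' b' c') (h1 : Commute a a') (h2 : Commute a b')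
    (h3 : Commute b a') (h4 : Commute b b') {q p : ℕ} (hq : q < 32) (hp : p < 32) :
    pairF s a b c a' b' c' (qmul q p) = pairF s a b c a' b' c' q * pairF s a b c a' b' c' p := by
  have hu : ∀ r < 32, qu r < 8 ∧ qv r < 8 := fun r hr => ⟨by unfold qu; omega, by unfold qv; omega⟩
  obtain ⟨a1, a2⟩ := hu q hq
  obtain ⟨b1, b2⟩ := hu p hp
  rw [qmul_eq q hq p hp, pairF_qc h h' (q8mul_lt _ a1 _ b1) (q8mul_lt _ a2 _ b2), h.mul a1 b1, h'.mul a2 b2]
  simp only [pairF, mul_assoc]
  congr 1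
  rw [← mul_assoc, ← mul_assoc, (quat_commute h h' h1 h2 h3 h4 b1 a2).eq]

theorem qgen : ∀ q < 32, q = qmul (qc (qu q) 0) (qc 0 (qv q)) ∧ qc (qu q) 0 < 32 ∧ qc 0 (qv q) < 32 := by
  decide +kernel

/-- Induction from the four generators of the central product. -/
theorem q_induction {P : ℕ → Prop} (h0 : P 0) (hg : ∀ g, g ∈ [8, 16, 1, 2] → P g)
    (hm : ∀ q < 32, ∀ p < 32, P q → P p → P (qmul q p)) : ∀ q < 32, P q := by
  have hu : ∀ u < 8, P (qc u 0) := fun u hu => q8_induction (P := fun u => P (qc u 0)) h0 (fun w hw g hg' ih => by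
    have e : ∀ w < 8, ∀ g < 8, qc (q8mul w g) 0 = qmul (qc w 0) (qc g 0) := by decide +kernel
    rw [e w hw g (by omega)]
    refine hm _ (qc_lt w hw 0 (by norm_num)) _ (qc_lt g (by omega) 0 (by norm_num)) ih ?_
    rcases hg' with rfl | rfl <;> exact hg _ (by decide)) u hu
  have hv : ∀ v < 8, P (qc 0 v) := fun v hv => q8_induction (P := fun v => P (qc 0 v)) h0 (fun w hw g hg' ih => by
    have e : ∀ w < 8, ∀ g < 8, qc 0 (q8mul w g) = qmul (qc 0 w) (qc 0 g) := by decide +kernel
    rw [e w hw g (by omega)]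
    refine hm _ (qc_lt 0 (by norm_num) w hw) _ (qc_lt 0 (by norm_num) g (by omega)) ih ?_
    rcases hg' with rfl | rfl <;> exact hg _ (by decide)) v hv
  intro q hq
  obtain ⟨e, l1, l2⟩ := qgen q hq
  rw [e]
  exact hm _ l1 _ l2 (hu _ (by unfold qu; omega)) (hv _ (by unfold qv; omega))

end CfsgQS3
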