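import Cfsg.Agent.Lib.QS3.Coset
import Cfsg.Agent.Lib.QS3.RelData
import Cfsg.Agent.Lib.QS3.PairMain

/-!
Groups with an involution centraliser `Q.S₃`: the relations satisfied by a standard pair.
-/

set_option autoImplicit false
set_option maxRecDepth 100000

namespace CfsgQS3

/-- The codes of the letters of the centraliser. -/
def lcode (i : ℕ) : ℕ := [48, 2, 1, 0, 0, minv 2 48, minv 2 2, minv 2 1].getD i 0

/-- A letter of the centraliser. -/
def isH (i : ℕ) : Bool := [0, 1, 2, 5, 6, 7].contains i

/-- The code of a word in the centraliser. -/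
def hval (w : List ℕ) : ℕ := mword 2 (w.map lcode)

/-- The action of `α φ(h)` on the codes. -/
def twist (R : Row) (ys : List ℕ) (h x : ℕ) : ℕ := fap R ys (mconj 2 h x)

/-- A word in the centraliser after `α` has its `n`-th power among the given codes. -/
def powOK (R : Row) (ys u : List ℕ) (n : ℕ) (xs : List ℕ) : Bool :=
  u.all isH && ((eList R).all fun e => R.cen.contains (mconj 2 (hval u) e) &&
    (eList R).contains (twist R ys (hval u) e) && (twist R ys (hval u))^[n] e == e &&
    (twist R ys (hval u) e != e || xs.contains e))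

/-- A conjugation relation for the letter `a`. -/
def conjOK (R : Row) (ys : List ℕ) (a : ℕ) (w : List ℕ) : Bool :=
  let u := (w.drop 1).takeWhile isH
  let v := ((w.drop 1).dropWhile isH).drop 1
  w == a :: (u ++ (a + 5) :: v) && v.all isH && R.cen.contains (hval u) &&
    mmul 2 (fap R ys (hval u)) (hval v) == 0

/-- The word is a consequence of the centraliser, the two actions, the commutator and the given powers. -/
def relOK (ya yb : List ℕ) (pows : List (List ℕ × ℕ)) (w : List ℕ) : Bool :=
  (w.all isH && hval w == 0) || conjOK row2 ya 3 w || conjOK row3 yb 4 w || w == [3, 3, 3] || w == [4, 4, 4] ||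
    w == [3, 4, 8, 9] || pows.any fun q => q.1 ++ w.drop q.1.length == w && (w.drop q.1.length).all isH &&
      mmul 2 q.2 (hval (w.drop q.1.length)) == 0

/-- The four groups of order eight are their own centralisers. -/
theorem eList_self : ([row2, row3].all fun R => codes.all fun x => (eList R).contains x ||
    (eList R).any fun e => mmul 2 x e != mmul 2 e x) = true := by decide +kernel

/-- The letters. -/
def letters {G : Type*} [Group G] (φ : ℕ → G) (α β : G) (i : ℕ) : G :=
  [φ 48, φ 2, φ 1, α, β, (φ 48)⁻¹, (φ 2)⁻¹, (φ 1)⁻¹, α⁻¹, β⁻¹].getD i 1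

namespace Dat

variable {G : Type*} [Group G] {s : G} {φ : ℕ → G} (D : Dat s 2 φ)
include D

theorem val_H (α β : G) {w : List ℕ} (h : w.all isH = true) :
    wordVal (letters φ α β) w = φ (hval w) ∧ hval w < 192 := by
  have hl : ∀ i, isH i = true → lcode i < 192 ∧ letters φ α β i = φ (lcode i) := by
    intro i hi
    simp only [isH, List.contains_iff_mem, List.mem_cons, List.not_mem_nil, or_false] at hi
    rcases hi with rfl | rfl | rfl | rfl | rfl | rfl
    · exact ⟨by decide +kernel, rfl⟩
    · exact ⟨by decide +kernel, rfl⟩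
    · exact ⟨by decide +kernel, rfl⟩
    · exact ⟨D.lt_inv (by norm_num), (D.inv (x := 48) (by norm_num)).symm⟩
    · exact ⟨D.lt_inv (by norm_num), (D.inv (x := 2) (by norm_num)).symm⟩
    · exact ⟨D.lt_inv (by norm_num), (D.inv (x := 1) (by norm_num)).symm⟩
  rw [List.all_eq_true] at h
  obtain ⟨e, hlt⟩ := D.mword_eq (w.map lcode) (fun v hv => by
    obtain ⟨i, hi, rfl⟩ := List.mem_map.1 hv; exact (hl i (h i hi)).1)
  refine ⟨?_, hlt⟩
  rw [hval, e, List.map_map]
  exact congrArg List.prod (List.map_congr_left fun i hi => (hl i (h i hi)).2)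

theorem pow_cases {R : Row} (hR : R ∈ [row2, row3]) {ys : List ℕ} {γ : G} (hA : Act s φ R ys γ) {u : List ℕ} {n : ℕ}
    {xs : List ℕ} (hok : powOK R ys u n xs = true) : ∃ c ∈ xs, (γ * φ (hval u)) ^ n = φ c := by
  have hR' : R ∈ rows ∧ R.ty = 2 := by
    simp only [List.mem_cons, List.not_mem_nil, or_false] at hR
    rcases hR with rfl | rfl <;> exact ⟨by simp [rows], rfl⟩
  simp only [powOK, Bool.and_eq_true, List.all_eq_true, List.contains_iff_mem, Bool.or_eq_true, bne_iff_ne, ne_eq,
    beq_iff_eq] at hok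
  obtain ⟨hu, hE⟩ := hok
  have hh : hval u < 192 := (D.val_H 1 1 (List.all_eq_true.2 hu)).2
  have hlt : ∀ e ∈ eList R, e < 192 := by
    intro e he
    have h := List.all_eq_true.1 eList_facts R hR'.1
    simp only [Bool.and_eq_true, List.all_eq_true, decide_eq_true_eq] at h
    exact (h.1.1.2 e he).1.1.1.1
  set f := twist R ys (hval u) with hf
  set g := γ * φ (hval u) with hg
  have step : ∀ e ∈ eList R, g * φ e * g⁻¹ = φ (f e) := by
    intro e he
    rw [hg, hf, twist, ← hA.act _ (hE e he).1.1.1, D.conj hh (hlt e he)]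
    group
  have iter : ∀ m : ℕ, ∀ e ∈ eList R, f^[m] e ∈ eList R ∧ g ^ m * φ e * (g ^ m)⁻¹ = φ (f^[m] e) := by
    intro m
    induction m with
    | zero => intro e he; exact ⟨he, by simp⟩
    | succ m ih =>
      intro e he
      obtain ⟨h1, h2⟩ := ih e he
      rw [Function.iterate_succ_apply']
      refine ⟨(hE _ h1).1.1.2, ?_⟩
      rw [pow_succ', show g * g ^ m * φ e * (g * g ^ m)⁻¹ = g * (g ^ m * φ e * (g ^ m)⁻¹) * g⁻¹ by group, h2, step _ h1]
  have hfix : ∀ e ∈ eList R, g ^ n * φ e = φ e * g ^ n := fun e he => by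
    have h := (iter n e he).2
    rw [(hE e he).1.2] at h
    exact mul_inv_eq_iff_eq_mul.1 h
  have h24 : (24 : ℕ) ∈ eList R := by
    have h := List.all_eq_true.1 eList_facts R hR'.1
    simp only [Bool.and_eq_true, List.contains_iff_mem] at h
    exact h.1.1.1.1.2
  have hs := hfix 24 h24
  rw [D.zc] at hs
  obtain ⟨c, hc, ec⟩ := (D.cent _).1 hs
  have hcE : c ∈ eList R := by
    have h := List.all_eq_true.1 (List.all_eq_true.1 eList_self R hR) c (List.mem_range.2 hc)
    simp only [Bool.or_eq_true, List.contains_iff_mem, List.any_eq_true, bne_iff_ne, ne_eq] at h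
    rcases h with h | ⟨e, he, hne⟩
    · exact h
    · refine absurd ((D.commute_iff hc (hlt e he)).1 ?_) hne
      rw [ec]; exact hfix e he
  refine ⟨c, ?_, ec.symm⟩
  refine (hE c hcE).2.resolve_left (fun h => h ?_)
  refine D.inj _ (hlt _ (hE c hcE).1.1.2) _ hc ?_
  rw [← step c hcE, ec]
  group

theorem rel_of {α β : G} {ya yb : List ℕ} (hA : Act s φ row2 ya α) (hB : Act s φ row3 yb β) (hc : α * β = β * α)
    {pows : List (List ℕ × ℕ)} (hp : ∀ q ∈ pows, q.2 < 192 ∧ wordVal (letters φ α β) q.1 = φ q.2) {w : List ℕ}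
    (h : relOK ya yb pows w = true) : wordVal (letters φ α β) w = 1 := by
  have hz : ∀ x y : ℕ, x < 192 → y < 192 → mmul 2 x y = 0 → φ x * φ y = 1 := fun x y hx hy e => by
    rw [← D.mul _ hx _ hy, e, D.one]
  have hconj : ∀ (R : Row), R ∈ [row2, row3] → ∀ (ys : List ℕ) (γ : G) (a : ℕ), Act s φ R ys γ →
      letters φ α β a = γ → letters φ α β (a + 5) = γ⁻¹ → conjOK R ys a w = true →
      wordVal (letters φ α β) w = 1 := by
    intro R hR ys γ a hC e1 e2 h
    simp only [conjOK, Bool.and_eq_true, beq_iff_eq, List.contains_iff_mem] at h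
    obtain ⟨⟨⟨hw, hv⟩, hx⟩, he⟩ := h
    set u := (w.drop 1).takeWhile isH with hu
    set v := ((w.drop 1).dropWhile isH).drop 1
    have hu' : u.all isH = true := List.all_eq_true.2 fun i hi => List.mem_takeWhile_imp hi
    obtain ⟨eu, lu⟩ := D.val_H α β hu'
    obtain ⟨ev, lv⟩ := D.val_H α β hv
    have hfl : fap R ys (hval u) < 192 := by
      simp only [List.mem_cons, List.not_mem_nil, or_false] at hR
      rcases hR with rfl | rfl <;> exact fap_lt_opts _ (by simp [rows]) ys hC.mem _ hx
    rw [hw]
    simp only [wordVal, List.map_cons, List.map_append, List.prod_cons, List.prod_append] at eu ev ⊢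
    rw [eu, ev, e1, e2, ← mul_assoc, ← mul_assoc, hC.act _ hx]
    exact hz _ _ hfl lv he
  simp only [relOK, Bool.or_eq_true, Bool.and_eq_true, beq_iff_eq, List.any_eq_true] at h
  rcases h with (((((⟨h1, h2⟩ | h) | h) | h) | h) | h) | ⟨q, hq, ⟨h1, h2⟩, h3⟩
  · obtain ⟨e, -⟩ := D.val_H α β h1
    rw [e, h2, D.one]
  · exact hconj row2 (by simp) ya α 3 hA rfl rfl h
  · exact hconj row3 (by simp) yb β 4 hB rfl rfl h
  · subst h; simpa [wordVal, letters, mul_assoc] using hA.cube
  · subst h; simpa [wordVal, letters, mul_assoc] using hB.cube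
  · subst h
    simp only [wordVal, List.map_cons, List.map_nil, List.prod_cons, List.prod_nil, mul_one]
    show α * (β * (α⁻¹ * β⁻¹)) = 1
    rw [← mul_assoc, hc]
    group
  · obtain ⟨hlt, hv⟩ := hp q hq
    obtain ⟨e, l⟩ := D.val_H α β h2
    rw [← h1]
    simp only [wordVal, List.map_append, List.prod_append] at hv e ⊢
    rw [hv, e]
    exact hz _ _ hlt l h3

theorem pow_word {α β γ : G} (a : ℕ) (ha : letters φ α β a = γ) {u : List ℕ} (hu : u.all isH = true) (n : ℕ) :
    wordVal (letters φ α β) (List.replicate n (a :: u)).flatten = (γ * φ (hval u)) ^ n := by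
  obtain ⟨e, -⟩ := D.val_H α β hu
  simp only [wordVal] at e ⊢
  rw [List.map_flatten, List.map_replicate, List.prod_flatten, List.map_replicate, List.prod_replicate, List.map_cons,
    List.prod_cons, e, ha]

end Dat

end CfsgQS3
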