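import Cfsg.Agent.Lib.QS3.Coords
import Cfsg.Agent.Lib.QS3.Formula
import Cfsg.Agent.Lib.ExtraspecialTwo

/-!
Groups with an involution centraliser `Q.S₃`: the coordinates and their construction from the hypotheses.
-/

set_option autoImplicit false
set_option maxRecDepth 100000

namespace CfsgQS3

variable {G : Type*} [Group G] {s : G} {Q : Subgroup G} {x j a a' : G}

/-- Coordinates with the action of `j` prescribed by the type. -/
theorem Frame.dat [Finite G] (F : Frame s Q x a a') (S : Shape s Q x j) {k : ℕ} (hk : k < 4)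
    (hsq : j * j = if k % 2 = 1 then s else 1)
    (hj : ∀ g, g ∈ [8, 1] → qel s x a a' (qtau k g) = j * qel s x a a' g * j⁻¹) :
    Dat s k (fun n => qel s x a a' (n / 6) * x ^ (n / 2 % 3) * j ^ (n % 2)) := by
  classical
  set f := qel s x a a' with hf
  have hjmap : ∀ q < 32, f (qtau k q) = j * f q * j⁻¹ := by
    refine q_induction ?_ ?_ ?_
    · rw [show qtau k 0 = 0 from (by decide +kernel : ∀ k < 4, qtau k 0 = 0) k hk, hf, qel_gen.2.2.2.2.2.2.2.1]; group
    · intro g hg
      simp only [List.mem_cons, List.not_mem_nil, or_false] at hg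
      have h8 := hj 8 (by decide)
      have h1 := hj 1 (by decide)
      rcases hg with rfl | rfl | rfl | rfl
      · exact h8
      · have r : ∀ k < 4, qtau k 16 = qrot 2 (qtau k 8) ∧ qtau k 8 < 32 := by decide +kernel
        rw [(r k hk).1, hf, F.rot S (by norm_num) (r k hk).2, ← hf, h8, hf, qel_gen.1, qel_gen.2.1, S.conj_rot, S.xinv, pow_two]
        group
      · exact h1
      · have r : ∀ k < 4, qtau k 2 = qrot 2 (qtau k 1) ∧ qtau k 1 < 32 := by decide +kernel
        rw [(r k hk).1, hf, F.rot S (by norm_num) (r k hk).2, ← hf, h1, hf, qel_gen.2.2.2.1, qel_gen.2.2.2.2.1, S.conj_rot, S.xinv,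
          pow_two]
        group
    · intro q hq p hp ihq ihp
      rw [(qtau_facts k hk q hq).2 p hp, hf, F.qmul_el S (qtau_facts k hk q hq).1 (qtau_facts k hk p hp).1, ← hf, ihq,
        ihp, hf, F.qmul_el S hq hp]
      group
  have hx3 : x ^ 3 = 1 := by rw [pow_succ, pow_two, S.x3]
  have hrot : ∀ i < 3, ∀ q < 32, x ^ i * f q = f (qrot i q) * x ^ i := fun i hi q hq => by
    rw [hf, F.rot S hi hq]; group
  have hxmod : ∀ n : ℕ, x ^ (n % 3) = x ^ n := fun n => by
    conv_rhs => rw [← Nat.mod_add_div n 3, pow_add, pow_mul, hx3, one_pow, mul_one]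
  have hjx : ∀ l, l < 3 → j * x ^ l = x ^ (3 - l) * j := by
    have e : j * x = x⁻¹ * j := mul_inv_eq_iff_eq_mul.1 S.jx
    have ei : x⁻¹ = x ^ 2 := inv_eq_of_mul_eq_one_right (by rw [← pow_succ', hx3])
    intro l hl
    interval_cases l
    · simp [hx3]
    · simpa [ei] using e
    · rw [pow_two, ← mul_assoc, e, mul_assoc, e, ← mul_assoc, show (3 : ℕ) - 2 = 1 from rfl, pow_one]
      rw [show x⁻¹ * x⁻¹ = (x * x)⁻¹ by group, inv_eq_of_mul_eq_one_right (a := x * x) (b := x) S.x3]
  have hf4 : f 4 = s := qel_gen.2.2.2.2.2.2.1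
  have hxs : ∀ i : ℕ, Commute (x ^ i) s := fun i => (show Commute x s from S.cs.1).pow_left i
  have hinj : ∀ n < 192, ∀ m < 192, f (n / 6) * x ^ (n / 2 % 3) * j ^ (n % 2) =
      f (m / 6) * x ^ (m / 2 % 3) * j ^ (m % 2) → n = m := by
    intro n hn m hm e
    obtain ⟨hq, en⟩ := code_eq k hk n hn
    obtain ⟨hp, em⟩ := code_eq k hk m hm
    have hQ : ∀ r < 192, f (r / 6) ∈ Q := fun r hr => F.q_mem S _ (code_eq k hk r hr).1
    have h1 : x ^ (n / 2 % 3) * j ^ (n % 2) * (x ^ (m / 2 % 3) * j ^ (m % 2))⁻¹ ∈ Q := by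
      have e' : x ^ (n / 2 % 3) * j ^ (n % 2) * (x ^ (m / 2 % 3) * j ^ (m % 2))⁻¹ = (f (n / 6))⁻¹ * f (m / 6) := by
        calc x ^ (n / 2 % 3) * j ^ (n % 2) * (x ^ (m / 2 % 3) * j ^ (m % 2))⁻¹
            = (f (n / 6))⁻¹ * (f (n / 6) * x ^ (n / 2 % 3) * j ^ (n % 2)) * (x ^ (m / 2 % 3) * j ^ (m % 2))⁻¹ := by
              group
          _ = _ := by rw [e]; group
      rw [e']
      exact Q.mul_mem (Q.inv_mem (hQ n hn)) (hQ m hm)
    obtain ⟨o1, o2, o3, o4⟩ := S.outside
    have hx2 : x ^ 2 ∉ Q := fun h => o1 (by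
      have := Q.mul_mem h h
      rwa [← pow_add, show 2 + 2 = 3 + 1 from rfl, pow_succ, hx3, one_mul] at this)
    have hout : ∀ a < 3, ∀ b < 2, ∀ c < 3, ∀ d < 2, x ^ a * j ^ b * (x ^ c * j ^ d)⁻¹ ∈ Q → a = c ∧ b = d := by
      intro a ha b hb c hc d hd hm
      have hj2 : ∀ w, x ^ w * j ∉ Q := fun w hw => by
        rw [← hxmod] at hw
        have hwQ := S.normJ _ hw
        rw [show j * (x ^ (w % 3) * j) * j⁻¹ = j * x ^ (w % 3) by group] at hwQ
        obtain hw3 := Nat.mod_lt w (show 0 < 3 by norm_num)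
        interval_cases h : w % 3
        · simp at hwQ; exact o2 hwQ
        · simp at hwQ; exact o3 hwQ
        · rw [pow_two, ← mul_assoc] at hwQ; exact o4 hwQ
      have hm' := hm
      rw [show x ^ a * j ^ b * (x ^ c * j ^ d)⁻¹ = x ^ a * (j ^ b * (j ^ d)⁻¹) * (x ^ c)⁻¹ by group] at hm
      have e3 : (x ^ c)⁻¹ = x ^ (3 - c) := inv_eq_of_mul_eq_one_right (by rw [← pow_add, show c + (3 - c) = 3 by omega, hx3])
      interval_cases b <;> interval_cases d
      · simp only [pow_zero, inv_one, mul_one, e3, ← pow_add] at hm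
        rw [← hxmod] at hm
        refine ⟨?_, rfl⟩
        by_contra hne
        have : (a + (3 - c)) % 3 = 1 ∨ (a + (3 - c)) % 3 = 2 := by omega
        rcases this with h | h <;> rw [h] at hm
        · exact o1 (by simpa using hm)
        · exact hx2 hm
      · exfalso
        have := Q.inv_mem hm'
        simp only [pow_zero, pow_one, mul_one, mul_inv_rev, inv_inv] at this
        have e4 : (x ^ a)⁻¹ = x ^ (3 - a) := inv_eq_of_mul_eq_one_right (by rw [← pow_add, show a + (3 - a) = 3 by omega, hx3])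
        have hc' : x ^ c * j * (x ^ a)⁻¹ = x ^ c * x ^ (3 - (3 - a) % 3) * j := by
          rw [e4, ← hxmod (3 - a), mul_assoc, hjx _ (Nat.mod_lt _ (by norm_num)), mul_assoc]
        rw [hc', ← pow_add] at this
        exact hj2 _ this
      · exfalso
        simp only [pow_zero, pow_one, inv_one, mul_one] at hm
        rw [e3, ← hxmod (3 - c), mul_assoc, hjx _ (Nat.mod_lt _ (by norm_num)), ← mul_assoc, ← pow_add] at hm
        exact hj2 _ hm
      · simp only [pow_one, mul_inv_cancel, mul_one, e3, ← pow_add] at hm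
        rw [← hxmod] at hm
        refine ⟨?_, rfl⟩
        by_contra hne
        have : (a + (3 - c)) % 3 = 1 ∨ (a + (3 - c)) % 3 = 2 := by omega
        rcases this with h | h <;> rw [h] at hm
        · exact o1 (by simpa using hm)
        · exact hx2 hm
    obtain ⟨e1, e2⟩ := hout _ (Nat.mod_lt _ (by norm_num)) _ (Nat.mod_lt _ (by norm_num)) _ (Nat.mod_lt _ (by norm_num))
      _ (Nat.mod_lt _ (by norm_num)) h1
    rw [e1, e2, mul_assoc, mul_assoc] at e
    have := F.q_inj S _ hq _ hp (mul_right_cancel e)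
    omega
  refine ⟨hk, fun n hn m hm => ?_, hinj, ?_, ?_⟩
  · -- multiplication
    obtain ⟨hq, en⟩ := code_eq k hk n hn
    obtain ⟨hp, -⟩ := code_eq k hk m hm
    set q := n / 6
    set i := n / 2 % 3
    set p := m / 6 with hpdef
    set l := m / 2 % 3 with hldef
    have hi : i < 3 := Nat.mod_lt _ (by norm_num)
    have hl : l < 3 := Nat.mod_lt _ (by norm_num)
    have hr : ∀ q < 32, qrot i q < 32 := fun q hq => (by decide +kernel : ∀ i < 3, ∀ q < 32, qrot i q < 32) i hi q hq
    have hqm : ∀ q < 32, ∀ p < 32, qmul q p < 32 := fun q hq p hp => ((qrot_facts q hq).2.2.2.2.2 p hp).2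
    have split : ∀ v < 32, ∀ w < 3, ∀ e < 2, (6 * v + 2 * w + e) / 6 = v ∧ (6 * v + 2 * w + e) / 2 % 3 = w ∧
        (6 * v + 2 * w + e) % 2 = e := fun v _ w hw e he => by omega
    obtain hr0 | hr1 := Nat.mod_two_eq_zero_or_one n
    · have e := List.all_eq_true.1 (List.all_eq_true.1 (List.all_eq_true.1 (mmul_formula k hk) m (List.mem_range.2 hm)) q
        (List.mem_range.2 hq)) i (List.mem_range.2 hi)
      rw [beq_iff_eq, ← hpdef, ← hldef] at e
      have en' : n = 6 * q + 2 * i := by omega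
      have hv := hqm q hq _ (hr p hp)
      obtain ⟨d1, d2, d3⟩ := split _ hv _ (Nat.mod_lt (i + l) (by norm_num : 0 < 3)) _ (Nat.mod_lt m (by norm_num : 0 < 2))
      rw [← en'] at e
      simp only [e, d1, d2, d3, hr0, pow_zero, mul_one, hxmod, pow_add]
      rw [hf, F.qmul_el S hq (hr p hp), ← hf]
      calc f q * f (qrot i p) * (x ^ i * x ^ l) * j ^ (m % 2)
          = f q * (f (qrot i p) * x ^ i) * x ^ l * j ^ (m % 2) := by group
        _ = f q * x ^ i * (f p * x ^ l * j ^ (m % 2)) := by rw [← hrot i hi p hp]; group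
    · have e := List.all_eq_true.1 (List.all_eq_true.1 (List.all_eq_true.1 (mmul_formula' k hk) m (List.mem_range.2 hm)) q
        (List.mem_range.2 hq)) i (List.mem_range.2 hi)
      rw [beq_iff_eq, ← hpdef, ← hldef] at e
      have en' : n = 6 * q + 2 * i + 1 := by omega
      have ht := (qtau_facts k hk p hp).1
      have hv := hqm q hq _ (hr _ ht)
      rw [← en'] at e
      have key : f q * x ^ i * j ^ 1 * (f p * x ^ l * j ^ (m % 2)) =
          f (qmul q (qrot i (qtau k p))) * x ^ ((i + (3 - l)) % 3) * (j * j ^ (m % 2)) := by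
        rw [hxmod (i + (3 - l)), pow_add, hf, F.qmul_el S hq (hr _ ht), ← hf, pow_one]
        have e1 : j * f p = f (qtau k p) * j := by rw [hjmap p hp]; group
        calc f q * x ^ i * j * (f p * x ^ l * j ^ (m % 2))
            = f q * x ^ i * (j * f p) * x ^ l * j ^ (m % 2) := by group
          _ = f q * (x ^ i * f (qtau k p)) * (j * x ^ l) * j ^ (m % 2) := by rw [e1]; group
          _ = _ := by rw [hrot i hi _ ht, hjx l hl]; group
      simp only [e]
      rw [hr1, key]
      obtain hm0 | hm1 := Nat.mod_two_eq_zero_or_one m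
      · rw [if_neg (by omega)]
        obtain ⟨d1, d2, d3⟩ := split _ hv _ (Nat.mod_lt (i + (3 - l)) (by norm_num : 0 < 3)) 1 (by norm_num)
        rw [hm0, show (1 + 0) % 2 = 1 from rfl, d1, d2, d3, pow_zero, mul_one, pow_one]
      · rw [hm1, show (1 + 1) % 2 = 0 from rfl, pow_one, hsq]
        simp only [true_and]
        by_cases hk2 : k % 2 = 1
        · rw [if_pos hk2]
          obtain ⟨d1, d2, d3⟩ := split _ (hqm _ hv 4 (by norm_num)) _ (Nat.mod_lt (i + (3 - l)) (by norm_num : 0 < 3)) 0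
            (by norm_num)
          rw [d1, d2, d3, pow_zero, mul_one, hf, F.qmul_el S hv (by norm_num), ← hf, hf4, if_pos hk2, mul_assoc, ← (hxs _).eq, mul_assoc]
        · rw [if_neg hk2]
          obtain ⟨d1, d2, d3⟩ := split _ hv _ (Nat.mod_lt (i + (3 - l)) (by norm_num : 0 < 3)) 0 (by norm_num)
          rw [d1, d2, d3, pow_zero, if_neg hk2]
  · -- range
    intro c
    let C := Subgroup.centralizer ({s} : Set G)
    have hmem : ∀ n : Fin 192, f (n.1 / 6) * x ^ (n.1 / 2 % 3) * j ^ (n.1 % 2) ∈ C := fun n =>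
      C.mul_mem (C.mul_mem (Subgroup.mem_centralizer_singleton_iff.2 (S.le _ (F.q_mem S _ (by omega))))
        (C.pow_mem (Subgroup.mem_centralizer_singleton_iff.2 S.cs.1) _))
        (C.pow_mem (Subgroup.mem_centralizer_singleton_iff.2 S.cs.2) _)
    refine ⟨fun hc => ?_, fun ⟨n, hn, e⟩ => e ▸ Subgroup.mem_centralizer_singleton_iff.1 (hmem ⟨n, hn⟩)⟩
    have hb : Function.Bijective (fun n : Fin 192 => (⟨_, hmem n⟩ : C)) :=
      (Nat.bijective_iff_injective_and_card _).2 ⟨fun n m e => Fin.ext (hinj n n.2 m m.2 (congrArg Subtype.val e)),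
        by rw [Nat.card_fin, S.cover]⟩
    obtain ⟨n, hn⟩ := hb.2 ⟨c, Subgroup.mem_centralizer_singleton_iff.2 hc⟩
    exact ⟨n, n.2, congrArg Subtype.val hn⟩
  · show qel s x a a' (24 / 6) * x ^ (24 / 2 % 3) * j ^ (24 % 2) = s
    rw [show 24 / 6 = 4 from rfl, qel_gen.2.2.2.2.2.2.1]
    simp

end CfsgQS3
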