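import Cfsg.Agent.Lib.QS3.Quat

/-!
Groups with an involution centraliser `Q.S₃`: coordinates on the centraliser.
-/

set_option autoImplicit false
set_option maxRecDepth 100000

namespace CfsgQS3

/-- Coordinates of type `k` on the centraliser of `s`. -/
structure Dat {G : Type*} [Group G] (s : G) (k : ℕ) (φ : ℕ → G) : Prop where
  type : k < 4
  mul : ∀ x < 192, ∀ y < 192, φ (mmul k x y) = φ x * φ y
  inj : ∀ x < 192, ∀ y < 192, φ x = φ y → x = y
  cent : ∀ c : G, c * s = s * c ↔ ∃ x < 192, φ x = c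
  zc : φ 24 = s

/-- The centraliser data: the normal subgroup `Q`, the element `x` of order three and `j` inverting it. -/
structure Shape {G : Type*} [Group G] (s : G) (Q : Subgroup G) (x j : G) : Prop where
  s_mem : s ∈ Q
  s_ne : s ≠ 1
  ss : s * s = 1
  center : ∀ q ∈ Q, (∀ p ∈ Q, q * p = p * q) → q = 1 ∨ q = s
  sq : ∀ q ∈ Q, q * q = 1 ∨ q * q = s
  cardQ : Nat.card Q = 32
  le : ∀ q ∈ Q, q * s = s * q
  cs : x * s = s * x ∧ j * s = s * j
  normX : ∀ q ∈ Q, x * q * x⁻¹ ∈ Q
  normJ : ∀ q ∈ Q, j * q * j⁻¹ ∈ Q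
  x3 : x * x * x = 1
  jx : j * x * j⁻¹ = x⁻¹
  jj : j * j = 1 ∨ j * j = s
  fpf : ∀ q ∈ Q, x * q = q * x → q = 1 ∨ q = s
  outside : x ∉ Q ∧ j ∉ Q ∧ j * x ∉ Q ∧ j * x * x ∉ Q
  cover : Nat.card (Subgroup.centralizer ({s} : Set G)) = 192

variable {G : Type*} [Group G] {s : G} {Q : Subgroup G} {x j : G}

/-- The element attached to a code by four generators, `x` and `j`. -/
def code {G : Type*} [Group G] (s a a' x j : G) (n : ℕ) : G :=
  pairF s a (x * a * x⁻¹) (x * (x * a * x⁻¹) * x⁻¹) a' (x * a' * x⁻¹) (x * (x * a' * x⁻¹) * x⁻¹) (n / 6) *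
    x ^ (n / 2 % 3) * j ^ (n % 2)

namespace Shape

variable (S : Shape s Q x j)
include S

theorem comm_s {q : G} (hq : q ∈ Q) : s * q = q * s := (S.le q hq).symm

theorem pow_four {q : G} (hq : q ∈ Q) : q * q * (q * q) = 1 := by
  rcases S.sq q hq with e | e <;> rw [e]
  · exact mul_one 1
  · exact S.ss

/-- The commutator of two elements of `Q` is trivial or `s`. -/
theorem comm_cases {q p : G} (hq : q ∈ Q) (hp : p ∈ Q) : q * p = p * q ∨ q * p = p * q * s := by
  have key : q * p * (p * q)⁻¹ = (q * q) * ((q⁻¹ * p) * (q⁻¹ * p)) * (p * p)⁻¹ := by group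
  have h4 : q * p * (p * q)⁻¹ = 1 ∨ q * p * (p * q)⁻¹ = s := by
    rw [key]
    have hsinv : s⁻¹ = s := inv_eq_of_mul_eq_one_right S.ss
    rcases S.sq q hq with e1 | e1 <;> rcases S.sq _ (Q.mul_mem (Q.inv_mem hq) hp) with e2 | e2 <;>
      rcases S.sq p hp with e3 | e3 <;> rw [e1, e2, e3] <;> simp [S.ss, hsinv]
  rcases h4 with h4 | h4
  · exact Or.inl (mul_inv_eq_one.1 h4)
  · exact Or.inr (by rw [mul_inv_eq_iff_eq_mul.1 h4, S.comm_s (Q.mul_mem hp hq)])

/-- An element of order four and its two rotations. -/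
theorem quat {a : G} (ha : a ∈ Q) (haa : a * a = s) :
    ∃ a₁, (a₁ = a ∨ a₁ = a * s) ∧ Quat s a₁ (x * a₁ * x⁻¹) (x * (x * a₁ * x⁻¹) * x⁻¹) := by
  have hx3 := S.x3
  have hxs : x * s * x⁻¹ = s := by rw [S.cs.1, mul_inv_cancel_right]
  set b := x * a * x⁻¹ with hb
  set c := x * b * x⁻¹ with hc
  have hbQ : b ∈ Q := S.normX a ha
  have hcQ : c ∈ Q := S.normX b hbQ
  have hbb : b * b = s := by rw [hb, show x * a * x⁻¹ * (x * a * x⁻¹) = x * (a * a) * x⁻¹ by group, haa, hxs]
  have hcc : c * c = s := by rw [hc, show x * b * x⁻¹ * (x * b * x⁻¹) = x * (b * b) * x⁻¹ by group, hbb, hxs]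
  have hxc : x * c * x⁻¹ = a := by
    rw [hc, hb, show x * (x * (x * a * x⁻¹) * x⁻¹) * x⁻¹ = (x * x * x) * a * (x * x * x)⁻¹ by group, hx3, one_mul,
      inv_one, mul_one]
  set w := a * b * c with hw
  have hwQ : w ∈ Q := Q.mul_mem (Q.mul_mem ha hbQ) hcQ
  have hxw : x * w * x⁻¹ = a⁻¹ * w * a := by
    rw [hw, show x * (a * b * c) * x⁻¹ = (x * a * x⁻¹) * (x * b * x⁻¹) * (x * c * x⁻¹) by group, ← hb, ← hc, hxc]
    group
  have hfix : x * w = w * x := by
    rcases S.comm_cases (Q.inv_mem ha) hwQ with e | e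
    · rw [e, mul_assoc w, inv_mul_cancel, mul_one] at hxw
      exact mul_inv_eq_iff_eq_mul.1 hxw
    · exfalso
      rw [e, show w * a⁻¹ * s * a = w * s by rw [mul_assoc (w * a⁻¹), S.comm_s ha]; group] at hxw
      have hs3 : w = w * s := by
        conv_lhs => rw [show w = (x * x * x) * w * (x * x * x)⁻¹ by rw [hx3]; group]
        rw [show x * x * x * w * (x * x * x)⁻¹ = x * (x * (x * w * x⁻¹) * x⁻¹) * x⁻¹ by group, hxw,
          show x * (x * (w * s) * x⁻¹) * x⁻¹ = x * ((x * w * x⁻¹) * (x * s * x⁻¹)) * x⁻¹ by group, hxw, hxs,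
          show x * (w * s * s) * x⁻¹ = x * w * x⁻¹ * (x * (s * s) * x⁻¹) by group, hxw, S.ss, mul_one,
          mul_inv_cancel, mul_one]
      exact S.s_ne (mul_eq_left.1 hs3.symm)
  have hsc : s * c = c * s := S.comm_s hcQ
  have habc : a * b = w * c⁻¹ := by rw [hw, mul_inv_cancel_right]
  have hcinv : c⁻¹ = c * s := inv_eq_of_mul_eq_one_right (by rw [← mul_assoc, hcc, S.ss])
  rcases S.fpf w hwQ hfix with e | e
  · refine ⟨a * s, Or.inr rfl, ?_⟩
    rw [e, one_mul, hcinv] at habc
    have e1 : x * (a * s) * x⁻¹ = b * s := by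
      rw [show x * (a * s) * x⁻¹ = x * a * x⁻¹ * (x * s * x⁻¹) by group, hxs]
    have e2 : x * (b * s) * x⁻¹ = c * s := by
      rw [show x * (b * s) * x⁻¹ = x * b * x⁻¹ * (x * s * x⁻¹) by group, hxs]
    have sqs : ∀ y ∈ Q, y * y = s → y * s * (y * s) = s := fun y hy e => by
      rw [mul_assoc, ← mul_assoc s, S.comm_s hy, mul_assoc y s, S.ss, mul_one, e]
    rw [e1, e2]
    exact ⟨sqs a ha haa, sqs b hbQ hbb, sqs c hcQ hcc, by
      rw [mul_assoc, ← mul_assoc s, S.comm_s hbQ, mul_assoc b, S.ss, mul_one, habc], S.ss,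
      by rw [← mul_assoc, S.comm_s ha], by rw [← mul_assoc, S.comm_s hbQ]⟩
  · refine ⟨a, Or.inl rfl, ⟨haa, hbb, hcc, ?_, S.ss, S.comm_s ha, S.comm_s hbQ⟩⟩
    show a * b = c
    rw [habc, e, hcinv, ← mul_assoc, hsc, mul_assoc, S.ss, mul_one]

/-- A second quaternion subgroup centralising the first. -/
theorem second {a : G} (ha : a ∈ Q) (h : Quat s a (x * a * x⁻¹) (x * (x * a * x⁻¹) * x⁻¹)) :
    ∃ a' ∈ Q, a' * a' = s ∧ Commute a a' ∧ Commute (x * a * x⁻¹) a' ∧ Commute a (x * a' * x⁻¹) ∧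
      Commute (x * a * x⁻¹) (x * a' * x⁻¹) := by
  classical
  set b := x * a * x⁻¹ with hb
  set c := x * b * x⁻¹ with hc
  have hbQ : b ∈ Q := S.normX a ha
  have hcQ : c ∈ Q := S.normX b hbQ
  have hxc : x * c * x⁻¹ = a := by
    rw [hc, hb, show x * (x * (x * a * x⁻¹) * x⁻¹) * x⁻¹ = (x * x * x) * a * (x * x * x)⁻¹ by group, S.x3, one_mul,
      inv_one, mul_one]
  have hcab : c = a * b := h.ab.symm
  -- the elements centralising the quaternion subgroup
  let C := fun q : G => q ∈ Q ∧ q * a = a * q ∧ q * b = b * q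
  have hCx : ∀ q, C q → C (x * q * x⁻¹) := fun q hq => by
    refine ⟨S.normX q hq.1, ?_, ?_⟩
    · have hqc : q * c = c * q := by rw [hcab, ← mul_assoc, hq.2.1, mul_assoc, hq.2.2, ← mul_assoc]
      rw [← hxc, show x * q * x⁻¹ * (x * c * x⁻¹) = x * (q * c) * x⁻¹ by group, hqc]; group
    · rw [hb, show x * q * x⁻¹ * (x * a * x⁻¹) = x * (q * a) * x⁻¹ by group, hq.2.1]; group
  have hsplit : ∀ q ∈ Q, ∃ u : Bool × Bool, C (q * (if u.1 then a else 1) * (if u.2 then b else 1)) := by
    intro q hq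
    have ab : a * b = b * a * s := by rw [h.ba, mul_assoc, S.ss, mul_one, h.ab]
    have ba : b * a = a * b * s := h.ba.trans (by rw [hcab])
    have cc : ∀ q p y : G, q * y = y * q → p * y = y * p → q * p * y = y * (q * p) := fun q p y e e' => by
      rw [mul_assoc, e', ← mul_assoc, e, mul_assoc]
    have cf : ∀ q p y : G, q * y = y * q → p * y = y * p * s → q * p * y = y * (q * p) * s := fun q p y e e' => by
      rw [mul_assoc, e', ← mul_assoc, ← mul_assoc, e, mul_assoc y q p]
    have fc : ∀ q p y : G, q * y = y * q * s → p ∈ Q → p * y = y * p → q * p * y = y * (q * p) * s :=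
      fun q p y e hp e' => by
        rw [mul_assoc, e', ← mul_assoc, e, mul_assoc (y * q), S.comm_s hp, ← mul_assoc, mul_assoc y q p]
    have ff : ∀ q p y : G, q * y = y * q * s → p ∈ Q → p * y = y * p * s → q * p * y = y * (q * p) :=
      fun q p y e hp e' => by
        rw [mul_assoc, e', ← mul_assoc, ← mul_assoc, e, mul_assoc (y * q), S.comm_s hp, ← mul_assoc,
          mul_assoc _ s s, S.ss, mul_one, mul_assoc y q p]
    rcases S.comm_cases hq ha with ea | ea <;> rcases S.comm_cases hq hbQ with eb | eb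
    · exact ⟨(false, false), by simpa using hq, by simpa using ea, by simpa using eb⟩
    · exact ⟨(true, false), by simpa using Q.mul_mem hq ha, by simpa using cc q a a ea rfl,
        by simpa using ff q a b eb ha ab⟩
    · exact ⟨(false, true), by simpa using Q.mul_mem hq hbQ, by simpa using ff q b a ea hbQ ba,
        by simpa using cc q b b eb rfl⟩
    · exact ⟨(true, true), by simpa using Q.mul_mem (Q.mul_mem hq ha) hbQ,
        by simpa using ff (q * a) b a (fc q a a ea ha rfl) hbQ ba,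
        by simpa using cc (q * a) b b (ff q a b eb ha ab) rfl⟩
  by_contra hcon
  push Not at hcon
  -- otherwise the centralising elements form a group of exponent two
  have hC2 : ∀ q, C q → q * q = 1 := by
    intro q hq
    refine (S.sq q hq.1).resolve_right fun e => ?_
    have hq' := hCx q hq
    exact hcon q hq.1 e hq.2.1.symm hq.2.2.symm hq'.2.1.symm hq'.2.2.symm
  have hCm : ∀ q p, C q → C p → C (q * p) := fun q p hq hp => ⟨Q.mul_mem hq.1 hp.1,
    by rw [mul_assoc, hp.2.1, ← mul_assoc, hq.2.1, mul_assoc], by rw [mul_assoc, hp.2.2, ← mul_assoc, hq.2.2, mul_assoc]⟩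
  have hCc : ∀ q p, C q → C p → q * p = p * q := fun q p hq hp => by
    have e : (q * p) * (q * p) = 1 := hC2 _ (hCm q p hq hp)
    calc q * p = q * ((q * p) * (q * p)) * p := by rw [e, mul_one, ]
      _ = (q * q) * p * q * (p * p) := by group
      _ = p * q := by rw [hC2 q hq, hC2 p hp, one_mul, mul_one]
  have hin : ∀ q, C q → q = 1 ∨ q = s := fun q hq => S.center q hq.1 fun p hp => by
    obtain ⟨⟨u, v⟩, hu⟩ := hsplit p hp
    set A := if u then a else 1
    set B := if v then b else 1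
    have hA : q * A = A * q := by
      simp only [A]; split_ifs
      · exact hq.2.1
      · simp
    have hB : q * B = B * q := by
      simp only [B]; split_ifs
      · exact hq.2.2
      · simp
    calc q * p = q * (p * A * B) * B⁻¹ * A⁻¹ := by group
      _ = (p * A * B) * q * B⁻¹ * A⁻¹ := by rw [hCc q _ hq hu]
      _ = (p * A * B) * (B⁻¹ * q) * A⁻¹ := by
          rw [mul_assoc (p * A * B) q, (Commute.inv_right (show Commute q B from hB)).eq]
      _ = p * A * (q * A⁻¹) := by group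
      _ = p * A * (A⁻¹ * q) := by rw [(Commute.inv_right (show Commute q A from hA)).eq]
      _ = p * q := by group
  -- so `Q` has at most eight elements
  have hle : Nat.card Q ≤ Nat.card (Bool × Bool × Bool) := by
    refine Nat.card_le_card_of_injective (fun q : Q => ((hsplit q q.2).choose.1, (hsplit q q.2).choose.2,
      decide ((q : G) * (if (hsplit q q.2).choose.1 then a else 1) * (if (hsplit q q.2).choose.2 then b else 1) = 1))) ?_
    intro q p hqp
    simp only [Prod.mk.injEq] at hqp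
    obtain ⟨e1, e2, e3⟩ := hqp
    have h1 := hin _ (hsplit q q.2).choose_spec
    have h2 := hin _ (hsplit p p.2).choose_spec
    rw [← e1, ← e2] at h2 e3
    rw [decide_eq_decide] at e3
    apply Subtype.ext
    apply mul_right_cancel (b := if (hsplit q q.2).choose.1 then a else 1)
    apply mul_right_cancel (b := if (hsplit q q.2).choose.2 then b else 1)
    rcases h1 with h1 | h1
    · rw [h1]; exact (e3.1 h1).symm
    · rcases h2 with h2 | h2
      · rw [e3.2 h2, h2]
      · rw [h1, h2]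
  rw [S.cardQ] at hle
  simp at hle

end Shape

end CfsgQS3
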